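import Mathlib.GroupTheory.Sylow
import Mathlib.GroupTheory.QuotientGroup.Basic
import Mathlib.GroupTheory.Subgroup.Centralizer

/-!
# Extension of isomorphisms between `p`-subgroups to automorphisms

`IsoExt p G`: every isomorphism between `p`-subgroups of `G` is the restriction of an automorphism of `G`.
It passes to characteristic subgroups and to quotients by characteristic subgroups of order prime to `p`.
`autN N U`: the automizer `Aut_N(U)`; it is normal in `MulAut U` when `N` is characteristic.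
-/

set_option autoImplicit false
set_option linter.style.haveILetI false

namespace Cfsg.Agent.Homogeneous

open Subgroup

variable {G : Type*} [Group G]

/-- Every isomorphism between `p`-subgroups extends to an automorphism. -/
def IsoExt (p : ℕ) (G : Type*) [Group G] : Prop :=
  ∀ (A B : Subgroup G), IsPGroup p A → ∀ e : A ≃* B, ∃ φ : G ≃* G, ∀ a : A, φ (a : G) = (e a : G)

/-- Every isomorphism between subgroups extends to an automorphism. -/
def IsHomogeneous (G : Type*) [Group G] : Prop :=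
  ∀ (A B : Subgroup G) (e : A ≃* B), ∃ φ : G ≃* G, ∀ a : A, φ (a : G) = (e a : G)

theorem IsHomogeneous.isoExt (h : IsHomogeneous G) (p : ℕ) : IsoExt p G := fun A B _ e => h A B e

/-- An automorphism restricts to a characteristic subgroup. -/
def restrictChar {N : Subgroup G} (hN : N.Characteristic) (φ : G ≃* G) : N ≃* N :=
  (φ.subgroupMap N).trans (MulEquiv.subgroupCongr (characteristic_iff_map_eq.1 hN φ))

theorem coe_restrictChar {N : Subgroup G} (hN : N.Characteristic) (φ : G ≃* G) (x : N) :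
    (restrictChar hN φ x : G) = φ (x : G) := rfl

theorem apply_mem_of_characteristic {N : Subgroup G} (hN : N.Characteristic) (φ : G ≃* G) {x : G}
    (hx : x ∈ N) : φ x ∈ N :=
  characteristic_iff_map_le.1 hN φ ⟨x, hx, rfl⟩

/-- A characteristic subgroup of a homogeneous group is homogeneous. -/
theorem IsHomogeneous.subgroup (h : IsHomogeneous G) (N : Subgroup G) (hN : N.Characteristic) :
    IsHomogeneous N := by
  intro A B e
  let eA := A.equivMapOfInjective N.subtype N.subtype_injective
  let eB := B.equivMapOfInjective N.subtype N.subtype_injective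
  obtain ⟨φ, hφ⟩ := h _ _ ((eA.symm.trans e).trans eB)
  refine ⟨restrictChar hN φ, fun a => Subtype.ext ?_⟩
  have := hφ (eA a)
  rw [MulEquiv.trans_apply, MulEquiv.trans_apply, MulEquiv.symm_apply_apply] at this
  exact this

namespace IsoExt

variable {p : ℕ}

theorem subgroup (h : IsoExt p G) (N : Subgroup G) (hN : N.Characteristic) : IsoExt p N := by
  intro A B hA e
  let eA := A.equivMapOfInjective N.subtype N.subtype_injective
  let eB := B.equivMapOfInjective N.subtype N.subtype_injective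
  obtain ⟨φ, hφ⟩ := h _ _ (hA.map N.subtype) ((eA.symm.trans e).trans eB)
  refine ⟨restrictChar hN φ, fun a => Subtype.ext ?_⟩
  have := hφ (eA a)
  rw [MulEquiv.trans_apply, MulEquiv.trans_apply, MulEquiv.symm_apply_apply] at this
  exact this

/-- A `p`-subgroup of a quotient by a normal `p'`-subgroup lifts isomorphically. -/
theorem exists_lift [Finite G] [hp : Fact p.Prime] (N : Subgroup G) [N.Normal]
    (hN : ¬ p ∣ Nat.card N) (Q : Subgroup (G ⧸ N)) (hQ : IsPGroup p Q) :
    ∃ A : Subgroup G, IsPGroup p A ∧ A.map (QuotientGroup.mk' N) = Q ∧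
      ∀ a ∈ A, QuotientGroup.mk' N a = 1 → a = 1 := by
  set L := Q.comap (QuotientGroup.mk' N) with hL
  obtain ⟨P⟩ : Nonempty (Sylow p L) := inferInstance
  set A := (P : Subgroup L).map L.subtype with hA
  have hAp : IsPGroup p A := P.2.map _
  have htriv : ∀ a ∈ A, QuotientGroup.mk' N a = 1 → a = 1 := by
    intro a ha h1
    have haN : a ∈ N := (QuotientGroup.eq_one_iff a).1 h1
    have hd : A ⊓ N = ⊥ := by
      refine (disjoint_of_coprime_natCard ?_).eq_bot
      obtain ⟨k, hk⟩ := IsPGroup.iff_card.1 hAp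
      rw [hk]
      exact ((hp.out.coprime_iff_not_dvd).2 hN).pow_left k
    exact Subgroup.mem_bot.1 (hd ▸ Subgroup.mem_inf.2 ⟨ha, haN⟩)
  refine ⟨A, hAp, ?_, htriv⟩
  refine le_antisymm ?_ ?_
  · rintro _ ⟨a, ⟨b, -, rfl⟩, rfl⟩
    exact b.2
  · -- compare orders
    have hmap : L.map (QuotientGroup.mk' N) = Q :=
      map_comap_eq_self_of_surjective (QuotientGroup.mk'_surjective N) _
    let f : A →* Q := ((QuotientGroup.mk' N).comp A.subtype).codRestrict Q fun a => by
      obtain ⟨b, -, hb⟩ := a.2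
      show QuotientGroup.mk' N (a : G) ∈ Q
      rw [← hb]
      exact b.2
    have hf : Function.Injective f := (injective_iff_map_eq_one f).2 fun a ha =>
      Subtype.ext (htriv a a.2 (congrArg Subtype.val ha))
    have hcardL : Nat.card L = Nat.card Q * Nat.card N := by
      rw [hL, ← Subgroup.card_mul_index (N.subgroupOf L), Nat.card_congr (subgroupOfEquivOfLe
        (show N ≤ L from fun n hn => by
          show QuotientGroup.mk' N n ∈ Q
          rw [show QuotientGroup.mk' N n = 1 from (QuotientGroup.eq_one_iff n).2 hn]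
          exact Q.one_mem)).toEquiv, mul_comm]
      congr 1
      rw [← relIndex]
      have h := relIndex_ker L (QuotientGroup.mk' N)
      rw [QuotientGroup.ker_mk'] at h
      rw [h, hmap]
    have hcardA : Nat.card A = Nat.card Q := by
      obtain ⟨k, hk⟩ := IsPGroup.iff_card.1 hQ
      rw [hA, Nat.card_congr ((P : Subgroup L).equivMapOfInjective L.subtype L.subtype_injective).symm.toEquiv,
        P.card_eq_multiplicity, hcardL, hk, Nat.factorization_mul (pow_ne_zero _ hp.out.ne_zero) Nat.card_pos.ne',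
        Finsupp.add_apply, Nat.Prime.factorization_pow hp.out, Finsupp.single_eq_same,
        Nat.factorization_eq_zero_of_not_dvd hN, add_zero]
    have hb : Function.Bijective f := (Nat.bijective_iff_injective_and_card f).2 ⟨hf, hcardA⟩
    intro q hq
    obtain ⟨a, ha⟩ := hb.2 ⟨q, hq⟩
    exact ⟨a, a.2, congrArg Subtype.val ha⟩

theorem quotient [Finite G] [Fact p.Prime] (h : IsoExt p G) (N : Subgroup G) [N.Normal]
    (hNc : N.Characteristic) (hN : ¬ p ∣ Nat.card N) : IsoExt p (G ⧸ N) := by
  intro A B hA e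
  have hB : IsPGroup p B := hA.of_equiv e
  obtain ⟨A₀, hA₀, hmA, htA⟩ := exists_lift N hN A hA
  obtain ⟨B₀, -, hmB, htB⟩ := exists_lift N hN B hB
  subst hmA hmB
  let fA := (QuotientGroup.mk' N).subgroupMap A₀
  let fB := (QuotientGroup.mk' N).subgroupMap B₀
  have hinj : ∀ (C : Subgroup G), (∀ a ∈ C, QuotientGroup.mk' N a = 1 → a = 1) →
      Function.Bijective ((QuotientGroup.mk' N).subgroupMap C) := fun C hC =>
    ⟨(injective_iff_map_eq_one _).2 fun a ha => Subtype.ext (hC a a.2 (congrArg Subtype.val ha)),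
      (QuotientGroup.mk' N).subgroupMap_surjective C⟩
  let eA := MulEquiv.ofBijective fA (hinj A₀ htA)
  let eB := MulEquiv.ofBijective fB (hinj B₀ htB)
  obtain ⟨φ, hφ⟩ := h A₀ B₀ hA₀ ((eA.trans e).trans eB.symm)
  refine ⟨QuotientGroup.congr N N φ (characteristic_iff_map_eq.1 hNc φ), fun a => ?_⟩
  obtain ⟨a₀, rfl⟩ := eA.surjective a
  have h1 := hφ a₀
  rw [MulEquiv.trans_apply, MulEquiv.trans_apply] at h1
  refine (QuotientGroup.congr_mk N N φ (characteristic_iff_map_eq.1 hNc φ) (a₀ : G)).trans ?_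
  rw [h1]
  exact congrArg Subtype.val (eB.apply_symm_apply (e (eA a₀)))

theorem exists_ext (h : IsoExt p G) (A : Subgroup G) (hA : IsPGroup p A) (σ : MulAut A) :
    ∃ φ : G ≃* G, ∀ a : A, φ (a : G) = (σ a : G) :=
  h A A hA σ

theorem exists_map_eq [Finite G] (h : IsoExt p G) {a b : G} {k : ℕ} (ha : orderOf a = p ^ k)
    (hb : orderOf b = p ^ k) : ∃ φ : G ≃* G, φ a = b := by
  have hA : IsPGroup p (zpowers a) := IsPGroup.of_card (n := k) (by rw [Nat.card_zpowers, ha])
  have hc : Nat.card (zpowers a) = Nat.card (zpowers b) := by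
    rw [Nat.card_zpowers, Nat.card_zpowers, ha, hb]
  let ga : (zpowers a : Subgroup G) := ⟨a, mem_zpowers a⟩
  let gb : (zpowers b : Subgroup G) := ⟨b, mem_zpowers b⟩
  have gen : ∀ (c : G), ∀ x : zpowers c, x ∈ zpowers (⟨c, mem_zpowers c⟩ : zpowers c) := by
    rintro c ⟨x, n, rfl⟩
    exact ⟨n, Subtype.ext (by simp)⟩
  let e : zpowers a ≃* zpowers b :=
    mulEquivOfOrderOfEq (g := ga) (g' := gb) (gen a) (gen b)
      (by rw [orderOf_mk, orderOf_mk, ha, hb])
  obtain ⟨φ, hφ⟩ := h _ _ hA e
  refine ⟨φ, ?_⟩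
  have := hφ ga
  rw [show e ga = gb from mulEquivOfOrderOfEq_apply_gen _ _ _] at this
  exact this

/-- A characteristic subgroup containing an element of order `p^k` contains all of them. -/
theorem mem_of_orderOf_eq [Finite G] (h : IsoExt p G) {N : Subgroup G} (hN : N.Characteristic)
    {a b : G} {k : ℕ} (haN : a ∈ N) (ha : orderOf a = p ^ k) (hb : orderOf b = p ^ k) : b ∈ N := by
  obtain ⟨φ, rfl⟩ := h.exists_map_eq ha hb
  exact apply_mem_of_characteristic hN φ haN

end IsoExt

/-- The automizer `Aut_N(U)`. -/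
def autN (N U : Subgroup G) : Subgroup (MulAut U) :=
  (N.subgroupOf (normalizer (U : Set G))).map U.normalizerMonoidHom

theorem mem_autN {N U : Subgroup G} {σ : MulAut U} :
    σ ∈ autN N U ↔ ∃ g ∈ N, g ∈ normalizer (U : Set G) ∧ ∀ u : U, (σ u : G) = g * u * g⁻¹ := by
  constructor
  · rintro ⟨g, hg, rfl⟩
    exact ⟨g, hg, g.2, fun u => rfl⟩
  · rintro ⟨g, hgN, hg, h⟩
    exact ⟨⟨g, hg⟩, hgN, MulEquiv.ext fun u => Subtype.ext (h u).symm⟩

theorem autN_mono {N N' : Subgroup G} (h : N ≤ N') (U : Subgroup G) : autN N U ≤ autN N' U :=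
  map_mono fun _ hx => h hx

theorem autN_eq_bot_iff {N U : Subgroup G} :
    autN N U = ⊥ ↔ N ⊓ normalizer (U : Set G) ≤ centralizer (U : Set G) := by
  rw [autN, Subgroup.map_eq_bot_iff, normalizerMonoidHom_ker]
  constructor
  · intro h x hx
    exact h (show (⟨x, hx.2⟩ : normalizer (U : Set G)) ∈ _ from hx.1)
  · intro h x hx
    exact h ⟨hx, x.2⟩

theorem autN_normal [Finite G] {p : ℕ} (h : IsoExt p G) {N U : Subgroup G} (hN : N.Characteristic)
    (hU : IsPGroup p U) : (autN N U).Normal := by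
  refine ⟨fun σ hσ τ => ?_⟩
  obtain ⟨g, hgN, hg, hσg⟩ := mem_autN.1 hσ
  obtain ⟨φ, hφ⟩ := h.exists_ext U hU τ
  refine mem_autN.2 ⟨φ g, apply_mem_of_characteristic hN φ hgN, ?_, fun u => ?_⟩
  · refine mem_normalizer_fintype fun n hn => ?_
    obtain ⟨m, rfl⟩ : ∃ m : U, φ (m : G) = n := ⟨τ⁻¹ ⟨n, hn⟩, by rw [hφ]; simp⟩
    rw [← map_inv, ← map_mul, ← map_mul, ← hσg m, hφ]
    exact SetLike.coe_mem _
  · obtain ⟨m, rfl⟩ := τ.surjective u
    rw [← hφ, ← map_inv, ← map_mul, ← map_mul, ← hσg m, hφ]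
    simp

end Cfsg.Agent.Homogeneous
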