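import Cfsg.Prelude.Def_RootSubgroups
import Cfsg.Prelude.Def_Quasithin
import Cfsg.Agent.Lib.Homogeneous.IsoExt
import Cfsg.Agent.Lib.ThreeInvol.Reduce

/-!
# The solvable radical, the perfect core, and the solvable `p'`-radical
-/

set_option autoImplicit false
set_option linter.style.haveILetI false

namespace Cfsg.Agent.Homogeneous

open Subgroup
open scoped commutatorElement

variable {G : Type*} [Group G]

/-- A sup-closed property of subgroups passes to suprema, in a finite group. -/
theorem sSup_induction [Finite G] (P : Subgroup G → Prop) (hbot : P ⊥)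
    (hsup : ∀ A B, P A → P B → P (A ⊔ B)) (S : Set (Subgroup G)) (hS : ∀ A ∈ S, P A) : P (sSup S) := by
  classical
  have hfin : ∀ F : Finset (Subgroup G), (∀ A ∈ F, P A) → P (F.sup id) := by
    intro F
    induction F using Finset.induction_on with
    | empty => intro _; simpa using hbot
    | insert A F hA ih =>
      intro h
      rw [Finset.sup_insert]
      exact hsup _ _ (h A (Finset.mem_insert_self A F)) (ih fun B hB => h B (Finset.mem_insert_of_mem hB))
  have := hfin (Set.toFinite S).toFinset fun A hA => hS A ((Set.Finite.mem_toFinset _).1 hA)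
  rwa [Finset.sup_id_eq_sSup, Set.Finite.coe_toFinset] at this

theorem characteristic_sSup (S : Set (Subgroup G))
    (hS : ∀ φ : G ≃* G, ∀ A ∈ S, A.map φ.toMonoidHom ∈ S) : (sSup S).Characteristic := by
  rw [characteristic_iff_map_le]
  intro φ
  rw [sSup_eq_iSup', Subgroup.map_iSup]
  exact iSup_le fun A => le_iSup (fun A : S => (A : Subgroup G)) ⟨_, hS φ A A.2⟩

theorem isSolvable_sup_normal (H K : Subgroup G) [H.Normal] (hH : Group.IsSolvable H)
    (hK : Group.IsSolvable K) : Group.IsSolvable ↥(H ⊔ K) := by
  let f : ↥(H ⊔ K) →* G ⧸ H := (QuotientGroup.mk' H).comp (H ⊔ K).subtype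
  refine ThreeInvol.solvable_of_ker_range f ?_ ?_
  · let ι : f.ker →* H := MonoidHom.codRestrict ((H ⊔ K).subtype.comp f.ker.subtype) H
      fun x => (QuotientGroup.eq_one_iff _).1 x.2
    exact Group.isSolvable_of_isSolvable_injective (f := ι) fun a b h =>
      Subtype.ext (Subtype.ext (congrArg (fun z : H => (z : G)) h))
  · have hr : f.range = K.map (QuotientGroup.mk' H) := by
      rw [MonoidHom.range_comp, range_subtype, Subgroup.map_sup, QuotientGroup.map_mk'_self, bot_sup_eq]
    rw [hr]
    exact Group.isSolvable_of_surjective ((QuotientGroup.mk' H).subgroupMap_surjective K)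

theorem isSolvable_of_map_quotient {N A : Subgroup G} [N.Normal] (hN : Group.IsSolvable N)
    (hA : Group.IsSolvable (A.map (QuotientGroup.mk' N))) : Group.IsSolvable A := by
  let f : A →* G ⧸ N := (QuotientGroup.mk' N).comp A.subtype
  refine ThreeInvol.solvable_of_ker_range f ?_ ?_
  · let ι : f.ker →* N := MonoidHom.codRestrict (A.subtype.comp f.ker.subtype) N
      fun x => (QuotientGroup.eq_one_iff _).1 x.2
    exact Group.isSolvable_of_isSolvable_injective (f := ι) fun a b h =>
      Subtype.ext (Subtype.ext (congrArg (fun z : N => (z : G)) h))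
  · have hr : f.range = A.map (QuotientGroup.mk' N) := by rw [MonoidHom.range_comp, range_subtype]
    rwa [hr]

/-! ### The solvable radical -/

theorem le_solvableRadical {N : Subgroup G} (hN : N.Normal) (hs : Group.IsSolvable N) :
    N ≤ solvableRadical G :=
  le_sSup ⟨hN, hs⟩

theorem solvableRadical_spec [Finite G] :
    (solvableRadical G).Normal ∧ Group.IsSolvable (solvableRadical G) := by
  refine sSup_induction (fun A => A.Normal ∧ Group.IsSolvable A) ⟨inferInstance, inferInstance⟩ ?_ _
    fun A hA => hA
  rintro A B ⟨hA, hAs⟩ ⟨hB, hBs⟩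
  exact ⟨inferInstance, isSolvable_sup_normal A B hAs hBs⟩

theorem solvableRadical_characteristic : (solvableRadical G).Characteristic :=
  characteristic_sSup _ fun φ A ⟨hn, hs⟩ => ⟨hn.map φ.toMonoidHom φ.surjective,
    haveI := hs; Group.isSolvable_of_surjective (φ.toMonoidHom.subgroupMap_surjective A)⟩

/-- The radical of `G / R` is trivial. -/
theorem solvableRadical_quotient [Finite G] [(solvableRadical G).Normal] :
    solvableRadical (G ⧸ solvableRadical G) = ⊥ := by
  set R := solvableRadical G
  obtain ⟨hn, hs⟩ := solvableRadical_spec (G := G ⧸ R)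
  set Q := solvableRadical (G ⧸ R)
  have hmap : (Q.comap (QuotientGroup.mk' R)).map (QuotientGroup.mk' R) = Q :=
    map_comap_eq_self_of_surjective (QuotientGroup.mk'_surjective R) Q
  have hle : Q.comap (QuotientGroup.mk' R) ≤ R :=
    le_solvableRadical (hn.comap _) (isSolvable_of_map_quotient solvableRadical_spec.2 (by rwa [hmap]))
  rw [← hmap, Subgroup.map_eq_bot_iff, QuotientGroup.ker_mk']
  exact hle

/-! ### The perfect core -/

theorem le_perfectCore {L : Subgroup G} (hL : ⁅L, L⁆ = L) : L ≤ perfectCore G :=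
  le_sSup hL

theorem commutator_perfectCore : ⁅perfectCore G, perfectCore G⁆ = perfectCore G := by
  refine le_antisymm (commutator_le_self _) (sSup_le fun L hL => ?_)
  have hle : L ≤ perfectCore G := le_perfectCore hL
  calc L = ⁅L, L⁆ := (Set.mem_setOf.1 hL).symm
    _ ≤ _ := commutator_mono hle hle

theorem perfectCore_characteristic : (perfectCore G).Characteristic :=
  characteristic_sSup _ fun φ A hA => by
    show ⁅A.map φ.toMonoidHom, A.map φ.toMonoidHom⁆ = A.map φ.toMonoidHom
    rw [← map_commutator, Set.mem_setOf.1 hA]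

/-- `G / perfectCore G` is solvable. -/
theorem derivedSeries_le_perfectCore [Finite G] : ∃ n, derivedSeries G n ≤ perfectCore G := by
  classical
  by_contra hcon
  push Not at hcon
  have hlt : ∀ n, Nat.card (derivedSeries G (n + 1)) < Nat.card (derivedSeries G n) := by
    intro n
    have hle : derivedSeries G (n + 1) ≤ derivedSeries G n := by
      rw [derivedSeries_succ]; exact commutator_le_self _
    refine lt_of_le_of_ne (Nat.card_le_card_of_injective _ (inclusion_injective hle)) fun h => hcon n ?_
    refine le_perfectCore ?_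
    rw [← derivedSeries_succ]
    exact Subgroup.eq_of_le_of_card_ge hle h.ge
  have : ∀ n, Nat.card (derivedSeries G n) + n ≤ Nat.card (derivedSeries G 0) := by
    intro n
    induction n with
    | zero => simp
    | succ n ih => have := hlt n; omega
  have h1 := this (Nat.card (derivedSeries G 0))
  have h2 := Nat.card_pos (α := derivedSeries G (Nat.card (derivedSeries G 0)))
  omega

theorem isSolvable_of_perfectCore_eq_bot [Finite G] (h : perfectCore G = ⊥) : Group.IsSolvable G := by
  obtain ⟨n, hn⟩ := derivedSeries_le_perfectCore (G := G)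
  exact ⟨⟨n, le_bot_iff.1 (hn.trans h.le)⟩⟩

theorem isPerfect_of_commutator_self {K : Subgroup G} (h : ⁅K, K⁆ = K) : Group.IsPerfect K :=
  ⟨Subgroup.map_injective K.subtype_injective
    (by rw [Subgroup.map_subtype_commutator, h, ← MonoidHom.range_eq_map, Subgroup.range_subtype])⟩

/-- A perfect subgroup of a solvable group is trivial. -/
theorem eq_bot_of_perfect_of_solvable {K : Subgroup G} (h : ⁅K, K⁆ = K) (hs : Group.IsSolvable K) :
    K = ⊥ := by
  by_contra hne
  haveI : Nontrivial K := (Subgroup.nontrivial_iff_ne_bot K).2 hne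
  haveI := isPerfect_of_commutator_self h
  exact Group.IsPerfect.not_isSolvable K hs

theorem commutator_map_self {G' : Type*} [Group G'] (f : G →* G') {K : Subgroup G} (h : ⁅K, K⁆ = K) :
    ⁅K.map f, K.map f⁆ = K.map f := by rw [← map_commutator, h]

theorem map_perfectCore_le {G' : Type*} [Group G'] (f : G →* G') : (perfectCore G).map f ≤ perfectCore G' :=
  le_perfectCore (commutator_map_self f commutator_perfectCore)

/-! ### The solvable `p'`-radical -/

/-- The join of the solvable normal `p'`-subgroups. -/
def solvPrime (p : ℕ) (G : Type*) [Group G] : Subgroup G :=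
  sSup {N : Subgroup G | N.Normal ∧ Group.IsSolvable N ∧ ¬ p ∣ Nat.card N}

theorem card_sup_normal_dvd [Finite G] (H K : Subgroup G) [H.Normal] :
    Nat.card ↥(H ⊔ K) ∣ Nat.card H * Nat.card K := by
  have h1 : Nat.card ↥(H ⊔ K) = Nat.card ((H ⊔ K).map (QuotientGroup.mk' H)) * Nat.card H := by
    have h := relIndex_ker (H ⊔ K) (QuotientGroup.mk' H)
    rw [QuotientGroup.ker_mk'] at h
    rw [← h, mul_comm, ← relIndex_bot_left H,
      relIndex_mul_relIndex _ _ _ bot_le (le_sup_left : H ≤ H ⊔ K), relIndex_bot_left]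
  rw [h1, Subgroup.map_sup, QuotientGroup.map_mk'_self, bot_sup_eq, mul_comm]
  exact mul_dvd_mul_left _ (card_map_dvd K _)

theorem solvPrime_spec [Finite G] {p : ℕ} (hp : p.Prime) :
    (solvPrime p G).Normal ∧ Group.IsSolvable (solvPrime p G) ∧ ¬ p ∣ Nat.card (solvPrime p G) := by
  refine sSup_induction (fun A => A.Normal ∧ Group.IsSolvable A ∧ ¬ p ∣ Nat.card A)
    ⟨inferInstance, inferInstance, by rw [Subgroup.card_bot]; exact hp.not_dvd_one⟩ ?_ _ fun A hA => hA
  rintro A B ⟨hA, hAs, hAp⟩ ⟨hB, hBs, hBp⟩
  refine ⟨inferInstance, isSolvable_sup_normal A B hAs hBs, fun h => ?_⟩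
  exact (hp.dvd_mul.1 (h.trans (card_sup_normal_dvd A B))).elim hAp hBp

theorem solvPrime_characteristic (p : ℕ) : (solvPrime p G).Characteristic :=
  characteristic_sSup _ fun φ A ⟨hn, hs, hp⟩ => ⟨hn.map φ.toMonoidHom φ.surjective,
    haveI := hs; Group.isSolvable_of_surjective (φ.toMonoidHom.subgroupMap_surjective A),
    by rwa [card_map_of_injective (f := φ.toMonoidHom) φ.injective]⟩

theorem solvPrime_le_solvableRadical (p : ℕ) : solvPrime p G ≤ solvableRadical G :=
  sSup_le fun _ ⟨hn, hs, _⟩ => le_solvableRadical hn hs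

theorem solvPrime_quotient [Finite G] {p : ℕ} (hp : p.Prime) [(solvPrime p G).Normal] :
    solvPrime p (G ⧸ solvPrime p G) = ⊥ := by
  obtain ⟨-, hs, hnp⟩ := solvPrime_spec (G := G) hp
  set M := solvPrime p G
  obtain ⟨hn', hs', hnp'⟩ := solvPrime_spec (G := G ⧸ M) hp
  set Q := solvPrime p (G ⧸ M)
  set L := Q.comap (QuotientGroup.mk' M) with hL
  have hmap : L.map (QuotientGroup.mk' M) = Q :=
    map_comap_eq_self_of_surjective (QuotientGroup.mk'_surjective M) Q
  have hML : M ≤ L := fun m hm => by
    show QuotientGroup.mk' M m ∈ Q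
    rw [show QuotientGroup.mk' M m = 1 from (QuotientGroup.eq_one_iff m).2 hm]
    exact Q.one_mem
  have hcard : Nat.card L = Nat.card M * Nat.card Q := by
    have h := relIndex_ker L (QuotientGroup.mk' M)
    rw [QuotientGroup.ker_mk', hmap] at h
    rw [← h, ← relIndex_bot_left M, relIndex_mul_relIndex _ _ _ bot_le hML, relIndex_bot_left]
  have hle : L ≤ M := le_sSup ⟨hn'.comap _, isSolvable_of_map_quotient hs (by rwa [hmap]),
    fun h => (hp.dvd_mul.1 (hcard ▸ h)).elim hnp hnp'⟩
  rw [← hmap, Subgroup.map_eq_bot_iff, QuotientGroup.ker_mk']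
  exact hle

end Cfsg.Agent.Homogeneous
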