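import Cfsg.Agent.Lib.Homogeneous.IsoExt
import Mathlib.GroupTheory.Perm.Fin
import Mathlib.GroupTheory.SpecificGroups.Alternating
import Mathlib.Tactic.FinCases
import Mathlib.Tactic.NormNum.Prime

/-!
# The alternating group of degree 7 is not homogeneous at the prime 3

A 3-cycle commutes with an involution, a product of two 3-cycles does not.
-/

set_option autoImplicit false

namespace Cfsg.Agent.Homogeneous

open Equiv Subgroup

/-- A product of two 3-cycles. -/
def twoCycles : Equiv.Perm (Fin 7) := swap 0 1 * swap 1 2 * (swap 3 4 * swap 4 5)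

/-- The permutation commuting with `twoCycles` with the given values at `0`, `3` and `6`. -/
def commVals (a b c : Fin 7) : Fin 7 → Fin 7 :=
  ![a, twoCycles a, twoCycles (twoCycles a), b, twoCycles b, twoCycles (twoCycles b), c]

theorem commVals_cases : ∀ a b c : Fin 7, twoCycles c = c → (∀ i, commVals a b c (commVals a b c i) = i) →
    (∀ i, commVals a b c i = i) ∨
      ((0 : Fin 7) ≠ a ∧ (1 : Fin 7) ≠ twoCycles a ∧ (2 : Fin 7) ≠ twoCycles (twoCycles a) ∧
        ∀ i, commVals a b c i =
          swap (0 : Fin 7) a (swap (1 : Fin 7) (twoCycles a) (swap (2 : Fin 7) (twoCycles (twoCycles a)) i))) := by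
  decide +kernel

theorem twoCycles_no_involution (y : Equiv.Perm (Fin 7)) (hy : y * y = 1) (hc : y * twoCycles = twoCycles * y)
    (hs : Equiv.Perm.sign y = 1) : y = 1 := by
  have hd : ∀ i, y (twoCycles i) = twoCycles (y i) := fun i => Equiv.ext_iff.mp hc i
  have h6 : twoCycles (y 6) = y 6 := by
    rw [← hd, show twoCycles 6 = 6 by decide]
  have hv : ∀ i, y i = commVals (y 0) (y 3) (y 6) i := by
    intro i
    fin_cases i
    · rfl
    · show y 1 = twoCycles (y 0)
      rw [← hd, show twoCycles 0 = 1 by decide]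
    · show y 2 = twoCycles (twoCycles (y 0))
      rw [← hd, ← hd, show twoCycles 0 = 1 by decide, show twoCycles 1 = 2 by decide]
    · rfl
    · show y 4 = twoCycles (y 3)
      rw [← hd, show twoCycles 3 = 4 by decide]
    · show y 5 = twoCycles (twoCycles (y 3))
      rw [← hd, ← hd, show twoCycles 3 = 4 by decide, show twoCycles 4 = 5 by decide]
    · rfl
  have hinv : ∀ i, commVals (y 0) (y 3) (y 6) (commVals (y 0) (y 3) (y 6) i) = i := fun i => by
    rw [← hv, ← hv]
    exact Equiv.ext_iff.mp hy i
  rcases commVals_cases _ _ _ h6 hinv with h | ⟨h1, h2, h3, h⟩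
  · exact Equiv.ext fun i => (hv i).trans (h i)
  · exfalso
    have he : y = swap 0 (y 0) * (swap 1 (twoCycles (y 0)) * swap 2 (twoCycles (twoCycles (y 0)))) :=
      Equiv.ext fun i => (hv i).trans (h i)
    rw [he, map_mul, map_mul, Equiv.Perm.sign_swap h1, Equiv.Perm.sign_swap h2, Equiv.Perm.sign_swap h3] at hs
    exact absurd hs (by decide)

/-- The alternating group of degree 7 fails `IsoExt 3`. -/
theorem not_isoExt_alt_seven {G : Type*} [Group G] [Finite G] (e : G ≃* alternatingGroup (Fin 7)) :
    ¬ IsoExt 3 G := by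
  intro h
  have : Fact (Nat.Prime 3) := ⟨Nat.prime_three⟩
  let A := alternatingGroup (Fin 7)
  let c : A := ⟨swap 0 1 * swap 1 2, Equiv.Perm.mem_alternatingGroup.mpr (by decide)⟩
  let d : A := ⟨twoCycles, Equiv.Perm.mem_alternatingGroup.mpr (by decide)⟩
  let k : A := ⟨swap 3 4 * swap 5 6, Equiv.Perm.mem_alternatingGroup.mpr (by decide)⟩
  have hk : k * k = 1 := by decide
  have hk1 : k ≠ 1 := by decide
  have hkc : k * c = c * k := by decide
  have hord : ∀ u : A, u * u * u = 1 → u ≠ 1 → orderOf (e.symm u) = 3 ^ 1 := fun u hu hu1 => by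
    rw [pow_one, MulEquiv.orderOf_eq]
    exact orderOf_eq_prime (by rw [pow_succ, pow_two, hu]) hu1
  obtain ⟨φ, hφ⟩ := h.exists_map_eq (hord c (by decide) (by decide)) (hord d (by decide) (by decide))
  set y : A := e (φ (e.symm k)) with hy
  have hyd : d = e (φ (e.symm c)) := by rw [hφ, MulEquiv.apply_symm_apply]
  have h2 : y * y = 1 := by rw [hy, ← map_mul, ← map_mul, ← map_mul, hk, map_one, map_one, map_one]
  have h3 : y * d = d * y := by
    rw [hy, hyd, ← map_mul, ← map_mul, ← map_mul, ← map_mul, ← map_mul, ← map_mul, hkc]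
  have := twoCycles_no_involution (y : Equiv.Perm (Fin 7)) (congrArg Subtype.val h2) (congrArg Subtype.val h3)
    (Equiv.Perm.mem_alternatingGroup.mp y.2)
  have hy1 : y = 1 := Subtype.ext this
  rw [hy, MulEquiv.map_eq_one_iff, MulEquiv.map_eq_one_iff, MulEquiv.map_eq_one_iff] at hy1
  exact hk1 hy1

end Cfsg.Agent.Homogeneous
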