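import Mathlib

/-!
# Singer automorphisms of elementary abelian 2-groups and powers of an element
-/

set_option autoImplicit false
set_option linter.style.haveILetI false

namespace Cfsg.Agent.Homogeneous

theorem exists_addEquiv_of_card_eq {p : ℕ} [Fact p.Prime] {V U : Type*} [AddCommGroup V] [AddCommGroup U]
    [Module (ZMod p) V] [Module (ZMod p) U] [Finite V] [Finite U] (h : Nat.card V = Nat.card U) :
    Nonempty (V ≃+ U) := by
  haveI : Module.Finite (ZMod p) V := Module.Finite.of_finite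
  haveI : Module.Finite (ZMod p) U := Module.Finite.of_finite
  have hd : Module.finrank (ZMod p) V = Module.finrank (ZMod p) U := by
    rw [Module.natCard_eq_pow_finrank (K := ZMod p) (V := V),
      Module.natCard_eq_pow_finrank (K := ZMod p) (V := U), Nat.card_zmod] at h
    exact Nat.pow_right_injective (Fact.out : p.Prime).two_le h
  exact ⟨(LinearEquiv.ofFinrankEq V U hd).toAddEquiv⟩

/-- An exponent 2 group of order `|U|` is the multiplicative group of `U`. -/
theorem exists_equiv_model {E : Type*} [CommGroup E] [Finite E] (hE : ∀ x : E, x ^ 2 = 1) {U : Type*}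
    [AddCommGroup U] [Module (ZMod 2) U] [Finite U] (h : Nat.card E = Nat.card U) :
    ∃ f : E ≃ U, ∀ x y, f (x * y) = f x + f y := by
  haveI : Fact (Nat.Prime 2) := ⟨Nat.prime_two⟩
  letI : Module (ZMod 2) (Additive E) := AddCommGroup.zmodModule fun x => congrArg Additive.ofMul (hE x.toMul)
  obtain ⟨f⟩ := exists_addEquiv_of_card_eq (p := 2) (V := Additive E) (U := U) h
  exact ⟨Additive.ofMul.trans f.toEquiv, fun x y => map_add f (Additive.ofMul x) (Additive.ofMul y)⟩

/-- A generator of the multiplicative group of `GF(2^m)`, acting on a model. -/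
theorem exists_unit_generator {m : ℕ} (hm : m ≠ 0) :
    ∃ u : (GaloisField 2 m)ˣ, u ^ (2 ^ m - 1) = 1 ∧
      ∀ a b : GaloisField 2 m, a ≠ 0 → b ≠ 0 → ∃ k : ℕ, (u : GaloisField 2 m) ^ k * a = b := by
  haveI : Fact (Nat.Prime 2) := ⟨Nat.prime_two⟩
  obtain ⟨u, hu⟩ := IsCyclic.exists_generator (α := (GaloisField 2 m)ˣ)
  refine ⟨u, ?_, fun a b ha hb => ?_⟩
  · rw [← GaloisField.card 2 m hm, ← Nat.card_units]
    exact pow_card_eq_one'
  · classical
    obtain ⟨k, hk⟩ := mem_zpowers_iff_mem_range_orderOf.1 (hu (Units.mk0 b hb * (Units.mk0 a ha)⁻¹))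
      |> fun h => Finset.mem_image.1 h
    refine ⟨k, ?_⟩
    rw [← Units.val_pow_eq_pow_val, hk.2]
    simp [mul_assoc, ha]

/-- A Singer automorphism fixing a complement of a hyperplane. -/
theorem exists_split_singer {E : Type*} [CommGroup E] [Finite E] (hE : ∀ x : E, x ^ 2 = 1) {m : ℕ}
    (hm : m ≠ 0) (hcard : Nat.card E = 2 ^ (m + 1)) :
    ∃ (H : Subgroup E) (e : E) (σ : MulAut E), Nat.card H = 2 ^ m ∧ e ∉ H ∧ σ e = e ∧
      (∀ h ∈ H, σ h ∈ H) ∧ (∀ a ∈ H, ∀ b ∈ H, a ≠ 1 → b ≠ 1 → ∃ k : ℕ, (σ ^ k) a = b) ∧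
      σ ^ (2 ^ m - 1) = 1 := by
  haveI : Fact (Nat.Prime 2) := ⟨Nat.prime_two⟩
  obtain ⟨u, hu, hgen⟩ := exists_unit_generator hm
  obtain ⟨f, hf⟩ := exists_equiv_model hE (U := GaloisField 2 m × ZMod 2)
    (by rw [hcard, Nat.card_prod, GaloisField.card 2 m hm, Nat.card_zmod, pow_succ])
  have hf1 : f 1 = 0 := by simpa using hf 1 1
  let σ : MulAut E :=
    { toFun := fun x => f.symm ((u : GaloisField 2 m) * (f x).1, (f x).2)
      invFun := fun x => f.symm (((u⁻¹ : (GaloisField 2 m)ˣ) : GaloisField 2 m) * (f x).1, (f x).2)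
      left_inv := fun x => f.injective (by simp [← mul_assoc])
      right_inv := fun x => f.injective (by simp [← mul_assoc])
      map_mul' := fun x y => f.injective (by rw [hf]; simp [hf, mul_add]) }
  have hσ : ∀ x, f (σ x) = ((u : GaloisField 2 m) * (f x).1, (f x).2) := fun x => f.apply_symm_apply _
  have hσk : ∀ (k : ℕ) x, f ((σ ^ k) x) = ((u : GaloisField 2 m) ^ k * (f x).1, (f x).2) := by
    intro k x
    induction k with
    | zero => simp
    | succ k ih => rw [pow_succ', MulAut.mul_apply, hσ, ih, pow_succ', mul_assoc]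
  let H : Subgroup E :=
    { carrier := {x | (f x).2 = 0}
      one_mem' := by simp [hf1]
      mul_mem' := fun {a b} ha hb => by
        show (f (a * b)).2 = 0
        rw [hf, Prod.snd_add, show (f a).2 = 0 from ha, show (f b).2 = 0 from hb, add_zero]
      inv_mem' := fun {a} ha => by
        show (f a⁻¹).2 = 0
        rwa [inv_eq_of_mul_eq_one_right (b := a) (by rw [← pow_two, hE])] }
  refine ⟨H, f.symm (0, 1), σ, ?_, ?_, ?_, ?_, ?_, ?_⟩
  · let eH : H ≃ GaloisField 2 m :=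
      { toFun := fun x => (f x.1).1
        invFun := fun a => ⟨f.symm (a, 0), by show (f (f.symm (a, 0))).2 = 0; rw [Equiv.apply_symm_apply]⟩
        left_inv := fun x => Subtype.ext (f.injective (by
          rw [Equiv.apply_symm_apply]
          exact Prod.ext rfl (show (f x.1).2 = 0 from x.2).symm))
        right_inv := fun a => by simp }
    rw [Nat.card_congr eH, GaloisField.card 2 m hm]
  · show ¬ (f (f.symm (0, 1))).2 = 0
    simp
  · exact f.injective (by rw [hσ]; simp)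
  · intro h hh
    show (f (σ h)).2 = 0
    rw [hσ]
    exact hh
  · intro a ha b hb ha1 hb1
    have hne : ∀ x ∈ H, x ≠ 1 → (f x).1 ≠ 0 := fun x hx hx1 h0 =>
      hx1 (f.injective (by rw [hf1]; exact Prod.ext h0 hx))
    obtain ⟨k, hk⟩ := hgen _ _ (hne a ha ha1) (hne b hb hb1)
    refine ⟨k, f.injective ?_⟩
    rw [hσk, hk]
    exact Prod.ext rfl ((show (f a).2 = 0 from ha).trans (show (f b).2 = 0 from hb).symm)
  · refine MulEquiv.ext fun x => f.injective ?_
    rw [hσk, ← Units.val_pow_eq_pow_val, hu]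
    simp

/-- A Singer automorphism. -/
theorem exists_singer {E : Type*} [CommGroup E] [Finite E] (hE : ∀ x : E, x ^ 2 = 1) {n : ℕ}
    (hn : n ≠ 0) (hcard : Nat.card E = 2 ^ n) :
    ∃ σ : MulAut E, (∀ a b : E, a ≠ 1 → b ≠ 1 → ∃ k : ℕ, (σ ^ k) a = b) ∧ σ ^ (2 ^ n - 1) = 1 := by
  haveI : Fact (Nat.Prime 2) := ⟨Nat.prime_two⟩
  obtain ⟨u, hu, hgen⟩ := exists_unit_generator hn
  obtain ⟨f, hf⟩ := exists_equiv_model hE (U := GaloisField 2 n) (by rw [hcard, GaloisField.card 2 n hn])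
  have hf1 : f 1 = 0 := by simpa using hf 1 1
  let σ : MulAut E :=
    { toFun := fun x => f.symm ((u : GaloisField 2 n) * f x)
      invFun := fun x => f.symm (((u⁻¹ : (GaloisField 2 n)ˣ) : GaloisField 2 n) * f x)
      left_inv := fun x => f.injective (by simp [← mul_assoc])
      right_inv := fun x => f.injective (by simp [← mul_assoc])
      map_mul' := fun x y => f.injective (by rw [hf]; simp [hf, mul_add]) }
  have hσk : ∀ (k : ℕ) x, f ((σ ^ k) x) = (u : GaloisField 2 n) ^ k * f x := by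
    intro k x
    induction k with
    | zero => simp
    | succ k ih =>
      rw [pow_succ', MulAut.mul_apply, show f (σ ((σ ^ k) x)) = _ from f.apply_symm_apply _, ih, pow_succ',
        mul_assoc]
  refine ⟨σ, fun a b ha hb => ?_, MulEquiv.ext fun x => f.injective ?_⟩
  · obtain ⟨k, hk⟩ := hgen (f a) (f b) (fun h => ha (f.injective (h.trans hf1.symm)))
      (fun h => hb (f.injective (h.trans hf1.symm)))
    exact ⟨k, f.injective ((hσk k a).trans hk)⟩
  · rw [hσk, ← Units.val_pow_eq_pow_val, hu]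
    simp

/-- The `p'`-part and the `p`-part of an element as powers. -/
theorem exists_exponents {p : ℕ} (hp : p.Prime) {T : Type*} [Group T] [Finite T] (g : T) :
    (∃ j : ℕ, (¬ p ∣ orderOf (g ^ j)) ∧ ∀ m, m ∣ orderOf g → ¬ p ∣ m → j ≡ 1 [MOD m]) ∧
    (∃ j : ℕ, (∃ a, orderOf (g ^ j) ∣ p ^ a) ∧ ∀ a, p ^ a ∣ orderOf g → j ≡ 1 [MOD p ^ a]) := by
  obtain ⟨k, m, hm, hg⟩ := Nat.exists_eq_pow_mul_and_not_dvd (orderOf_pos g).ne' p hp.ne_one
  rw [hg]
  have hco : (p ^ k).Coprime m := ((hp.coprime_iff_not_dvd).2 hm).pow_left k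
  constructor
  · obtain ⟨j, hj0, hj1⟩ := Nat.chineseRemainder hco 0 1
    refine ⟨j, ⟨fun h => ?_, fun m' hm' hpm' => ?_⟩⟩
    · have hd : orderOf (g ^ j) ∣ m := by
        refine orderOf_dvd_of_pow_eq_one ?_
        rw [← pow_mul, ← orderOf_dvd_iff_pow_eq_one, hg]
        exact mul_dvd_mul (Nat.modEq_zero_iff_dvd.1 hj0) dvd_rfl
      exact hm (h.trans hd)
    · exact hj1.of_dvd ((((hp.coprime_iff_not_dvd).2 hpm').pow_left k).symm.dvd_of_dvd_mul_left hm')
  · obtain ⟨j, hj1, hj0⟩ := Nat.chineseRemainder hco 1 0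
    refine ⟨j, ⟨⟨k, ?_⟩, fun a ha => ?_⟩⟩
    · refine orderOf_dvd_of_pow_eq_one ?_
      rw [← pow_mul, ← orderOf_dvd_iff_pow_eq_one, hg, mul_comm]
      exact mul_dvd_mul (Nat.modEq_zero_iff_dvd.1 hj0) dvd_rfl
    · exact hj1.of_dvd ((((hp.coprime_iff_not_dvd).2 hm).pow_left a).dvd_of_dvd_mul_right ha)

/-- A power of `g` of order prime to `p` acting as `g` wherever the order of the action is prime to `p`. -/
theorem exists_prime'_power {T : Type*} [Group T] [Finite T] {p : ℕ} (hp : p.Prime) (g : T) :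
    ∃ j : ℕ, ¬ p ∣ orderOf (g ^ j) ∧ ∀ {M : Type*} [Monoid M] (x : M),
      orderOf x ∣ orderOf g → ¬ p ∣ orderOf x → x ^ j = x := by
  obtain ⟨⟨j, hj⟩, -⟩ := exists_exponents hp g
  refine ⟨j, hj.1, fun {M} _ x hx hpx => ?_⟩
  conv_rhs => rw [← pow_one x]
  rw [← pow_mod_orderOf x j, hj.2 _ hx hpx, pow_mod_orderOf]

/-- A power of `g` of `p`-power order acting as `g` wherever the order of the action is a `p`-power. -/
theorem exists_prime_power {T : Type*} [Group T] [Finite T] {p : ℕ} (hp : p.Prime) (g : T) :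
    ∃ j : ℕ, (∃ a, orderOf (g ^ j) ∣ p ^ a) ∧ ∀ {M : Type*} [Monoid M] (x : M),
      orderOf x ∣ orderOf g → (∃ a, orderOf x ∣ p ^ a) → x ^ j = x := by
  obtain ⟨-, ⟨j, hj⟩⟩ := exists_exponents hp g
  refine ⟨j, hj.1, fun {M} _ x hx hpx => ?_⟩
  obtain ⟨a, ha⟩ := hpx
  obtain ⟨b, -, hb⟩ := (Nat.dvd_prime_pow hp).1 ha
  conv_rhs => rw [← pow_one x]
  have h1 : j ≡ 1 [MOD orderOf x] := hb ▸ hj.2 b (hb ▸ hx)
  rw [← pow_mod_orderOf x j, h1, pow_mod_orderOf]

end Cfsg.Agent.Homogeneous
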