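import Cfsg.Agent.Lib.Homogeneous.Stability
import Cfsg.Agent.Lib.Homogeneous.Singer
import Cfsg.Agent.Lib.Coprime.Sylow
import Cfsg.Agent.Lib.Coprime.Action
import Cfsg.Agent.Lib.PGroup.ElementaryAbelian

/-!
# Lifting automizer elements to elements normalising Sylow subgroups of centralisers
-/

set_option autoImplicit false
set_option linter.style.haveILetI false

namespace Cfsg.Agent.Homogeneous

open Subgroup
open scoped IsMulCommutative Pointwise

variable {G : Type*} [Group G] [Finite G] {p : ℕ} [Fact p.Prime]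

/-- A Sylow subgroup of `L` as a subgroup of `G`. -/
structure IsSylowIn (p : ℕ) (L X : Subgroup G) : Prop where
  le : X ≤ L
  isP : IsPGroup p X
  max : ∀ Q : Subgroup G, IsPGroup p Q → X ≤ Q → Q ≤ L → Q = X

theorem isSylowIn_map (L : Subgroup G) (S : Sylow p L) :
    IsSylowIn p L ((S : Subgroup L).map L.subtype) := by
  refine ⟨map_subtype_le _, S.2.map _, fun Q hQ hXQ hQL => ?_⟩
  have h1 : (S : Subgroup L) ≤ Q.subgroupOf L := fun x hx => hXQ ⟨x, hx, rfl⟩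
  have h2 := S.3 (hQ.of_equiv (subgroupOfEquivOfLe hQL).symm) h1
  rw [← h2, map_subgroupOf_eq_of_le hQL]

theorem IsSylowIn.exists_sylow {L X : Subgroup G} (h : IsSylowIn p L X) :
    ∃ S : Sylow p L, (S : Subgroup L).map L.subtype = X := by
  obtain ⟨S, hS⟩ := (h.isP.of_equiv (subgroupOfEquivOfLe h.le).symm).exists_le_sylow
  refine ⟨S, h.max _ (S.2.map _) ?_ (map_subtype_le _)⟩
  rw [← map_subgroupOf_eq_of_le h.le]
  exact map_mono hS

omit [Fact p.Prime] in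
theorem exists_isSylowIn_ge (L U : Subgroup G) (hUL : U ≤ L) (hU : IsPGroup p U) :
    ∃ X : Subgroup G, IsSylowIn p L X ∧ U ≤ X := by
  obtain ⟨X, ⟨hXp, hUX, hXL⟩, hmax⟩ :=
    (Set.toFinite {Q : Subgroup G | IsPGroup p Q ∧ U ≤ Q ∧ Q ≤ L}).exists_maximal ⟨U, hU, le_rfl, hUL⟩
  exact ⟨X, ⟨hXL, hXp, fun Q hQ hXQ hQL => le_antisymm (hmax ⟨hQ, hUX.trans hXQ, hQL⟩ hXQ) hXQ⟩, hUX⟩

/-- Frattini: a `g` normalising `L` can be corrected by `L` to normalise a Sylow subgroup of `L`. -/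
theorem IsSylowIn.exists_mul_mem_normalizer {L X : Subgroup G} (h : IsSylowIn p L X) {g : G}
    (hg : g ∈ normalizer (L : Set G)) : ∃ l ∈ L, l * g ∈ normalizer (X : Set G) := by
  obtain ⟨S, rfl⟩ := h.exists_sylow
  obtain ⟨k, hk, hkg⟩ := Coprime.exists_mem_conj_sylow_eq S hg
  refine ⟨k⁻¹, inv_mem hk, Coprime.mem_normalizer_of_conj_smul_eq ?_⟩
  rw [← Coprime.conj_smul_smul, ← hkg, Coprime.conj_smul_smul, inv_mul_cancel, map_one, one_smul]

/-- A Sylow subgroup of `N ∩ C(Z₀)` satisfies the inner hypothesis. -/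
theorem IsSylowIn.innerHyp {N Z₀ X : Subgroup G} (h : IsSylowIn p (N ⊓ centralizer (Z₀ : Set G)) X) :
    InnerHyp p N X Z₀ :=
  innerHyp_of_maximal h.isP (h.le.trans inf_le_left) (h.le.trans inf_le_right) h.max

omit [Fact p.Prime] in
theorem normalizer_le_normalizer_centralizer (U : Subgroup G) :
    normalizer (U : Set G) ≤ normalizer ((centralizer (U : Set G) : Subgroup G) : Set G) := by
  intro g hg
  refine mem_normalizer_fintype fun c hc => ?_
  rw [SetLike.mem_coe, mem_centralizer_iff] at hc ⊢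
  intro u hu
  have hu' : g⁻¹ * u * g ∈ U := (mem_normalizer_iff''.1 hg u).1 hu
  calc u * (g * c * g⁻¹) = g * ((g⁻¹ * u * g) * c) * g⁻¹ := by group
    _ = g * (c * (g⁻¹ * u * g)) * g⁻¹ := by rw [hc _ hu']
    _ = g * c * g⁻¹ * u := by group

/-- The restriction of conjugation by `g` to `U`. -/
theorem coe_normalizerMonoidHom {U : Subgroup G} {g : G} (hg : g ∈ normalizer (U : Set G)) (u : U) :
    ((U.normalizerMonoidHom ⟨g, hg⟩ u : U) : G) = g * u * g⁻¹ := rfl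

/-- An automizer element lifts to an element normalising a Sylow subgroup of the centraliser. -/
theorem exists_lift_normalizing {N U X : Subgroup G} (hN : N.Normal)
    (hX : IsSylowIn p (N ⊓ centralizer (U : Set G)) X) {σ : MulAut U} (hσ : σ ∈ autN N U) :
    ∃ (g : G) (hgU : g ∈ normalizer (U : Set G)),
      g ∈ N ∧ g ∈ normalizer (X : Set G) ∧ U.normalizerMonoidHom ⟨g, hgU⟩ = σ := by
  obtain ⟨g, hgN, hgU, hσg⟩ := mem_autN.1 hσ
  have hL : g ∈ normalizer ((N ⊓ centralizer (U : Set G) : Subgroup G) : Set G) :=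
    inf_normalizer_le_normalizer_inf
      ⟨by rw [@normalizer_eq_top _ _ N hN]; exact mem_top g, normalizer_le_normalizer_centralizer U hgU⟩
  obtain ⟨l, hl, hlg⟩ := hX.exists_mul_mem_normalizer hL
  have hlU : l * g ∈ normalizer (U : Set G) :=
    mul_mem (centralizer_le_normalizer (U : Set G) hl.2) hgU
  refine ⟨l * g, hlU, mul_mem hl.1 hgN, hlg, MulEquiv.ext fun u => Subtype.ext ?_⟩
  rw [coe_normalizerMonoidHom, hσg u]
  have hc := mem_centralizer_iff.1 hl.2 (g * u * g⁻¹) ((mem_normalizer_iff.1 hgU _).1 u.2)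
  calc l * g * u * (l * g)⁻¹ = (l * (g * u * g⁻¹)) * l⁻¹ := by group
    _ = g * u * g⁻¹ := by rw [← hc, mul_inv_cancel_right]

omit [Fact p.Prime] in
theorem orderOf_normalizerMonoidHom_dvd {U : Subgroup G} {g : G} (hg : g ∈ normalizer (U : Set G)) :
    orderOf (U.normalizerMonoidHom ⟨g, hg⟩) ∣ orderOf g :=
  (orderOf_map_dvd _ _).trans (orderOf_mk g hg).dvd

omit [Fact p.Prime] in
/-- A lift of order prime to `q`. -/
theorem exists_lift_prime' {q : ℕ} (hq : q.Prime) {N U X : Subgroup G} {g : G}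
    (hgU : g ∈ normalizer (U : Set G)) (hgN : g ∈ N) (hgX : g ∈ normalizer (X : Set G))
    (hσ : ¬ q ∣ orderOf (U.normalizerMonoidHom ⟨g, hgU⟩)) :
    ∃ (g' : G) (hU : g' ∈ normalizer (U : Set G)), g' ∈ N ∧ g' ∈ normalizer (X : Set G) ∧
      ¬ q ∣ orderOf g' ∧ U.normalizerMonoidHom ⟨g', hU⟩ = U.normalizerMonoidHom ⟨g, hgU⟩ := by
  obtain ⟨j, hj, hx⟩ := exists_prime'_power hq g
  refine ⟨g ^ j, pow_mem hgU j, pow_mem hgN j, pow_mem hgX j, hj, ?_⟩
  rw [show (⟨g ^ j, pow_mem hgU j⟩ : normalizer (U : Set G)) = ⟨g, hgU⟩ ^ j from rfl, map_pow]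
  exact hx _ (orderOf_normalizerMonoidHom_dvd hgU) hσ

omit [Fact p.Prime] in
/-- A lift of `r`-power order. -/
theorem exists_lift_prime {r : ℕ} (hr : r.Prime) {N U X : Subgroup G} {g : G}
    (hgU : g ∈ normalizer (U : Set G)) (hgN : g ∈ N) (hgX : g ∈ normalizer (X : Set G))
    (hσ : ∃ a, orderOf (U.normalizerMonoidHom ⟨g, hgU⟩) ∣ r ^ a) :
    ∃ (g' : G) (hU : g' ∈ normalizer (U : Set G)), g' ∈ N ∧ g' ∈ normalizer (X : Set G) ∧
      (∃ a, orderOf g' ∣ r ^ a) ∧ U.normalizerMonoidHom ⟨g', hU⟩ = U.normalizerMonoidHom ⟨g, hgU⟩ := by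
  obtain ⟨j, hj, hx⟩ := exists_prime_power hr g
  refine ⟨g ^ j, pow_mem hgU j, pow_mem hgN j, pow_mem hgX j, hj, ?_⟩
  rw [show (⟨g ^ j, pow_mem hgU j⟩ : normalizer (U : Set G)) = ⟨g, hgU⟩ ^ j from rfl, map_pow]
  exact hx _ (orderOf_normalizerMonoidHom_dvd hgU) hσ

omit [Fact p.Prime] in
theorem coe_normalizerMonoidHom_pow {U : Subgroup G} {g : G} (hg : g ∈ normalizer (U : Set G)) (k : ℕ)
    (u : U) : ((((U.normalizerMonoidHom ⟨g, hg⟩) ^ k) u : U) : G) = g ^ k * u * (g ^ k)⁻¹ := by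
  rw [← map_pow]
  rfl

/-- A fixed class contains a fixed point (coprime action). -/
theorem exists_fixed_lift {T : Type*} [Group T] [Finite T] (hT : IsPGroup p T) (σ : MulAut T)
    (hσ : ¬ p ∣ orderOf σ) {K : Subgroup T} (hK : ∀ x ∈ K, σ x ∈ K) {x : T} (hx : x⁻¹ * σ x ∈ K) :
    ∃ k ∈ K, σ (x * k) = x * k := by
  let φ : zpowers σ →* MulAut T := (zpowers σ).subtype
  have hKk : ∀ (k : ℕ), ∀ y ∈ K, (σ ^ k) y ∈ K := by
    intro k
    induction k with
    | zero => exact fun y hy => hy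
    | succ k ih => intro y hy; rw [pow_succ', MulAut.mul_apply]; exact hK _ (ih y hy)
  have hxk : ∀ (k : ℕ), x⁻¹ * (σ ^ k) x ∈ K := by
    intro k
    induction k with
    | zero => simp [K.one_mem]
    | succ k ih =>
      rw [pow_succ', MulAut.mul_apply,
        show x⁻¹ * σ ((σ ^ k) x) = (x⁻¹ * σ x) * σ (x⁻¹ * (σ ^ k) x) by
          rw [map_mul, map_inv]; group]
      exact mul_mem hx (hK _ ih)
  have hmem : ∀ a : zpowers σ, ∃ k : ℕ, (a : MulAut T) = σ ^ k := fun a => by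
    obtain ⟨k, hk⟩ := Submonoid.mem_powers_iff _ _ |>.1 (mem_powers_iff_mem_zpowers.2 a.2)
    exact ⟨k, hk.symm⟩
  obtain ⟨k, hkK, hk⟩ := Coprime.exists_fixed_mul_mem_hom φ (N := K)
    (fun a y hy => by obtain ⟨i, hi⟩ := hmem a; show (a : MulAut T) y ∈ K; rw [hi]; exact hKk i y hy)
    (by
      obtain ⟨b, hb⟩ := IsPGroup.iff_card.1 (hT.to_subgroup K)
      rw [Nat.card_zpowers, hb]
      exact (((Fact.out : p.Prime).coprime_iff_not_dvd.2 hσ).pow_left b).symm)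
    (Or.inl inferInstance) (k := x)
    (fun a => by obtain ⟨i, hi⟩ := hmem a; show x⁻¹ * (a : MulAut T) x ∈ K; rw [hi]; exact hxk i)
  exact ⟨k, hkK, hk ⟨σ, mem_zpowers σ⟩⟩

end Cfsg.Agent.Homogeneous
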