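import Cfsg.Agent.Lib.Homogeneous.FixInvolutions
import Cfsg.Agent.Lib.Homogeneous.Automizer
import Cfsg.Agent.Lib.Homogeneous.Cores
import Cfsg.Agent.S0071

/-!
# A perfect group of even order with central involutions has exactly one involution
-/

set_option autoImplicit false
set_option linter.style.haveILetI false

namespace Cfsg.Agent.Homogeneous

open Subgroup
open scoped IsMulCommutative commutatorElement

universe u
variable {G : Type u} [Group G] [Finite G]

/-- The elements of `N(U)` with `[c, U] ≤ V`, for a central subgroup `V`. -/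
def stabSubgroup (U V : Subgroup G) (hV : V ≤ center G) : Subgroup G where
  carrier := {c | c ∈ normalizer (U : Set G) ∧ ∀ x ∈ U, c * x * c⁻¹ * x⁻¹ ∈ V}
  one_mem' := ⟨one_mem _, fun x _ => by simp [V.one_mem]⟩
  mul_mem' := fun {a b} ha hb => ⟨mul_mem ha.1 hb.1, fun x hx => by
    have h1 : a * b * x * (a * b)⁻¹ * x⁻¹ = a * (b * x * b⁻¹ * x⁻¹) * a⁻¹ * (a * x * a⁻¹ * x⁻¹) := by
      group
    rw [h1, (Subgroup.mem_center_iff.1 (hV (hb.2 x hx)) a), mul_inv_cancel_right]
    exact mul_mem (hb.2 x hx) (ha.2 x hx)⟩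
  inv_mem' := fun {a} ha => ⟨inv_mem ha.1, fun x hx => by
    have h1 : a⁻¹ * x * a⁻¹⁻¹ * x⁻¹ = a⁻¹ * (a * x * a⁻¹ * x⁻¹)⁻¹ * a := by group
    rw [h1, (Subgroup.mem_center_iff.1 (hV (inv_mem (ha.2 x hx))) a⁻¹), inv_mul_cancel_right]
    exact inv_mem (ha.2 x hx)⟩

theorem isPGroup_zpowers_of_pow {p : ℕ} [Fact p.Prime] {c : G} {k : ℕ} (hk : c ^ p ^ k = 1) :
    IsPGroup p (zpowers c) := by
  obtain ⟨j, -, hj⟩ := (Nat.dvd_prime_pow (Fact.out : p.Prime)).1 (orderOf_dvd_of_pow_eq_one hk)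
  exact IsPGroup.of_card (n := j) (by rw [Nat.card_zpowers, hj])

/-- A perfect group of even order in which all involutions are central has exactly one involution. -/
theorem card_involutions_eq_one (h : IsoExt 2 G) (hperf : Group.IsPerfect G) (heven : Even (Nat.card G))
    (hcen : ∀ x : G, x ^ 2 = 1 → x ∈ center G) :
    ∃ z : G, orderOf z = 2 ∧ ∀ x : G, orderOf x = 2 → x = z := by
  haveI : Fact (Nat.Prime 2) := ⟨Nat.prime_two⟩
  let V : Subgroup G :=
    { carrier := {x | x ^ 2 = 1}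
      one_mem' := one_pow 2
      mul_mem' := fun {a b} ha hb => by
        show (a * b) ^ 2 = 1
        rw [(show Commute a b from Subgroup.mem_center_iff.1 (hcen b hb) a).mul_pow, ha, hb, one_mul]
      inv_mem' := fun {a} ha => by
        show a⁻¹ ^ 2 = 1
        rw [inv_pow, show a ^ 2 = 1 from ha, inv_one] }
  have hVc : V ≤ center G := fun x hx => hcen x hx
  obtain ⟨z, hz⟩ := exists_prime_orderOf_dvd_card' 2 heven.two_dvd
  have hzV : z ∈ V := by
    show z ^ 2 = 1
    rw [← hz]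
    exact pow_orderOf_eq_one z
  refine ⟨z, hz, fun x hx => ?_⟩
  by_contra hxz
  haveI : IsMulCommutative V :=
    ⟨⟨fun a b => Subtype.ext (Subgroup.mem_center_iff.1 (hVc b.2) a)⟩⟩
  have hVp : IsPGroup 2 V := fun v => ⟨1, Subtype.ext (by simpa using (show (v : G) ^ 2 = 1 from v.2))⟩
  obtain ⟨n, hn⟩ := IsPGroup.iff_card.1 hVp
  have h2n : 2 ≤ n := by
    by_contra hlt
    have hle : Nat.card V ≤ 2 := by
      rw [hn]
      calc 2 ^ n ≤ 2 ^ 1 := Nat.pow_le_pow_right (by norm_num) (by omega)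
        _ = 2 := by norm_num
    have h3 : ({1, z, x} : Set G).ncard = 3 := by
      have hx1 : x ≠ 1 := fun e => by simp [e] at hx
      have hz1 : z ≠ 1 := fun e => by simp [e] at hz
      rw [Set.ncard_insert_of_notMem (by simp [Ne.symm hz1, Ne.symm hx1]) (Set.toFinite _),
        Set.ncard_pair (Ne.symm hxz)]
    have h4 : ({1, z, x} : Set G).ncard ≤ (V : Set G).ncard :=
      Set.ncard_le_ncard (by
        rintro y (rfl | rfl | rfl)
        · exact V.one_mem
        · exact hzV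
        · show y ^ 2 = 1
          rw [← hx]
          exact pow_orderOf_eq_one y) (Set.toFinite _)
    have h5 : (V : Set G).ncard = Nat.card V := (Nat.card_coe_set_eq _).symm
    omega
  -- some 2-subgroup is acted on nontrivially by an odd element
  obtain ⟨P⟩ : Nonempty (Sylow 2 G) := inferInstance
  have hex : ∃ Q : Subgroup G, IsPGroup 2 Q ∧ ∃ g ∈ normalizer (Q : Set G),
      Odd (orderOf g) ∧ g ∉ centralizer (Q : Set G) := by
    by_contra hno
    push Not at hno
    obtain ⟨N, hN, hNP⟩ := (S0071.result P).2 fun Q hQ g hg hco =>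
      hno Q (P.2.to_le hQ) g hg (Nat.coprime_two_right.1 hco)
    have hsol : Group.IsSolvable (G ⧸ N) := by
      have hp : IsPGroup 2 (G ⧸ N) := IsPGroup.of_equiv P.2 hNP.symm.QuotientMulEquiv.symm
      haveI := hp.isNilpotent
      infer_instance
    have htriv : ∀ y : G, y ∈ N := by
      intro y
      have h1 : (y : G ⧸ N) ∈ commutator (G ⧸ N) := by
        have h2 : Subgroup.map (QuotientGroup.mk' N) (commutator G) ≤ commutator (G ⧸ N) := by
          rw [_root_.commutator_def, _root_.commutator_def, Subgroup.map_commutator]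
          exact commutator_mono le_top le_top
        exact h2 ⟨y, hperf.commutator_eq_top ▸ mem_top y, rfl⟩
      haveI : Group.IsPerfect (G ⧸ N) := by
        haveI := hperf
        infer_instance
      by_contra hy
      haveI : Nontrivial (G ⧸ N) := ⟨(y : G ⧸ N), 1, fun e => hy ((QuotientGroup.eq_one_iff y).1 e)⟩
      exact Group.IsPerfect.not_isSolvable (G ⧸ N) hsol
    have hPbot : (P : Subgroup G) = ⊥ := by
      rw [eq_bot_iff]
      intro y hy
      exact hNP.disjoint.le_bot (Subgroup.mem_inf.2 ⟨htriv y, hy⟩)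
    have := P.card_eq_multiplicity
    rw [hPbot, Subgroup.card_bot] at this
    have h1 : (Nat.card G).factorization 2 = 0 := by
      by_contra h0
      exact absurd this.symm (Nat.one_lt_pow h0 one_lt_two).ne'
    exact absurd heven.two_dvd
      ((Nat.factorization_eq_zero_iff _ _).1 h1 |>.resolve_left (by norm_num) |>.resolve_right Nat.card_pos.ne')
  obtain ⟨Q, hQ, g₀, hg₀Q, hg₀o, hg₀C⟩ := hex
  have hsupp : ∀ R : Subgroup G, IsPGroup 2 R → IsPGroup 2 (V ⊔ R : Subgroup G) := fun R hR =>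
    hVp.to_sup_of_normal_left' hR fun r _ => mem_normalizer_iff.2 fun y => by
      constructor
      · intro hy
        rwa [Subgroup.mem_center_iff.1 (hVc hy) r, mul_inv_cancel_right]
      · intro hy
        have := Subgroup.mem_center_iff.1 (hVc hy) r
        have h' : y = r * y * r⁻¹ := by
          have h'' : r * (r * y * r⁻¹) * r⁻¹ = r * y * r⁻¹ := by rw [this, mul_inv_cancel_right]
          have := congrArg (fun w => r⁻¹ * w * r) h''
          simpa [mul_assoc] using this.symm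
        rw [h']; exact hy
  have hnormV : ∀ (g : G) (R : Subgroup G), g ∈ normalizer (R : Set G) →
      g ∈ normalizer ((V ⊔ R : Subgroup G) : Set G) := fun g R hg => mem_normalizer_fintype fun y hy => by
    have hle : (V ⊔ R).map (MulAut.conj g).toMonoidHom ≤ V ⊔ R := by
      rw [Subgroup.map_sup]
      refine sup_le_sup ?_ ?_
      · rintro _ ⟨w, hw, rfl⟩
        show g * w * g⁻¹ ∈ V
        rwa [Subgroup.mem_center_iff.1 (hVc hw) g, mul_inv_cancel_right]
      · rintro _ ⟨w, hw, rfl⟩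
        exact (mem_normalizer_iff.1 hg w).1 hw
    exact hle ⟨y, hy, rfl⟩
  obtain ⟨U, ⟨hVU, hU, g, hgU, hgo, hgC⟩, hmax⟩ := (Set.toFinite {U : Subgroup G | V ≤ U ∧ IsPGroup 2 U ∧
      ∃ g ∈ normalizer (U : Set G), Odd (orderOf g) ∧ g ∉ centralizer (U : Set G)}).exists_maximal
    ⟨V ⊔ Q, le_sup_left, hsupp Q hQ, g₀, hnormV g₀ Q hg₀Q, hg₀o,
      fun hc => hg₀C (centralizer_le (SetLike.coe_subset_coe.2 le_sup_right) hc)⟩
  have hc : CentralSub 2 U V :=
    ⟨hVU, fun v hv y _ => (Subgroup.mem_center_iff.1 (hVc hv) y).symm, fun v hv => hv⟩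
  refine hgC (centralizes_of_fix_involutions h (N := ⊤) inferInstance hU hc (mem_top g) hgU ?_ hgo ?_
    (fun y _ hy => hy) hn h2n)
  · rw [mem_centralizer_iff]
    exact fun v hv => (Subgroup.mem_center_iff.1 (hVc hv) g).symm
  -- the inner hypothesis
  intro c _ hcU _ hcV hck
  set K := stabSubgroup U V hVc with hK
  obtain ⟨k, hk⟩ := hck
  obtain ⟨S, hS, hcS⟩ := exists_isSylowIn_ge (p := 2) K (zpowers c)
    (zpowers_le.2 ⟨hcU, hcV⟩) (isPGroup_zpowers_of_pow hk)
  have hgK : g ∈ normalizer (K : Set G) := mem_normalizer_fintype fun a ha => by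
    refine ⟨mul_mem (mul_mem hgU ha.1) (inv_mem hgU), fun y hy => ?_⟩
    have hy' : g⁻¹ * y * g ∈ U := (mem_normalizer_iff''.1 hgU y).1 hy
    have h1 : g * a * g⁻¹ * y * (g * a * g⁻¹)⁻¹ * y⁻¹ =
        g * (a * (g⁻¹ * y * g) * a⁻¹ * (g⁻¹ * y * g)⁻¹) * g⁻¹ := by group
    rw [h1, Subgroup.mem_center_iff.1 (hVc (ha.2 _ hy')) g, mul_inv_cancel_right]
    exact ha.2 _ hy'
  obtain ⟨l, hl, hlS⟩ := hS.exists_mul_mem_normalizer hgK
  have hlU : l * g ∈ normalizer (U : Set G) := mul_mem hl.1 hgU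
  obtain ⟨j, hjo, hjx⟩ := exists_prime'_power Nat.prime_two (l * g)
  have hgj : (l * g) ^ j ∈ normalizer (U : Set G) := pow_mem hlU j
  have hXp : IsPGroup 2 (U ⊔ S : Subgroup G) :=
    hU.to_sup_of_normal_left' hS.isP fun s hs => (hS.le hs).1
  have hXn : (l * g) ^ j ∈ normalizer ((U ⊔ S : Subgroup G) : Set G) := mem_normalizer_fintype fun y hy => by
    have hle : (U ⊔ S).map (MulAut.conj ((l * g) ^ j)).toMonoidHom ≤ U ⊔ S := by
      rw [Subgroup.map_sup]
      refine sup_le_sup ?_ ?_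
      · rintro _ ⟨w, hw, rfl⟩
        exact (mem_normalizer_iff.1 hgj w).1 hw
      · rintro _ ⟨w, hw, rfl⟩
        exact (mem_normalizer_iff.1 (pow_mem hlS j) w).1 hw
    exact hle ⟨y, hy, rfl⟩
  -- the odd part does not centralise `U`
  have hnc : (l * g) ^ j ∉ centralizer (U : Set G) := by
    intro hcc
    apply hgC
    -- the images in `MulAut U`
    set f := U.normalizerMonoidHom with hf
    have hl2 : (f ⟨l, hl.1⟩) ^ 2 = 1 := MulEquiv.ext fun y => Subtype.ext (by
      rw [pow_two, MulAut.mul_apply]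
      show l * (l * y * l⁻¹) * l⁻¹ = y
      have hd := hl.2 y y.2
      have hdc := Subgroup.mem_center_iff.1 (hVc hd) l
      have hd2 : (l * y * l⁻¹ * (y : G)⁻¹) ^ 2 = 1 := hd
      set d := l * y * l⁻¹ * (y : G)⁻¹ with hdd
      have h1 : l * y * l⁻¹ = d * y := by rw [hdd]; group
      clear_value d
      rw [h1]
      calc l * (d * y) * l⁻¹ = (l * d) * y * l⁻¹ := by group
        _ = d * (l * y * l⁻¹) := by rw [hdc]; group
        _ = d * d * y := by rw [h1, mul_assoc]
        _ = y := by rw [← pow_two, hd2, one_mul])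
    have hlgj : (f ⟨l * g, hlU⟩) ^ j = 1 := by
      rw [← map_pow]
      refine MulEquiv.ext fun y => Subtype.ext ?_
      show (l * g) ^ j * y * ((l * g) ^ j)⁻¹ = y
      rw [← mem_centralizer_iff.1 hcc y y.2, mul_inv_cancel_right]
    -- the image of `l * g` is a 2-element
    obtain ⟨e, he⟩ : ∃ e, (f ⟨l * g, hlU⟩) ^ 2 ^ e = 1 := by
      set w := f ⟨l * g, hlU⟩ with hw
      obtain ⟨e, m, hm, hem⟩ :=
        Nat.exists_eq_pow_mul_and_not_dvd (orderOf_pos w).ne' 2 (by norm_num)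
      refine ⟨e, orderOf_dvd_iff_pow_eq_one.1 ?_⟩
      have ho : orderOf (w ^ 2 ^ e) = m := by
        rw [orderOf_pow, hem, Nat.gcd_eq_right (dvd_mul_right _ _), Nat.mul_div_cancel_left _ (by positivity)]
      have h1 : (w ^ 2 ^ e) ^ j = w ^ 2 ^ e := hjx _ (((orderOf_pow_dvd _).trans
        (orderOf_normalizerMonoidHom_dvd hlU))) (ho.symm ▸ hm)
      rw [← pow_mul, mul_comm, pow_mul, hlgj, one_pow] at h1
      rw [← h1, orderOf_one] at ho
      rw [hem, ← ho, mul_one]
    -- modulo the image of `K`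
    set A : Subgroup (MulAut U) := (K.subgroupOf (normalizer (U : Set G))).map f with hA
    haveI hKn : (K.subgroupOf (normalizer (U : Set G))).Normal := ⟨fun a ha b => by
      rw [mem_subgroupOf] at ha ⊢
      have hb := b.2
      refine ⟨mul_mem (mul_mem hb ha.1) (inv_mem hb), fun y hy => ?_⟩
      have hy' : (b : G)⁻¹ * y * b ∈ U := (mem_normalizer_iff''.1 hb y).1 hy
      have h1 : (b : G) * a * (b : G)⁻¹ * y * ((b : G) * a * (b : G)⁻¹)⁻¹ * y⁻¹ =
          (b : G) * ((a : G) * ((b : G)⁻¹ * y * b) * (a : G)⁻¹ * ((b : G)⁻¹ * y * b)⁻¹) * (b : G)⁻¹ := by group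
      simp only [Subgroup.coe_mul, Subgroup.coe_inv]
      rw [h1, Subgroup.mem_center_iff.1 (hVc (ha.2 _ hy')) (b : G), mul_inv_cancel_right]
      exact ha.2 _ hy'⟩
    set π := (QuotientGroup.mk' (K.subgroupOf (normalizer (U : Set G))))
    have hmem : (⟨g, hgU⟩ : normalizer (U : Set G)) ^ 2 ^ (e + 1) ∈ K.subgroupOf (normalizer (U : Set G)) ⊔
        f.ker := by
      have h1 : π ((⟨g, hgU⟩ : normalizer (U : Set G)) ^ 2 ^ (e + 1)) =
          π ((⟨l * g, hlU⟩ : normalizer (U : Set G)) ^ 2 ^ (e + 1)) := by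
        rw [map_pow, map_pow]
        congr 1
        refine (QuotientGroup.eq_iff_div_mem).2 ?_
        rw [mem_subgroupOf, Subgroup.coe_div]
        show g / (l * g) ∈ K
        rw [div_eq_mul_inv, mul_inv_rev, mul_inv_cancel_left]
        exact inv_mem hl
      have h2 := QuotientGroup.eq.1 h1
      have h3 : (⟨l * g, hlU⟩ : normalizer (U : Set G)) ^ 2 ^ (e + 1) ∈ f.ker := by
        rw [MonoidHom.mem_ker, map_pow, pow_succ, pow_mul, he, one_pow]
      rw [show (⟨g, hgU⟩ : normalizer (U : Set G)) ^ 2 ^ (e + 1) =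
          (⟨l * g, hlU⟩ : normalizer (U : Set G)) ^ 2 ^ (e + 1) *
          (((⟨g, hgU⟩ : normalizer (U : Set G)) ^ 2 ^ (e + 1))⁻¹ *
            (⟨l * g, hlU⟩ : normalizer (U : Set G)) ^ 2 ^ (e + 1))⁻¹ by group]
      exact mul_mem (mem_sup_right h3) (mem_sup_left (inv_mem h2))
    have hfg : (f ⟨g, hgU⟩) ^ 2 ^ (e + 2) = 1 := by
      obtain ⟨a, ha, b, hb, hab⟩ := mem_sup_of_normal_left.1 hmem
      rw [pow_succ _ (e + 1), pow_mul, ← map_pow f _ (2 ^ (e + 1)), ← hab, map_mul, MonoidHom.mem_ker.1 hb,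
        mul_one]
      refine MulEquiv.ext fun y => Subtype.ext ?_
      have ha' : (a : G) ∈ K := mem_subgroupOf.1 ha
      rw [pow_two, MulAut.mul_apply]
      show (a : G) * ((a : G) * y * (a : G)⁻¹) * (a : G)⁻¹ = y
      have hd := ha'.2 y y.2
      have hdc := Subgroup.mem_center_iff.1 (hVc hd) (a : G)
      have hd2 : ((a : G) * y * (a : G)⁻¹ * (y : G)⁻¹) ^ 2 = 1 := hd
      set d := (a : G) * y * (a : G)⁻¹ * (y : G)⁻¹ with hdd
      have h1 : (a : G) * y * (a : G)⁻¹ = d * y := by rw [hdd]; group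
      clear_value d
      rw [h1]
      calc (a : G) * (d * y) * (a : G)⁻¹ = ((a : G) * d) * y * (a : G)⁻¹ := by group
        _ = d * ((a : G) * y * (a : G)⁻¹) := by rw [hdc]; group
        _ = d * d * y := by rw [h1, mul_assoc]
        _ = y := by rw [← pow_two, hd2, one_mul]
    have hg1 : f ⟨g, hgU⟩ = 1 := by
      have h1 : orderOf (f ⟨g, hgU⟩) ∣ orderOf g := orderOf_normalizerMonoidHom_dvd hgU
      have h2 := orderOf_dvd_of_pow_eq_one hfg
      exact orderOf_eq_one_iff.1 (Nat.dvd_one.1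
        (((Nat.coprime_two_right.2 hgo).pow_right (e + 2)) ▸ Nat.dvd_gcd h1 h2))
    rw [mem_centralizer_iff]
    intro y hy
    have h3 : g * y * g⁻¹ = y := congrArg Subtype.val (MulEquiv.congr_fun hg1 ⟨y, hy⟩)
    exact (mul_inv_eq_iff_eq_mul.1 h3).symm
  have hle := hmax ⟨hVU.trans le_sup_left, hXp, (l * g) ^ j, hXn,
    Nat.not_even_iff_odd.1 fun he => hjo he.two_dvd,
    fun hcc => hnc (centralizer_le (SetLike.coe_subset_coe.2 le_sup_left) hcc)⟩ le_sup_left
  exact hle (mem_sup_right (hcS (mem_zpowers c)))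

end Cfsg.Agent.Homogeneous
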