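import Cfsg.Agent.Lib.Homogeneous.RadicalTwo
import Cfsg.Agent.Lib.Components.Layer
import Cfsg.Agent.Lib.Components.Fitting
import Cfsg.Agent.Lib.PGroup.QuaternionQuot
import Cfsg.Agent.Lib.PGroup.UniqueInvolutionAut
import Cfsg.Agent.Lib.OutSolvable.TransitiveNormalizer
import Cfsg.Agent.S0225

/-!
# The unique component of a homogeneous group modulo its radical
-/

set_option autoImplicit false
set_option linter.style.haveILetI false

namespace Cfsg.Agent.Homogeneous

open Subgroup Cfsg
open scoped IsMulCommutative commutatorElement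

universe u
variable {G : Type u} [Group G] [Finite G]

/-- An element of 2-power order in a subgroup of odd order is trivial. -/
theorem eq_one_of_two_pow_mem {N : Subgroup G} (hN : ¬ 2 ∣ Nat.card N) {g : G} (hg : g ∈ N) {k : ℕ}
    (hk : g ^ 2 ^ k = 1) : g = 1 := by
  have h3 : orderOf g ∣ 2 ^ k := orderOf_dvd_of_pow_eq_one hk
  have h4 : orderOf g ∣ Nat.card N := by
    have := orderOf_dvd_natCard (⟨g, hg⟩ : N)
    rwa [Subgroup.orderOf_mk] at this
  exact orderOf_eq_one_iff.1
    (Nat.eq_one_of_dvd_coprimes ((Nat.prime_two.coprime_iff_not_dvd.2 hN).pow_left k) h3 h4)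

/-- A 2-group with at most one involution has at most 4 elements in an elementary abelian image. -/
theorem card_range_le_four {S : Type*} [Group S] [Finite S] (hS : IsPGroup 2 S)
    (huniq : ∀ x y : S, orderOf x = 2 → orderOf y = 2 → x = y) {A : Type*} [Group A] (f : S →* A)
    (hA : ∀ s, f s ^ 2 = 1) : Nat.card f.range ≤ 4 := by
  haveI : Fact (Nat.Prime 2) := ⟨Nat.prime_two⟩
  obtain ⟨a, b, hgen⟩ : ∃ a b : S, ∀ g : S, ∃ k : ℕ, g = a ^ k ∨ g = b * a ^ k := by
    by_cases hS1 : Nontrivial S
    · obtain ⟨z, hz⟩ := exists_prime_orderOf_dvd_card' (G := S) 2 (by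
        obtain ⟨k, hk⟩ := IsPGroup.iff_card.1 hS
        have : k ≠ 0 := fun e => by
          have := Finite.one_lt_card (α := S)
          rw [hk, e] at this
          simp at this
        exact hk ▸ dvd_pow_self 2 this)
      by_cases hab : IsMulCommutative S
      · have hu : ∀ H K : Subgroup S, Nat.card H = 2 → Nat.card K = 2 → H = K := by
          intro H K hH hK
          obtain ⟨⟨x, hxH⟩, hx⟩ := exists_prime_orderOf_dvd_card' (G := H) 2 (by rw [hH])
          obtain ⟨⟨y, hyK⟩, hy⟩ := exists_prime_orderOf_dvd_card' (G := K) 2 (by rw [hK])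
          rw [Subgroup.orderOf_mk] at hx hy
          have h1 : zpowers x = H := Subgroup.eq_of_le_of_card_ge (zpowers_le.2 hxH)
            (by rw [Nat.card_zpowers, hx, hH])
          have h2 : zpowers y = K := Subgroup.eq_of_le_of_card_ge (zpowers_le.2 hyK)
            (by rw [Nat.card_zpowers, hy, hK])
          rw [← h1, ← h2, huniq x y hx hy]
        haveI := PGroup.isCyclic_of_unique_of_isMulCommutative hS hu hab
        obtain ⟨a, ha⟩ := IsCyclic.exists_monoid_generator (α := S)
        refine ⟨a, 1, fun g => ?_⟩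
        obtain ⟨k, hk⟩ := ha g
        exact ⟨k, Or.inl hk.symm⟩
      · obtain ⟨n, a, b, -, -, -, -, -, hg⟩ := PGroup.exists_quaternion_generators hS hab
          ⟨z, hz, fun y hy => huniq y z hy hz⟩
        exact ⟨a, b, hg⟩
    · exact ⟨1, 1, fun g => ⟨0, Or.inl (by
        by_contra hne
        exact hS1 ⟨g, 1 ^ 0, hne⟩)⟩⟩
  have hpow : ∀ k : ℕ, f a ^ k = 1 ∨ f a ^ k = f a := by
    intro k
    rcases Nat.even_or_odd k with ⟨i, rfl⟩ | ⟨i, rfl⟩
    · left; rw [← two_mul, pow_mul, hA, one_pow]
    · right; rw [pow_succ, pow_mul, hA, one_pow, one_mul]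
  have hsub : (f.range : Set A) ⊆ {1, f a, f b, f b * f a} := by
    rintro _ ⟨g, rfl⟩
    obtain ⟨k, rfl | rfl⟩ := hgen g
    · rw [map_pow]
      rcases hpow k with h | h <;> simp [h]
    · rw [map_mul, map_pow]
      rcases hpow k with h | h <;> simp [h]
  have h1 : (f.range : Set A).ncard ≤ ({1, f a, f b, f b * f a} : Set A).ncard :=
    Set.ncard_le_ncard hsub (Set.toFinite _)
  have h2 : ({1, f a, f b, f b * f a} : Set A).ncard ≤ 4 := by
    refine (Set.ncard_insert_le _ _).trans ?_
    refine Nat.succ_le_succ ((Set.ncard_insert_le _ _).trans ?_)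
    refine Nat.succ_le_succ ((Set.ncard_insert_le _ _).trans ?_)
    rw [Set.ncard_singleton]
  rw [← Nat.card_coe_set_eq] at h1
  exact h1.trans h2

/-- A nonabelian simple group contains a Klein four-group. -/
theorem exists_kleinFour {T : Type u} [Group T] [Finite T] [IsSimpleGroup T] (hT : ¬ IsMulCommutative T) :
    ∃ E : Subgroup T, IsKleinFour E := by
  haveI : Fact (Nat.Prime 2) := ⟨Nat.prime_two⟩
  have heven : Even (Nat.card T) := by
    by_contra ho
    haveI := S0205.result (G := T) (Nat.not_even_iff_odd.1 ho)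
    exact hT ⟨⟨IsSimpleGroup.comm_iff_isSolvable.2 inferInstance⟩⟩
  by_contra hno
  push Not at hno
  obtain ⟨z, hz, N, hN, hodd, hcomm⟩ := S0225.result heven hno
  rcases hN.eq_bot_or_eq_top with rfl | rfl
  · have hzc : z ∈ center T := Subgroup.mem_center_iff.2 fun g =>
      (commutatorElement_eq_one_iff_mul_comm.1
        (show ⁅z, g⁆ = 1 from Subgroup.mem_bot.1 (hcomm g))).symm
    rcases (inferInstance : (center T).Normal).eq_bot_or_eq_top with hb | ht
    · rw [hb, Subgroup.mem_bot] at hzc
      rw [hzc, orderOf_one] at hz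
      exact absurd hz (by norm_num)
    · exact hT ⟨⟨fun a b => Subgroup.mem_center_iff.1 (ht ▸ mem_top b) a⟩⟩
  · rw [Subgroup.card_top] at hodd
    exact Nat.not_even_iff_odd.2 hodd heven

/-- A simple component of a group without solvable radical exists. -/
theorem exists_simple_component {L : Type u} [Group L] [Finite L] [Nontrivial L]
    (hR : solvableRadical L = ⊥) {N : Subgroup L} (hN : N.IsSubnormal) (hNne : N ≠ ⊥) :
    ∃ T : Subgroup L, T ≤ N ∧ IsComponent T ∧ IsSimpleGroup T ∧ ¬ IsMulCommutative T := by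
  obtain ⟨T, ⟨hT, hTne, hTN⟩, hmin⟩ := (Set.toFinite {T : Subgroup L | T.IsSubnormal ∧ T ≠ ⊥ ∧ T ≤ N}).exists_minimal
    ⟨N, hN, hNne, le_rfl⟩
  haveI : Nontrivial T := (Subgroup.nontrivial_iff_ne_bot T).2 hTne
  have hsimple : IsSimpleGroup T := ⟨fun M hM => by
    by_cases hMb : M = ⊥
    · exact Or.inl hMb
    refine Or.inr ?_
    have hne : M.map T.subtype ≠ ⊥ := fun e =>
      hMb ((Subgroup.map_eq_bot_iff_of_injective M T.subtype_injective).1 e)
    have h1 := hmin ⟨Components.isSubnormal_map_subtype hT hM.isSubnormal, hne,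
      (map_subtype_le M).trans hTN⟩ (map_subtype_le M)
    rw [eq_top_iff]
    intro x _
    obtain ⟨y, hy, hyx⟩ := h1 x.2
    exact Subtype.ext hyx ▸ hy⟩
  have hna : ¬ IsMulCommutative T := by
    intro hc
    have hnil : Group.IsNilpotent T := by
      haveI := hc
      infer_instance
    have h1 : T ≤ fittingSubgroup L := Components.le_fittingSubgroup_of_isSubnormal hT (H := T)
    have h2 : Group.IsNilpotent (fittingSubgroup L) := by
      rw [Components.fittingSubgroup_eq_iSup_pCore]
      exact Components.isNilpotent_iSup_pCore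
    haveI := h2
    have hFn : (fittingSubgroup L).Normal := sSup_normal _ fun _ h => h.1
    have h3 : fittingSubgroup L ≤ solvableRadical L := le_solvableRadical hFn inferInstance
    exact hTne (le_bot_iff.1 (hR ▸ h1.trans h3))
  haveI := hsimple
  exact ⟨T, hTN, ⟨hT, Components.isQuasisimple_of_isSimpleGroup hna⟩, hsimple, hna⟩

/-- The image of an element of prime power order. -/
theorem exists_lift_pow {G' : Type*} [Group G'] {p : ℕ} (hp : p.Prime) (π : G →* G')
    (hπ : Function.Surjective π) {x : G'} {k : ℕ} (hx : orderOf x = p ^ k) :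
    ∃ g : G, π g = x ∧ ∃ a, orderOf g ∣ p ^ a := by
  obtain ⟨g, rfl⟩ := hπ x
  obtain ⟨j, hj, hjx⟩ := exists_prime_power hp g
  exact ⟨g ^ j, by rw [map_pow, hjx (π g) (orderOf_map_dvd π g) ⟨k, hx.dvd⟩], hj⟩

/-- The automorphism induced on `G / R`. -/
def quotAut (R : Subgroup G) [R.Normal] (hR : R.Characteristic) (φ : G ≃* G) : (G ⧸ R) ≃* (G ⧸ R) :=
  QuotientGroup.congr R R φ (characteristic_iff_map_eq.1 hR φ)

omit [Finite G] in
theorem quotAut_mk (R : Subgroup G) [R.Normal] (hR : R.Characteristic) (φ : G ≃* G) (g : G) :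
    quotAut R hR φ (QuotientGroup.mk' R g) = QuotientGroup.mk' R (φ g) := rfl

/-- Two components of `G / R` coincide. -/
theorem component_unique (h : IsoExt 2 G) (hns : ¬ Group.IsSolvable G)
    [(solvableRadical G).Normal] {T₁ T₂ : Subgroup (G ⧸ solvableRadical G)}
    (h₁ : IsComponent T₁) (h₂ : IsComponent T₂) (hs₁ : IsSimpleGroup T₁) (hs₂ : IsSimpleGroup T₂)
    (hn₁ : ¬ IsMulCommutative T₁) (hn₂ : ¬ IsMulCommutative T₂) : T₁ = T₂ := by
  haveI : Fact (Nat.Prime 2) := ⟨Nat.prime_two⟩
  by_contra hne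
  set R := solvableRadical G with hRdef
  set π := QuotientGroup.mk' R with hπ
  have hcomm := Components.IsComponent.commutator_eq_bot h₁ h₂ hne
  have hc12 : ∀ a ∈ T₁, ∀ b ∈ T₂, a * b = b * a := fun a ha b hb =>
    commutatorElement_eq_one_iff_mul_comm.1 (Subgroup.mem_bot.1 (hcomm ▸ commutator_mem_commutator ha hb))
  have hcenter : ∀ {T : Subgroup (G ⧸ R)}, IsSimpleGroup T → ¬ IsMulCommutative T →
      ∀ a ∈ T, (∀ b ∈ T, a * b = b * a) → a = 1 := by
    intro T hs hn a ha hab
    haveI := hs
    have hmem : (⟨a, ha⟩ : T) ∈ center T :=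
      Subgroup.mem_center_iff.2 fun b => Subtype.ext (hab b b.2).symm
    rcases (inferInstance : (center T).Normal).eq_bot_or_eq_top with hb | ht
    · rw [hb, Subgroup.mem_bot] at hmem
      exact congrArg Subtype.val hmem
    · exact absurd ⟨⟨fun x y => Subgroup.mem_center_iff.1 (ht ▸ mem_top y) x⟩⟩ hn
  have hdisj : ∀ a ∈ T₁, a ∈ T₂ → a = 1 := fun a ha1 ha2 =>
    hcenter hs₁ hn₁ a ha1 fun b hb => (hc12 b hb a ha2).symm
  haveI := hs₁
  haveI := hs₂
  obtain ⟨E₁, hE₁⟩ := exists_kleinFour hn₁
  obtain ⟨E₂, hE₂⟩ := exists_kleinFour hn₂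
  have hsq₁ : ∀ x : E₁, (((x : T₁) : G ⧸ R)) ^ 2 = 1 := fun x => by
    have := Monoid.pow_exponent_eq_one x
    rw [IsKleinFour.exponent_two] at this
    exact congrArg (fun y : E₁ => ((y : T₁) : G ⧸ R)) this
  have hsq₂ : ∀ x : E₂, (((x : T₂) : G ⧸ R)) ^ 2 = 1 := fun x => by
    have := Monoid.pow_exponent_eq_one x
    rw [IsKleinFour.exponent_two] at this
    exact congrArg (fun y : E₂ => ((y : T₂) : G ⧸ R)) this
  have htwo : ∀ x : G ⧸ R, x ^ 2 = 1 → x ≠ 1 → orderOf x = 2 := fun x hx hx1 => orderOf_eq_prime hx hx1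
  by_cases hR2 : 2 ∣ Nat.card R
  · -- the radical has even order: the 2-rank of `G / R` is at most 2
    obtain ⟨hMn, -, hMp⟩ := solvPrime_spec (G := G) Nat.prime_two
    haveI := hMn
    obtain ⟨z, hz, huniq⟩ := exists_unique_involution_quotient h hns hR2
    let prod : E₁ × E₂ →* G ⧸ R :=
      MonoidHom.mk' (fun x => ((x.1 : T₁) : G ⧸ R) * ((x.2 : T₂) : G ⧸ R)) fun x y => by
        show ((x.1 : T₁) : G ⧸ R) * (y.1 : T₁) * (((x.2 : T₂) : G ⧸ R) * (y.2 : T₂)) = _
        rw [mul_mul_mul_comm']
        exact hc12 _ (y.1 : T₁).2 _ (x.2 : T₂).2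
    have hinj : Function.Injective prod := (injective_iff_map_eq_one prod).2 fun x hx => by
      have h1 : ((x.1 : T₁) : G ⧸ R) = (((x.2 : T₂) : G ⧸ R))⁻¹ := eq_inv_of_mul_eq_one_left hx
      have h2 := hdisj _ (x.1 : T₁).2 (h1 ▸ inv_mem (x.2 : T₂).2)
      have h3 : ((x.2 : T₂) : G ⧸ R) = 1 := inv_eq_one.1 (h1 ▸ h2)
      exact Prod.ext (Subtype.ext (Subtype.ext h2)) (Subtype.ext (Subtype.ext h3))
    set A := prod.range with hA
    have hA16 : Nat.card A = 16 := by
      rw [hA, ← Nat.card_congr (MonoidHom.ofInjective hinj).toEquiv, Nat.card_prod, IsKleinFour.card_four,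
        IsKleinFour.card_four]
    have hA2 : ∀ a ∈ A, a ^ 2 = 1 := by
      rintro _ ⟨x, rfl⟩
      show (((x.1 : T₁) : G ⧸ R) * ((x.2 : T₂) : G ⧸ R)) ^ 2 = 1
      rw [(show Commute ((x.1 : T₁) : G ⧸ R) ((x.2 : T₂) : G ⧸ R) from
        hc12 _ (x.1 : T₁).2 _ (x.2 : T₂).2).mul_pow, hsq₁, hsq₂, one_mul]
    set P := A.comap π with hP
    obtain ⟨S⟩ : Nonempty (Sylow 2 P) := inferInstance
    set f : S →* G ⧸ R := π.comp (P.subtype.comp (S : Subgroup P).subtype) with hf
    have hfr : f.range = A := by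
      refine le_antisymm ?_ ?_
      · rintro _ ⟨s, rfl⟩
        exact (s : P).2
      · have hmap : P.map π = A :=
          map_comap_eq_self_of_surjective (QuotientGroup.mk'_surjective R) A
        let g : P →* A := (π.comp P.subtype).codRestrict A fun x => x.2
        have hg : Function.Surjective g := fun a => by
          obtain ⟨x, hx, hxa⟩ := hmap.ge a.2
          exact ⟨⟨x, hx⟩, Subtype.ext hxa⟩
        obtain ⟨k, hk⟩ := IsPGroup.iff_card.1 (show IsPGroup 2 A from fun a => ⟨1, Subtype.ext (by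
          simpa using hA2 a a.2)⟩)
        have htop : (S : Subgroup P).map g = ⊤ := by
          rw [← Subgroup.index_eq_one]
          have h1 : ((S : Subgroup P).map g).index ∣ (S : Subgroup P).index := index_map_dvd _ hg
          have h2 : ((S : Subgroup P).map g).index ∣ 2 ^ k := hk ▸ index_dvd_card _
          have h3 : ((S : Subgroup P).index).Coprime (2 ^ k) :=
            ((Nat.prime_two.coprime_iff_not_dvd).2 (S.not_dvd_index' Subgroup.index_ne_zero_of_finite)).symm.pow_right k
          exact Nat.dvd_one.1 (h3 ▸ Nat.dvd_gcd h1 h2)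
        intro a ha
        obtain ⟨s, hs, hsa⟩ := htop.ge (mem_top (⟨a, ha⟩ : A))
        exact ⟨⟨s, hs⟩, congrArg Subtype.val hsa⟩
    have hSu : ∀ x y : S, orderOf x = 2 → orderOf y = 2 → x = y := by
      intro x y hx hy
      set ι : S →* G ⧸ solvPrime 2 G :=
        (QuotientGroup.mk' (solvPrime 2 G)).comp (P.subtype.comp (S : Subgroup P).subtype) with hι
      have hιinj : Function.Injective ι := (injective_iff_map_eq_one ι).2 fun s hs => by
        have h1 : ((s : P) : G) ∈ solvPrime 2 G := (QuotientGroup.eq_one_iff _).1 hs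
        obtain ⟨k, hk⟩ := S.2 s
        have h2 := eq_one_of_two_pow_mem hMp h1 (k := k)
          (by simpa using congrArg (fun t : S => ((t : P) : G)) hk)
        exact Subtype.ext (Subtype.ext h2)
      apply hιinj
      rw [huniq (ι x) (by rw [orderOf_injective ι hιinj, hx]),
        huniq (ι y) (by rw [orderOf_injective ι hιinj, hy])]
    have := card_range_le_four S.2 hSu f (fun s => hA2 _ (s : P).2)
    rw [hfr, hA16] at this
    omega
  · -- the radical has odd order: all involutions of `G / R` lift to involutions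
    obtain ⟨⟨x, hxT⟩, hx⟩ := exists_prime_orderOf_dvd_card' (G := E₁) 2
      (by rw [IsKleinFour.card_four]; norm_num)
    obtain ⟨⟨y, hyT⟩, hy⟩ := exists_prime_orderOf_dvd_card' (G := E₂) 2
      (by rw [IsKleinFour.card_four]; norm_num)
    rw [Subgroup.orderOf_mk, ← Subgroup.orderOf_coe] at hx hy
    set a₁ : G ⧸ R := (x : G ⧸ R) with ha₁
    set a₂ : G ⧸ R := (y : G ⧸ R) with ha₂
    have ha12 : orderOf (a₁ * a₂) = 2 := by
      refine htwo _ ?_ fun e => ?_
      · rw [(show Commute a₁ a₂ from hc12 _ x.2 _ y.2).mul_pow, ← hx, pow_orderOf_eq_one, hx, ← hy,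
          pow_orderOf_eq_one, one_mul]
      · have h1 : a₁ = a₂⁻¹ := eq_inv_of_mul_eq_one_left e
        have := hdisj a₁ x.2 (h1 ▸ inv_mem y.2)
        rw [this, orderOf_one] at hx
        exact absurd hx (by norm_num)
    have hlift : ∀ a : G ⧸ R, orderOf a = 2 → ∃ g : G, π g = a ∧ orderOf g = 2 := by
      intro a ha
      obtain ⟨g, hg, k, hk⟩ := exists_lift_pow Nat.prime_two π (QuotientGroup.mk'_surjective R)
        (k := 1) (by rwa [pow_one])
      refine ⟨g, hg, orderOf_eq_prime ?_ fun e => ?_⟩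
      · have h1 : g ^ 2 ∈ R := (QuotientGroup.eq_one_iff _).1 (show π (g ^ 2) = 1 by
          rw [map_pow, hg, ← ha, pow_orderOf_eq_one])
        exact eq_one_of_two_pow_mem hR2 h1 (k := k)
          (orderOf_dvd_iff_pow_eq_one.1 ((orderOf_pow_dvd 2).trans hk))
      · rw [e, map_one] at hg
        rw [← hg, orderOf_one] at ha
        exact absurd ha (by norm_num)
    obtain ⟨g₁, hg₁, hg₁o⟩ := hlift a₁ hx
    obtain ⟨g₂, hg₂, hg₂o⟩ := hlift (a₁ * a₂) ha12
    obtain ⟨φ, hφ⟩ := h.exists_map_eq (k := 1) (by rw [pow_one, hg₁o]) (by rw [pow_one, hg₂o] : orderOf g₂ = _)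
    set ψ := quotAut R solvableRadical_characteristic φ with hψ
    set T := T₁.map ψ.toMonoidHom with hT
    have hTc : IsComponent T := Components.IsComponent.map_equiv h₁ ψ
    have hmem : a₁ * a₂ ∈ T := ⟨a₁, x.2, by
      show ψ a₁ = a₁ * a₂
      rw [← hg₁, hψ, quotAut_mk, hφ, hg₂, hg₁]⟩
    by_cases hTT : T = T₁
    · rw [hTT] at hmem
      have h2 : a₂ ∈ T₁ := by
        rw [show a₂ = a₁⁻¹ * (a₁ * a₂) by group]
        exact mul_mem (inv_mem x.2) hmem
      have := hdisj a₂ h2 y.2
      rw [this, orderOf_one] at hy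
      exact absurd hy (by norm_num)
    · have hcT := Components.IsComponent.commutator_eq_bot hTc h₁ hTT
      have h1 : a₁ = 1 := by
        refine hcenter hs₁ hn₁ a₁ x.2 fun b hb => ?_
        have h12 : a₁ * a₂ * b = b * (a₁ * a₂) := commutatorElement_eq_one_iff_mul_comm.1
          (Subgroup.mem_bot.1 (hcT ▸ commutator_mem_commutator hmem hb))
        have h2b : b * a₂ = a₂ * b := hc12 b hb _ y.2
        calc a₁ * b = a₁ * a₂ * b * a₂⁻¹ := by rw [mul_assoc a₁ a₂ b, ← h2b]; group
          _ = b * a₁ := by rw [h12]; group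
      rw [h1, orderOf_one] at hx
      exact absurd hx (by norm_num)
where
  mul_mul_mul_comm' {α : Type u} [Group α] {a b c d : α} : a * b * (c * d) = a * c * (b * d) ↔ b * c = c * b := by
    constructor
    · intro e
      calc b * c = a⁻¹ * (a * b * (c * d)) * d⁻¹ := by group
        _ = a⁻¹ * (a * c * (b * d)) * d⁻¹ := by rw [e]
        _ = c * b := by group
    · intro e
      calc a * b * (c * d) = a * (b * c) * d := by group
        _ = a * (c * b) * d := by rw [e]
        _ = a * c * (b * d) := by group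

/-- The quasisimple subgroup attached to the component of `G / R`. -/
structure CoreData (G : Type u) [Group G] [Finite G] where
  /-- the quasisimple subgroup -/
  K : Subgroup G
  char : K.Characteristic
  quasi : IsQuasisimple K
  le_core : K ≤ perfectCore G
  two_group : IsPGroup 2 (K ⊓ solvableRadical G : Subgroup G)
  inf_le_center : K ⊓ solvableRadical G ≤ centralizer (K : Set G)
  inf_eq_bot_iff : K ⊓ solvableRadical G = ⊥ ↔ ¬ 2 ∣ Nat.card (solvableRadical G)
  radical_le : solvableRadical G ≤ centralizer (K : Set G)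
  centralizer_le : centralizer (K : Set G) ≤ solvableRadical G

/-- Construction of the core data. -/
theorem exists_coreData (h : ∀ p : ℕ, IsoExt p G) (hns : ¬ Group.IsSolvable G) : Nonempty (CoreData G) := by
  haveI : Fact (Nat.Prime 2) := ⟨Nat.prime_two⟩
  obtain ⟨hRn, hRs⟩ := solvableRadical_spec (G := G)
  haveI := hRn
  set R := solvableRadical G with hRdef
  set π := QuotientGroup.mk' R with hπ
  haveI : Nontrivial (G ⧸ R) := QuotientGroup.nontrivial_iff.2 fun e => hns (by
    haveI := hRs
    rw [e] at this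
    exact Group.isSolvable_of_isSolvable_injective (f := (topEquiv (G := G)).symm.toMonoidHom)
      (topEquiv (G := G)).symm.injective)
  have hR0 : solvableRadical (G ⧸ R) = ⊥ := solvableRadical_quotient
  obtain ⟨T, -, hTc, hTs, hTn⟩ := exists_simple_component hR0 (Normal.isSubnormal (inferInstance :
    (⊤ : Subgroup (G ⧸ R)).Normal)) top_ne_bot
  have huniq : ∀ T' : Subgroup (G ⧸ R), IsComponent T' → IsSimpleGroup T' → ¬ IsMulCommutative T' → T' = T :=
    fun T' h1 h2 h3 => component_unique (h 2) hns h1 hTc h2 hTs h3 hTn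
  have hTchar : T.Characteristic := characteristic_iff_map_eq.2 fun φ => by
    let e := T.equivMapOfInjective φ.toMonoidHom φ.injective
    refine huniq _ (Components.IsComponent.map_equiv hTc φ) ?_ fun hc => hTn ⟨⟨fun a b => e.injective ?_⟩⟩
    · haveI := hTs
      haveI := e.injective.nontrivial
      exact IsSimpleGroup.isSimpleGroup_of_surjective (f := e.toMonoidHom) e.surjective
    · rw [map_mul, map_mul]
      exact hc.is_comm.comm (e a) (e b)
  haveI := hTchar
  have hCT : centralizer (T : Set (G ⧸ R)) = ⊥ := by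
    by_contra hne
    obtain ⟨T', hT'le, hT'c, hT's, hT'n⟩ :=
      exists_simple_component hR0 (Normal.isSubnormal (inferInstance : (centralizer (T : Set (G ⧸ R))).Normal)) hne
    obtain rfl := huniq T' hT'c hT's hT'n
    exact hTn ⟨⟨fun a b => Subtype.ext (mem_centralizer_iff.1 (hT'le b.2) a a.2)⟩⟩
  set T' := T.comap π with hT'
  have hT'c : T'.Characteristic := characteristic_iff_map_le.2 fun φ => by
    rintro _ ⟨x, hx, rfl⟩
    show π (φ x) ∈ T
    rw [← quotAut_mk R solvableRadical_characteristic φ x]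
    exact apply_mem_of_characteristic hTchar _ hx
  set K := (perfectCore T').map T'.subtype with hKdef
  have hKperf : ⁅K, K⁆ = K := commutator_map_self _ commutator_perfectCore
  have hKchar : K.Characteristic := characteristic_iff_map_le.2 fun φ => by
    rintro _ ⟨_, ⟨x, hx, rfl⟩, rfl⟩
    exact ⟨restrictChar hT'c φ x, apply_mem_of_characteristic perfectCore_characteristic _ hx, rfl⟩
  haveI := hKchar
  have hKT : K.map π ≤ T := by
    rintro _ ⟨_, ⟨x, -, rfl⟩, rfl⟩
    exact x.2
  have hKπ : K.map π = T := by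
    haveI : (K.map π).Normal := (inferInstance : K.Normal).map π (QuotientGroup.mk'_surjective R)
    haveI := hTs
    rcases ((inferInstance : ((K.map π).subgroupOf T).Normal)).eq_bot_or_eq_top with hb | ht
    · exfalso
      have hKb : K.map π = ⊥ := by
        rw [← map_subgroupOf_eq_of_le hKT, hb, Subgroup.map_bot]
      rw [Subgroup.map_eq_bot_iff, QuotientGroup.ker_mk'] at hKb
      have hKs : Group.IsSolvable K := by
        haveI := hRs
        exact Group.isSolvable_of_isSolvable_injective (f := inclusion hKb) (inclusion_injective hKb)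
      have hK1 : K = ⊥ := eq_bot_of_perfect_of_solvable hKperf hKs
      rw [hKdef, Subgroup.map_eq_bot_iff_of_injective _ T'.subtype_injective] at hK1
      have hTsol : Group.IsSolvable T := by
        haveI := isSolvable_of_perfectCore_eq_bot hK1
        have hmap : T'.map π = T := map_comap_eq_self_of_surjective (QuotientGroup.mk'_surjective R) T
        rw [← hmap]
        exact Group.isSolvable_of_surjective (π.subgroupMap_surjective T')
      exact hTn ⟨⟨IsSimpleGroup.comm_iff_isSolvable.2 hTsol⟩⟩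
    · exact le_antisymm hKT (subgroupOf_eq_top.1 ht)
  have hKcore : K ≤ perfectCore G := le_perfectCore hKperf
  set M := K ⊓ R with hM
  have hM2 : IsPGroup 2 M := by
    intro x
    obtain ⟨e, m, hm, hem⟩ := Nat.exists_eq_pow_mul_and_not_dvd (orderOf_pos x).ne' 2 (by norm_num)
    refine ⟨e, orderOf_dvd_iff_pow_eq_one.1 ?_⟩
    by_contra hnd
    have hm1 : m ≠ 1 := fun e1 => hnd (by rw [hem, e1, mul_one])
    obtain ⟨q, hq, hqm⟩ := Nat.exists_prime_and_dvd hm1
    haveI : Fact q.Prime := ⟨hq⟩
    have hq2 : q ≠ 2 := fun e2 => hm (e2 ▸ hqm)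
    have hqM : q ∣ Nat.card M := (hqm.trans (hem ▸ dvd_mul_left m _)).trans (orderOf_dvd_natCard x)
    exact not_dvd_perfectCore hq2 (h q) (hqM.trans (card_dvd_of_le inf_le_right))
      (hqM.trans (card_dvd_of_le (inf_le_left.trans hKcore)))
  have hMbot : ¬ 2 ∣ Nat.card R → M = ⊥ := fun hodd => by
    obtain ⟨k, hk⟩ := IsPGroup.iff_card.1 hM2
    refine Subgroup.card_eq_one.1 ?_
    rcases Nat.eq_zero_or_pos k with rfl | hk0
    · rw [hk, pow_zero]
    · exact absurd ((hk ▸ dvd_pow_self 2 hk0.ne').trans (card_dvd_of_le inf_le_right)) hodd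
  have hKne : K ≠ ⊥ := fun e => by
    rw [e, Subgroup.map_bot] at hKπ
    exact hTn (by rw [← hKπ]; infer_instance)
  -- at most one involution in `M`
  have hMu : ∀ x y : M, orderOf x = 2 → orderOf y = 2 → x = y := by
    intro x y hx hy
    have hR2 : 2 ∣ Nat.card R := by
      rw [← hx]
      exact (orderOf_dvd_natCard x).trans (card_dvd_of_le inf_le_right)
    obtain ⟨hSn, -, hSp⟩ := solvPrime_spec (G := G) Nat.prime_two
    haveI := hSn
    obtain ⟨z, -, huz⟩ := exists_unique_involution_quotient (h 2) hns hR2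
    have hinv : ∀ g : M, orderOf g = 2 → QuotientGroup.mk' (solvPrime 2 G) (g : G) = z := by
      intro g hg
      refine huz _ (orderOf_eq_prime ?_ fun e => ?_)
      · have h2 := pow_orderOf_eq_one g
        rw [hg] at h2
        rw [← map_pow, ← Subgroup.coe_pow, h2, Subgroup.coe_one, map_one]
      · have h1 := (QuotientGroup.eq_one_iff _).1 e
        refine hSp ?_
        have h2 := orderOf_dvd_natCard (⟨(g : G), h1⟩ : solvPrime 2 G)
        rwa [Subgroup.orderOf_mk, Subgroup.orderOf_coe, hg] at h2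
    have h1 : ((x : G))⁻¹ * y ∈ solvPrime 2 G := QuotientGroup.eq.1 ((hinv x hx).trans (hinv y hy).symm)
    obtain ⟨k, hk⟩ := hM2 (x⁻¹ * y)
    have h5 := eq_one_of_two_pow_mem hSp h1 (k := k) (by simpa using congrArg Subtype.val hk)
    exact Subtype.ext (inv_mul_eq_one.1 h5)
  have hMn : M.Normal := inferInstance
  have hMcen : M ≤ centralizer (K : Set G) := by
    have hKn : K ≤ normalizer (M : Set G) := by rw [normalizer_eq_top]; exact le_top
    set f := M.normalizerMonoidHom.comp (inclusion hKn) with hf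
    have hsol : Group.IsSolvable f.range := by
      refine OutSolvable.isSolvable_of_23 fun q hq hdq => ?_
      by_contra hne23
      rw [not_or] at hne23
      haveI : Fact q.Prime := ⟨hq⟩
      obtain ⟨⟨σ, hσ⟩, hσo⟩ := exists_prime_orderOf_dvd_card' (G := f.range) q hdq
      rw [Subgroup.orderOf_mk] at hσo
      have h3 := (PGroup.mulAut_odd_of_unique_involution hM2 hMu σ (hq.odd_of_ne_two hne23.1)
        (by rw [← hσo]; exact pow_orderOf_eq_one σ)).1
      exact hne23.2 ((Nat.prime_dvd_prime_iff_eq hq Nat.prime_three).1 (hσo ▸ orderOf_dvd_of_pow_eq_one h3))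
    have hr : f.range = ⊥ := by
      haveI := isPerfect_of_commutator_self hKperf
      haveI : Group.IsPerfect f.range := Group.IsPerfect.ofSurjective f.rangeRestrict_surjective
      by_contra hne
      haveI : Nontrivial f.range := (Subgroup.nontrivial_iff_ne_bot _).2 hne
      exact Group.IsPerfect.not_isSolvable f.range hsol
    intro m hm
    rw [mem_centralizer_iff]
    intro k hk
    have h1 : f ⟨k, hk⟩ = 1 := Subgroup.mem_bot.1 (hr ▸ ⟨_, rfl⟩)
    have h2 : k * m * k⁻¹ = m := congrArg Subtype.val (MulEquiv.congr_fun h1 ⟨m, hm⟩)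
    exact mul_inv_eq_iff_eq_mul.1 h2
  haveI hKperf' : Group.IsPerfect K := isPerfect_of_commutator_self hKperf
  have hKne' : Nontrivial K := (Subgroup.nontrivial_iff_ne_bot K).2 hKne
  have hquasi : IsQuasisimple K := by
    refine Components.isQuasisimple_of_normal_central fun N hN => ?_
    haveI := hTs
    let g : K →* T := (π.comp K.subtype).codRestrict T fun x => hKT ⟨x, x.2, rfl⟩
    have hg : Function.Surjective g := fun t => by
      obtain ⟨x, hx, hxt⟩ := hKπ.ge t.2
      exact ⟨⟨x, hx⟩, Subtype.ext hxt⟩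
    have hker : g.ker ≤ center K := fun x hx => by
      rw [Subgroup.mem_center_iff]
      intro y
      have hxM : (x : G) ∈ M := ⟨x.2, (QuotientGroup.eq_one_iff _).1 (congrArg Subtype.val hx)⟩
      exact Subtype.ext (mem_centralizer_iff.1 (hMcen hxM) y y.2)
    rcases (hN.map g hg).eq_bot_or_eq_top with hb | ht
    · exact Or.inr (((Subgroup.map_eq_bot_iff N).1 hb).trans hker)
    · left
      have hsup : N ⊔ g.ker = ⊤ := by rw [← comap_map_eq, ht, comap_top]
      rw [eq_top_iff, ← hKperf'.commutator_eq_top, _root_.commutator_def, Subgroup.commutator_le]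
      intro a _ b _
      obtain ⟨n, hn, z, hz, rfl⟩ := mem_sup_of_normal_left.1 (hsup ▸ mem_top a : a ∈ N ⊔ g.ker)
      have hzc := Subgroup.mem_center_iff.1 (hker hz)
      have h1 : ⁅n * z, b⁆ = n * (b * n⁻¹ * b⁻¹) := by
        rw [commutatorElement_def, mul_assoc n z b, ← hzc b]
        group
      rw [h1]
      exact mul_mem hn (hN.conj_mem _ (inv_mem hn) b)
  have hRK : R ≤ centralizer (K : Set G) := by
    refine Components.le_centralizer_of_commutator_eq_bot
      (Components.commutator_eq_bot_symm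
        (Components.commutator_eq_bot_of_commutator_commutator hKperf' ?_))
    have h1 : ⁅R, K⁆ ≤ M := le_inf (commutator_le_right R K) (commutator_le_left R K)
    exact le_bot_iff.1 ((commutator_mono h1 le_rfl).trans
      (le_of_eq (commutator_eq_bot_iff_le_centralizer.2 hMcen)))
  have hCK : centralizer (K : Set G) ≤ R := by
    intro x hx
    rw [← QuotientGroup.eq_one_iff]
    have : π x ∈ centralizer (T : Set (G ⧸ R)) := by
      rw [mem_centralizer_iff]
      intro t ht
      obtain ⟨y, hy, rfl⟩ := hKπ.ge ht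
      rw [← map_mul, ← map_mul, mem_centralizer_iff.1 hx y hy]
    rw [hCT] at this
    exact Subgroup.mem_bot.1 this
  refine ⟨⟨K, hKchar, hquasi, hKcore, hM2, hMcen, ⟨fun hb hd => ?_, hMbot⟩, hRK, hCK⟩⟩
  -- if `R` has even order, the involution of `K` lies in `M`
  obtain ⟨hSn, -, hSp⟩ := solvPrime_spec (G := G) Nat.prime_two
  haveI := hSn
  obtain ⟨z, -, huz⟩ := exists_unique_involution_quotient (h 2) hns hd
  have hKeven : Even (Nat.card K) := by
    by_contra ho
    exact hKne (eq_bot_of_perfect_of_solvable hKperf (S0205.result (Nat.not_even_iff_odd.1 ho)))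
  obtain ⟨⟨k, hkK⟩, hko⟩ := exists_prime_orderOf_dvd_card' (G := K) 2 hKeven.two_dvd
  obtain ⟨⟨r, hrR⟩, hro⟩ := exists_prime_orderOf_dvd_card' (G := R) 2 hd
  rw [Subgroup.orderOf_mk] at hko hro
  have himg : ∀ g : G, orderOf g = 2 → QuotientGroup.mk' (solvPrime 2 G) g = z := by
    intro g hg
    refine huz _ (orderOf_eq_prime ?_ fun e => ?_)
    · have h2 := pow_orderOf_eq_one g
      rw [hg] at h2
      rw [← map_pow, h2, map_one]
    · have h1 := (QuotientGroup.eq_one_iff _).1 e
      refine hSp ?_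
      have h2 := orderOf_dvd_natCard (⟨g, h1⟩ : solvPrime 2 G)
      rwa [Subgroup.orderOf_mk, hg] at h2
  have h1 : r⁻¹ * k ∈ solvPrime 2 G := QuotientGroup.eq.1 ((himg r hro).trans (himg k hko).symm)
  have hkR : k ∈ R := by
    rw [show k = r * (r⁻¹ * k) by group]
    exact mul_mem hrR (solvPrime_le_solvableRadical 2 h1)
  have hk1 : k ∈ (⊥ : Subgroup G) := hb ▸ (show k ∈ M from ⟨hkK, hkR⟩)
  rw [Subgroup.mem_bot] at hk1
  rw [hk1, orderOf_one] at hko
  exact absurd hko (by norm_num)

end Cfsg.Agent.Homogeneous
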