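import Cfsg.Agent.Lib.Homogeneous.OuterOdd
import Cfsg.Agent.Lib.Coprime.Sylow

/-!
# Primes not dividing a quasisimple characteristic subgroup
-/

set_option autoImplicit false
set_option linter.style.haveILetI false

namespace Cfsg.Agent.Homogeneous

open Subgroup
open scoped IsMulCommutative

universe u
variable {G : Type u} [Group G] [Finite G]

/-- An element commuting with subgroups of every odd part of a perfect group `K`, all of whose commutators with
`K` lie in an invariant 2-subgroup, centralises `K`. -/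
theorem commute_of_odd_parts {K : Subgroup G} (hq : Cfsg.IsQuasisimple K) {x : G}
    (hxK : x ∈ normalizer (K : Set G)) (S : Sylow 2 K)
    (hxS : x ∈ normalizer (((S : Subgroup K).map K.subtype : Subgroup G) : Set G))
    (hodd : ∀ r : ℕ, r.Prime → r ≠ 2 → ∃ P : Sylow r K, ∀ w ∈ (P : Subgroup K), x * (w : G) = (w : G) * x) :
    x ∈ centralizer (K : Set G) := by
  haveI : Fact (Nat.Prime 2) := ⟨Nat.prime_two⟩
  haveI := hq.1
  set C : Subgroup K := (centralizer ({x} : Set G)).subgroupOf K with hC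
  have hCmem : ∀ {w : K}, w ∈ C ↔ (w : G) * x = x * w := fun {w} => by
    rw [hC, mem_subgroupOf, mem_centralizer_singleton_iff]
  -- `K = C S`
  let f : C ⧸ (S : Subgroup K).subgroupOf C → K ⧸ (S : Subgroup K) :=
    Quotient.map' (fun c => (c : K)) fun a b hab => by
      rw [QuotientGroup.leftRel_apply] at hab ⊢
      exact hab
  have hfinj : Function.Injective f := fun a b => by
    induction a using QuotientGroup.induction_on with | _ a =>
    induction b using QuotientGroup.induction_on with | _ b =>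
    intro hab
    exact QuotientGroup.eq.2 ((QuotientGroup.eq).1 hab : (a : K)⁻¹ * b ∈ (S : Subgroup K))
  have hdvd : (S : Subgroup K).index ∣ ((S : Subgroup K).subgroupOf C).index := by
    refine (Nat.dvd_iff_prime_pow_dvd_dvd _ _).2 fun r e hr hre => ?_
    by_cases hr2 : r = 2
    · subst hr2
      rcases Nat.eq_zero_or_pos e with rfl | he
      · exact one_dvd _
      · exact absurd ((dvd_pow_self 2 he.ne').trans hre) S.not_dvd_index
    · haveI : Fact r.Prime := ⟨hr⟩
      obtain ⟨P, hP⟩ := hodd r hr hr2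
      have hPC : (P : Subgroup K) ≤ C := fun w hw => hCmem.2 (hP w hw).symm
      have h1 : r ^ e ∣ Nat.card (P : Subgroup K) := by
        rw [P.card_eq_multiplicity]
        refine pow_dvd_pow r ((hr.pow_dvd_iff_le_factorization Nat.card_pos.ne').1 ?_)
        exact hre.trans (S : Subgroup K).index_dvd_card
      have h2 : r ^ e ∣ Nat.card ((S : Subgroup K).subgroupOf C) * ((S : Subgroup K).subgroupOf C).index := by
        rw [Subgroup.card_mul_index]
        exact h1.trans (card_dvd_of_le hPC)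
      refine Nat.Coprime.dvd_of_dvd_mul_left ?_ h2
      obtain ⟨s, hs⟩ := IsPGroup.iff_card.1 (S.2.comap_subtype (K := C))
      rw [subgroupOf, hs]
      exact ((Nat.coprime_primes hr Nat.prime_two).2 hr2).pow _ _
  have hfbij : Function.Bijective f := (Nat.bijective_iff_injective_and_card f).2 ⟨hfinj, le_antisymm
    (Nat.card_le_card_of_injective f hfinj) (by
      rw [← Subgroup.index_eq_card, ← Subgroup.index_eq_card]
      exact Nat.le_of_dvd (Nat.pos_of_ne_zero Subgroup.index_ne_zero_of_finite) hdvd)⟩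
  -- the commutators with `x`
  have hcomm : ∀ k : K, ∃ n : K, n ∈ (S : Subgroup K) ∧ (n : G) = k * x * (k : G)⁻¹ * x⁻¹ := by
    intro k
    obtain ⟨c, hc⟩ := hfbij.2 ((k⁻¹ : K) : K ⧸ (S : Subgroup K))
    induction c using QuotientGroup.induction_on with | _ c =>
    have hcs : (c : K)⁻¹ * k⁻¹ ∈ (S : Subgroup K) := QuotientGroup.eq.1 hc
    set s : K := (c : K)⁻¹ * k⁻¹ with hs
    have hk : (k : G) = (s : G)⁻¹ * ((c : K) : G)⁻¹ := by
      rw [show k = s⁻¹ * (c : K)⁻¹ by rw [hs]; group]
      simp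
    have hcx : ((c : K) : G)⁻¹ * x = x * ((c : K) : G)⁻¹ := Commute.inv_left (hCmem.1 c.2)
    have h1 : x * (s : G) * x⁻¹ ∈ (S : Subgroup K).map K.subtype :=
      (mem_normalizer_iff.1 hxS _).1 ⟨s, hcs, rfl⟩
    obtain ⟨s', hs', hs'x⟩ := h1
    refine ⟨s⁻¹ * s', mul_mem (inv_mem hcs) hs', ?_⟩
    rw [hk, Subgroup.coe_mul, Subgroup.coe_inv, show (s' : G) = x * s * x⁻¹ from hs'x, mul_inv_rev, inv_inv,
      inv_inv, mul_assoc ((s : G)⁻¹) (((c : K) : G)⁻¹) x, hcx]
    group
  choose d hdS hd using hcomm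
  have hdmul : ∀ a b : K, d (a * b) = a * d b * a⁻¹ * d a := fun a b => Subtype.ext (by
    simp only [Subgroup.coe_mul, Subgroup.coe_inv, hd]
    group)
  set N : Subgroup K := Subgroup.closure (Set.range d) with hN
  have hNn : N.Normal := normalizer_eq_top_iff.1 (eq_top_iff.2 fun a _ => by
    have key : ∀ a : K, ∀ w ∈ N, a * w * a⁻¹ ∈ N := by
      intro a w hw
      rw [hN] at hw
      induction hw using Subgroup.closure_induction with
      | mem w hw =>
        obtain ⟨b, rfl⟩ := hw
        rw [show a * d b * a⁻¹ = d (a * b) * (d a)⁻¹ by rw [hdmul, mul_inv_cancel_right]]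
        exact mul_mem (subset_closure ⟨_, rfl⟩) (inv_mem (subset_closure ⟨_, rfl⟩))
      | one => simp [one_mem]
      | mul u v _ _ hu hv =>
        rw [show a * (u * v) * a⁻¹ = (a * u * a⁻¹) * (a * v * a⁻¹) by group]
        exact mul_mem hu hv
      | inv u _ hu =>
        rw [show a * u⁻¹ * a⁻¹ = (a * u * a⁻¹)⁻¹ by group]
        exact inv_mem hu
    exact mem_normalizer_fintype fun w hw => key a w hw)
  have hNS : N ≤ (S : Subgroup K) := by
    rw [hN, closure_le]
    rintro _ ⟨k, rfl⟩
    exact hdS k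
  have hNc : N ≤ Subgroup.center K := by
    haveI := hNn
    haveI := hq.2
    set π := QuotientGroup.mk' (Subgroup.center K) with hπ
    rcases (hNn.map π (QuotientGroup.mk'_surjective _)).eq_bot_or_eq_top with hb | ht
    · rwa [Subgroup.map_eq_bot_iff, QuotientGroup.ker_mk'] at hb
    · exfalso
      haveI : Group.IsNilpotent (N.map π) := ((S.2.to_le hNS).map π).isNilpotent
      haveI : Group.IsNilpotent (K ⧸ Subgroup.center K) := by
        rw [ht] at this
        exact Group.nilpotent_of_mulEquiv Subgroup.topEquiv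
      exact Group.IsPerfect.not_isSolvable (K ⧸ Subgroup.center K) inferInstance
  let δ : K →* Subgroup.center K :=
    MonoidHom.mk' (fun k => ⟨d k, hNc (subset_closure ⟨k, rfl⟩)⟩) fun a b => Subtype.ext (by
      show d (a * b) = d a * d b
      have hcb := Subgroup.mem_center_iff.1 (hNc (subset_closure ⟨b, rfl⟩))
      rw [hdmul, hcb a, mul_inv_cancel_right, hcb (d a)])
  have hδ : δ = 1 := by
    have hle : commutator K ≤ δ.ker := Abelianization.commutator_subset_ker δ
    rw [hq.1.commutator_eq_top] at hle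
    exact MonoidHom.ext fun k => hle (mem_top k)
  rw [mem_centralizer_iff]
  intro k hk
  have h1 : d ⟨k, hk⟩ = 1 := by
    have := congrArg (fun v : Subgroup.center K => (v : K)) (DFunLike.congr_fun hδ ⟨k, hk⟩)
    exact this
  have h2 := hd ⟨k, hk⟩
  rw [h1, Subgroup.coe_one, eq_comm, mul_inv_eq_one] at h2
  exact mul_inv_eq_iff_eq_mul.1 h2

variable {q r : ℕ} [hqf : Fact q.Prime] [hrf : Fact r.Prime]

/-- A `q`-element centralises an invariant Sylow `r`-subgroup of `K`, `r` odd, `q ∤ |K|`. -/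
theorem commute_invariant_sylow (hq : IsoExt q G) (hr : IsoExt r G) {K : Subgroup G} (hK : K.Characteristic)
    (hperf : Group.IsPerfect K) (hr2 : r ≠ 2) (hq2 : q ≠ 2) (hqK : ¬ q ∣ Nat.card K) {x : G} {k : ℕ}
    (hk : x ^ q ^ k = 1) (P : Sylow r K)
    (hxP : zpowers x ≤ normalizer (((P : Subgroup K).map K.subtype : Subgroup G) : Set G)) :
    ∀ w ∈ (P : Subgroup K), x * (w : G) = (w : G) * x := by
  haveI := hK
  by_cases hrK : r ∣ Nat.card K
  swap
  · intro w hw
    have h1 := orderOf_dvd_natCard w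
    obtain ⟨i, hi⟩ := P.2 ⟨w, hw⟩
    have hw1 : w = 1 := orderOf_eq_one_iff.1 (Nat.eq_one_of_dvd_coprimes
      ((hrf.out.coprime_iff_not_dvd.2 hrK).pow_left i) (orderOf_dvd_of_pow_eq_one (congrArg Subtype.val hi)) h1)
    simp [hw1]
  have hqr : q ≠ r := fun e => hqK (e ▸ hrK)
  obtain ⟨a, -, hxo⟩ := (Nat.dvd_prime_pow hqf.out).1 (orderOf_dvd_of_pow_eq_one hk)
  set P' := (P : Subgroup K).map K.subtype with hP'
  have hS : IsSylowIn r K P' := isSylowIn_map K P
  have hxP' : x ∈ normalizer (P' : Set G) := hxP (mem_zpowers x)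
  suffices hgoal : ∀ w ∈ P', x * w * x⁻¹ = w from fun w hw =>
    mul_inv_eq_iff_eq_mul.1 (hgoal w ⟨w, hw, rfl⟩)
  -- an elementary abelian subgroup of maximal order inside `P'`
  obtain ⟨E₀, hE₀, hmax₀⟩ := exists_maxCard r K
  obtain ⟨X, hX, hEX⟩ := exists_isSylowIn_ge K E₀ hE₀.le hE₀.isPGroup
  obtain ⟨P₀, hP₀⟩ := hX.exists_sylow
  obtain ⟨c, hc⟩ := MulAction.exists_smul_eq K P₀ P
  set E := E₀.map (MulAut.conj (c : G)).toMonoidHom with hEdef
  have hEP : E ≤ P' := by
    rintro _ ⟨e, he, rfl⟩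
    obtain ⟨e', he', rfl⟩ : e ∈ (P₀ : Subgroup K).map K.subtype := hP₀.symm ▸ hEX he
    refine ⟨c * e' * c⁻¹, ?_, by simp⟩
    rw [← hc, Sylow.smul_def]
    exact ⟨e', he', rfl⟩
  have hcardE : Nat.card E = Nat.card E₀ := card_map_of_injective (MulAut.conj (c : G)).injective
  haveI := hE₀.comm
  have hEc : IsMulCommutative E := inferInstanceAs (IsMulCommutative (E₀.map _))
  have hmax : ∀ A : Subgroup G, A ≤ K → IsMulCommutative A → (∀ v ∈ A, v ^ r = 1) → Nat.card A ≤ Nat.card E :=
    fun A h1 h2 h3 => hcardE.symm ▸ hmax₀ A h1 h2 h3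
  have hE : MaxElemIn r K E := maxElemIn_of_card_max (hEP.trans hS.le) hEc
    (by rintro _ ⟨e, he, rfl⟩; rw [← map_pow, hE₀.pow e he, map_one]) hmax
  haveI := hE.comm
  obtain ⟨n, hn⟩ := hE.exists_card
  have hEpow : ∀ u : E, u ^ r = 1 := fun u => Subtype.ext (by simpa using hE.pow u u.2)
  obtain ⟨Φ, -⟩ := exists_mulEquiv_GL (p := r) (E := E) hEpow hn
  have hall : ∀ y : G, (∃ i : ℕ, y ^ r ^ i = 1) → y ∈ K := fun y hy =>
    mem_of_odd_prime_pow hr2 hr hK hperf hrK hy
  by_cases hA : r ∣ Nat.card (autN K E)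
  · -- rank two, `q` prime to `r (r - 1) (r + 1)`
    have hd : r ∣ Nat.card (MulAut E) := hA.trans (card_subgroup_dvd_card _)
    rw [Nat.card_congr Φ.toEquiv] at hd
    have hn2 : n = 2 := by
      rcases (show n = 0 ∨ n = 1 ∨ n = 2 ∨ 3 ≤ n by omega) with rfl | rfl | h2 | h3
      · rw [Nat.card_unique] at hd
        exact absurd hd hrf.out.not_dvd_one
      · rw [Matrix.card_GL_field] at hd
        simp only [Fin.prod_univ_one, ZMod.card, pow_one, Fin.val_zero, pow_zero] at hd
        have := hrf.out.two_le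
        have := Nat.le_of_dvd (by omega) hd
        omega
      · exact h2
      · exact absurd hA (not_dvd_autN_of_three_le hr2 hr hK hE hmax hn h3)
    subst hn2
    have hqrr : ¬ q ∣ r * ((r - 1) * (r + 1)) := by
      intro hdq
      by_cases hr3 : r = 3
      · subst hr3
        have h24 : q ∣ 2 ^ 3 * 3 := by norm_num at hdq ⊢; exact hdq
        rcases hqf.out.dvd_mul.1 h24 with h2 | h3
        · exact hq2 ((Nat.prime_dvd_prime_iff_eq hqf.out Nat.prime_two).1 (hqf.out.dvd_of_dvd_pow h2))
        · exact hqr ((Nat.prime_dvd_prime_iff_eq hqf.out hrf.out).1 h3)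
      · haveI := autN_normal hr hK (U := E) hE.isPGroup
        haveI : ((autN K E).map Φ.toMonoidHom).Normal := Subgroup.Normal.map inferInstance _ Φ.surjective
        have hcardM : Nat.card ((autN K E).map Φ.toMonoidHom) ∣ Nat.card K :=
          (card_map_dvd _ _).trans ((card_map_dvd _ _).trans
            (card_comap_dvd_of_injective K _ (normalizer (E : Set G)).subtype_injective))
        rcases normal_GL_le_center_or_SL_le (p := r) (n := 2) le_rfl (fun h => by
            have := hrf.out.two_le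
            omega) ((autN K E).map Φ.toMonoidHom) with hc' | hSL
        · have h1 := hA.trans ((card_map_of_injective (K := autN K E) (f := Φ.toMonoidHom) Φ.injective).symm.dvd.trans
            (card_dvd_of_le hc'))
          rw [Matrix.GeneralLinearGroup.center_eq_range_scalar,
            ← Nat.card_congr (MonoidHom.ofInjective GL.scalar_injective).toEquiv,
            GL.card_units_field, ZMod.card] at h1
          have := hrf.out.two_le
          have := Nat.le_of_dvd (by omega) h1
          omega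
        · have h1 : Nat.card (Matrix.SpecialLinearGroup (Fin 2) (ZMod r)) ∣ Nat.card K := by
            refine dvd_trans ?_ ((card_dvd_of_le hSL).trans hcardM)
            rw [Nat.card_congr (MonoidHom.ofInjective (f := Matrix.SpecialLinearGroup.toGL)
              Matrix.SpecialLinearGroup.toGL_injective).toEquiv]
          rw [GL.card_SL2, ZMod.card, show r ^ 2 - 1 = (r + 1) * (r - 1) by simpa using Nat.sq_sub_sq r 1,
            mul_comm (r + 1)] at h1
          exact hqK (hdq.trans h1)
    have hrk : Cfsg.PRankLE r 2 P' := fun A hA hAr => by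
      haveI := hA
      have h1 := hmax (A.map P'.subtype) ((map_subtype_le A).trans hS.le) inferInstance
        (by rintro _ ⟨w, hw, rfl⟩; rw [← map_pow, hAr w hw, map_one])
      rwa [card_map_of_injective P'.subtype_injective, hn] at h1
    have hσ := eq_one_of_rank_le_two hS.isP hr2 hrk hqf.out hqrr (σ := P'.normalizerMonoidHom ⟨x, hxP'⟩)
      ⟨k, orderOf_dvd_iff_pow_eq_one.1 ((orderOf_normalizerMonoidHom_dvd hxP').trans
        (orderOf_dvd_of_pow_eq_one hk))⟩
    exact fun w hw => congrArg Subtype.val (MulEquiv.congr_fun hσ ⟨w, hw⟩)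
  · -- `E` is the set of elements of order `r` of `P'`
    have hxE : x ∈ normalizer (E : Set G) := hE.mem_normalizer_of_sylow hA hS hEP hxP'
    set σ := E.normalizerMonoidHom ⟨x, hxE⟩ with hσdef
    have hσord : orderOf σ ∣ q ^ k :=
      (orderOf_normalizerMonoidHom_dvd hxE).trans (orderOf_dvd_of_pow_eq_one hk)
    haveI : (⊤ : Subgroup G).Characteristic := inferInstance
    haveI := autN_normal hr (inferInstance : (⊤ : Subgroup G).Characteristic) (U := E) hE.isPGroup
    set M := (autN ⊤ E).map Φ.toMonoidHom with hM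
    haveI : M.Normal := Subgroup.Normal.map inferInstance _ Φ.surjective
    have hMr : ¬ r ∣ Nat.card M := by
      rw [hM, card_map_of_injective Φ.injective]
      intro hd
      obtain ⟨⟨τ, hτ⟩, hτo⟩ := exists_prime_orderOf_dvd_card' (G := autN ⊤ E) r hd
      rw [Subgroup.orderOf_mk] at hτo
      obtain ⟨g, -, hgE, hτg⟩ := mem_autN.1 hτ
      obtain ⟨j, ⟨b, hb⟩, hj⟩ := exists_prime_power hrf.out g
      have hνg : E.normalizerMonoidHom ⟨g, hgE⟩ = τ := MulEquiv.ext fun u => Subtype.ext (hτg u).symm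
      have hνj : E.normalizerMonoidHom ⟨g ^ j, pow_mem hgE j⟩ = τ := by
        rw [show (⟨g ^ j, pow_mem hgE j⟩ : normalizer (E : Set G)) = ⟨g, hgE⟩ ^ j from rfl, map_pow, hνg]
        exact hj τ (hνg ▸ orderOf_normalizerMonoidHom_dvd hgE) ⟨1, by rw [pow_one, hτo]⟩
      refine hA ?_
      have hτK : τ ∈ autN K E := hνj ▸ mem_autN.2 ⟨g ^ j,
        hall _ ⟨b, orderOf_dvd_iff_pow_eq_one.1 hb⟩, pow_mem hgE j, fun u => rfl⟩
      have h1 := orderOf_dvd_natCard (⟨τ, hτK⟩ : autN K E)
      rwa [Subgroup.orderOf_mk, hτo] at h1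
    have hσM : Φ σ ∈ M := ⟨σ, mem_autN.2 ⟨x, mem_top x, hxE, fun u => rfl⟩, rfl⟩
    have hσcen : ∀ τ : MulAut E, τ * σ = σ * τ := by
      by_cases hσ1 : σ = 1
      · intro τ; rw [hσ1, mul_one, one_mul]
      intro τ
      refine Φ.injective ?_
      rw [map_mul, map_mul]
      suffices hc' : Φ σ ∈ Subgroup.center _ from Subgroup.mem_center_iff.1 hc' _
      rcases (show n = 0 ∨ n = 1 ∨ 2 ≤ n by omega) with rfl | rfl | h2
      · rw [Subgroup.mem_center_iff]; intro g; exact Subsingleton.elim _ _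
      · rw [Matrix.GeneralLinearGroup.mem_center_iff_val_mem_range_scalar]
        exact ⟨(Φ σ).1 0 0, by ext i j; fin_cases i; fin_cases j; simp⟩
      · by_cases h23 : n = 2 ∧ r ≤ 3
        · exfalso
          obtain ⟨rfl, hr3⟩ := h23
          obtain rfl : r = 3 := by have := hrf.out.two_le; omega
          refine hσ1 (orderOf_eq_one_iff.1 ?_)
          have h1 : orderOf σ ∣ 2 ^ 4 * 3 := by
            have := orderOf_dvd_natCard σ
            rw [Nat.card_congr Φ.toEquiv, GL.card_GL2, ZMod.card] at this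
            norm_num at this ⊢
            exact this
          refine Nat.eq_one_of_dvd_coprimes ?_ hσord h1
          exact Nat.Coprime.mul_right (((Nat.coprime_primes hqf.out Nat.prime_two).2 hq2).pow _ _)
            (((Nat.coprime_primes hqf.out hrf.out).2 hqr).pow_left _)
        · rcases normal_GL_le_center_or_SL_le h2 h23 M with hc' | hSL
          · exact hc' hσM
          · exact absurd (dvd_card_of_SL_le h2 hSL) hMr
    -- an automorphism inverting `x` and normalising `P'`
    obtain ⟨φ, hφ⟩ := hq.exists_map_eq (k := a) hxo (by rw [orderOf_inv, hxo] : orderOf x⁻¹ = q ^ a)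
    have hS₂ : IsSylowIn r K (P'.map φ.toMonoidHom) := by
      refine ⟨?_, hS.isP.map _, fun Q hQ hle hQK => ?_⟩
      · rintro _ ⟨w, hw, rfl⟩
        exact apply_mem_of_characteristic hK φ (hS.le hw)
      · have h1 : Q.comap φ.toMonoidHom = P' := hS.max _ (hQ.comap_of_injective _ φ.injective)
          (Subgroup.map_le_iff_le_comap.1 hle) fun w hw => by
            have := apply_mem_of_characteristic hK φ.symm (hQK hw)
            rwa [show φ.toMonoidHom w = φ w from rfl, MulEquiv.symm_apply_apply] at this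
        rw [← h1, map_comap_eq_self_of_surjective φ.surjective]
    obtain ⟨P₂, hP₂⟩ := hS₂.exists_sylow
    have hAP₂ : zpowers x ≤ normalizer (((P₂ : Subgroup K).map K.subtype : Subgroup G) : Set G) := by
      rw [hP₂, zpowers_le, ← inv_inv x]
      refine inv_mem ?_
      refine mem_normalizer_fintype ?_
      rintro _ ⟨w, hw, rfl⟩
      exact ⟨x * w * x⁻¹, (mem_normalizer_iff.1 hxP' w).1 hw, by simp [hφ]⟩
    obtain ⟨c, hcA, hcP⟩ := Coprime.exists_centralizer_smul_sylow (A := zpowers x) (K := K)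
      (by rw [normalizer_eq_top]; exact le_top)
      (by rw [Nat.card_zpowers, hxo]; exact (hqf.out.coprime_iff_not_dvd.2 hqK).pow_left _)
      (Or.inl inferInstance) P₂ P hAP₂ hxP
    set ψ : G ≃* G := φ.trans (MulAut.conj (c : G)) with hψdef
    have hψ : ∀ v, ψ v = (c : G) * φ v * (c : G)⁻¹ := fun v => rfl
    have hψx : ψ x = x⁻¹ := by
      rw [hψ, hφ, ← mem_centralizer_iff.1 hcA x⁻¹ (inv_mem (mem_zpowers x)), mul_inv_cancel_right]
    have hψP : ∀ w ∈ P', ψ w ∈ P' := by
      intro w hw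
      have h1 : φ w ∈ (P₂ : Subgroup K).map K.subtype := hP₂.symm ▸ ⟨w, hw, rfl⟩
      obtain ⟨v, hv, hvw⟩ := h1
      rw [hψ, hP', ← hcP]
      refine ⟨c * v * c⁻¹, ?_, by simp [← hvw]⟩
      rw [Sylow.smul_def]
      exact ⟨v, hv, rfl⟩
    have hψE : E.map ψ.toMonoidHom = E := by
      refine Subgroup.eq_of_le_of_card_ge ?_ (le_of_eq (card_map_of_injective ψ.injective).symm)
      rintro _ ⟨e, he, rfl⟩
      exact hE.mem_of_sylow hA hS hEP (hψP e (hEP he))
        (show ψ e ^ r = 1 by rw [← map_pow, hE.pow e he, map_one])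
    let τ : MulAut E := (ψ.subgroupMap E).trans (MulEquiv.subgroupCongr hψE)
    have hτσ : τ * σ = σ⁻¹ * τ := by
      refine eq_inv_mul_iff_mul_eq.2 (MulEquiv.ext fun u => Subtype.ext ?_)
      show x * ψ (x * (u : G) * x⁻¹) * x⁻¹ = ψ u
      rw [map_mul, map_mul, map_inv, hψx]
      group
    rw [hσcen τ] at hτσ
    have hσσ : σ = σ⁻¹ := mul_right_cancel hτσ
    have hσ2 : σ ^ 2 = 1 := by
      rw [pow_two]
      conv_lhs => rw [hσσ]
      conv_lhs => arg 2; rw [← hσσ]
      exact inv_mul_cancel σ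
    have hσ1 : σ = 1 := orderOf_eq_one_iff.1 (Nat.eq_one_of_dvd_coprimes
      (((Nat.coprime_primes hqf.out Nat.prime_two).2 hq2).pow_left k) hσord (orderOf_dvd_of_pow_eq_one hσ2))
    have hle := Coprime.le_centralizer_of_fix_pow_eq_one hr2 P' (zpowers x) hS.isP hxP
      (by rw [Nat.card_zpowers, hxo]; exact ((Nat.coprime_primes hqf.out hrf.out).2 hqr).pow_left _)
      fun w hw hwr => zpowers_le.2 (mem_centralizer_singleton_iff.2 (mul_inv_eq_iff_eq_mul.1
        (congrArg Subtype.val (MulEquiv.congr_fun hσ1 ⟨w, hE.mem_of_sylow hA hS hEP hw hwr⟩) :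
          x * w * x⁻¹ = w)))
    intro w hw
    rw [mul_inv_eq_iff_eq_mul]
    exact (mem_centralizer_iff.1 (hle (mem_zpowers x)) w hw).symm

/-- `q`-elements centralise a quasisimple characteristic subgroup of order prime to `q`. -/
theorem mem_centralizer_of_coprime (h : ∀ p : ℕ, IsoExt p G) {K : Subgroup G} (hK : K.Characteristic)
    (hquasi : Cfsg.IsQuasisimple K) (hq2 : q ≠ 2) (hqK : ¬ q ∣ Nat.card K) {x : G}
    (hx : ∃ k : ℕ, x ^ q ^ k = 1) : x ∈ centralizer (K : Set G) := by
  haveI := hK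
  obtain ⟨k, hk⟩ := hx
  obtain ⟨a, -, hxo⟩ := (Nat.dvd_prime_pow hqf.out).1 (orderOf_dvd_of_pow_eq_one hk)
  have hAK : zpowers x ≤ normalizer (K : Set G) := by rw [normalizer_eq_top]; exact le_top
  have hcop : (Nat.card (zpowers x)).Coprime (Nat.card K) := by
    rw [Nat.card_zpowers, hxo]
    exact (hqf.out.coprime_iff_not_dvd.2 hqK).pow_left _
  obtain ⟨S, hS⟩ := haveI : Fact (Nat.Prime 2) := ⟨Nat.prime_two⟩
    Coprime.exists_invariant_sylow hAK hcop (Or.inl inferInstance) 2
  refine commute_of_odd_parts hquasi (hAK (mem_zpowers x)) S (hS (mem_zpowers x)) fun r hr hr2 => ?_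
  haveI : Fact r.Prime := ⟨hr⟩
  obtain ⟨P, hP⟩ := Coprime.exists_invariant_sylow hAK hcop (Or.inl inferInstance) r
  exact ⟨P, commute_invariant_sylow (h q) (h r) hK hquasi.1 hr2 hq2 hqK hk P hP⟩

end Cfsg.Agent.Homogeneous
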