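import Cfsg.Agent.Lib.Homogeneous.Stability
import Cfsg.Agent.Lib.OutSolvable.Main
import Cfsg.Agent.Lib.ThreeInvol.Reduce

/-!
# Odd automorphisms fixing all involutions

If `Z₀` is central in the 2-group `P`, contains all involutions of `P` and has order at least 4, an odd order
element centralising `Z₀` and normalising `P` centralises `P`.
-/

set_option autoImplicit false
set_option linter.style.haveILetI false

namespace Cfsg.Agent.Homogeneous

open Subgroup
open scoped commutatorElement IsMulCommutative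

variable {G : Type*} [Group G] [Finite G] {P Z₀ : Subgroup G} [IsMulCommutative Z₀] {g : G}

theorem eq_one_of_pow_odd {T : Type*} [Group T] (hT : IsPGroup 2 T) {x : T} {r : ℕ} (hr : Odd r)
    (hx : x ^ r = 1) : x = 1 := by
  obtain ⟨k, hk⟩ := hT x
  have h1 : orderOf x ∣ r := orderOf_dvd_of_pow_eq_one hx
  have h2 : orderOf x ∣ 2 ^ k := orderOf_dvd_of_pow_eq_one hk
  exact orderOf_eq_one_iff.1 (Nat.dvd_one.1 ((Nat.coprime_two_right.2 hr).pow_right k ▸ Nat.dvd_gcd h1 h2))

/-- Iterating an automorphism that translates `x` by a fixed element. -/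
theorem pow_apply_eq_mul {T : Type*} [Group T] (σ : MulAut T) {x b : T} (h1 : σ x = x * b) (h2 : σ b = b)
    (k : ℕ) : (σ ^ k) x = x * b ^ k := by
  induction k with
  | zero => simp
  | succ k ih => rw [pow_succ', MulAut.mul_apply, ih, map_mul, map_pow, h1, h2, mul_assoc, ← pow_succ']

theorem normalizerMonoidHom_pow_orderOf {U : Subgroup G} (hg : g ∈ normalizer (U : Set G)) :
    (U.normalizerMonoidHom ⟨g, hg⟩) ^ orderOf g = 1 := by
  rw [← map_pow, show (⟨g, hg⟩ : normalizer (U : Set G)) ^ orderOf g = 1 from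
    Subtype.ext (pow_orderOf_eq_one g), map_one]

theorem centralizes_of_fix_involutions (h : IsoExt 2 G) {N : Subgroup G} (hN : N.Characteristic)
    (hP : IsPGroup 2 P) (hc : CentralSub 2 P Z₀) (hgN : g ∈ N) (hgP : g ∈ normalizer (P : Set G))
    (hgC : g ∈ centralizer (Z₀ : Set G)) (hodd : Odd (orderOf g)) (hinner : InnerHyp 2 N P Z₀)
    (hinv : ∀ x ∈ P, x ^ 2 = 1 → x ∈ Z₀) {n : ℕ} (hn : Nat.card Z₀ = 2 ^ n) (h2n : 2 ≤ n) :
    g ∈ centralizer (P : Set G) := by
  haveI : Fact (Nat.Prime 2) := ⟨Nat.prime_two⟩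
  have hgZ : g ∈ normalizer (Z₀ : Set G) := centralizer_le_normalizer (Z₀ : Set G) hgC
  set σP := P.normalizerMonoidHom ⟨g, hgP⟩ with hσP
  set σ := wAut 2 P Z₀ g hgP hgZ with hσ
  set τ := Z₀.normalizerMonoidHom ⟨g, hgZ⟩ with hτ
  set r := orderOf g with hr
  have hσPr : σP ^ r = 1 := normalizerMonoidHom_pow_orderOf hgP
  have hτ1 : τ = 1 := MulEquiv.ext fun z => Subtype.ext (by
    show g * z * g⁻¹ = z
    rw [← mem_centralizer_iff.1 hgC z z.2, mul_inv_cancel_right])
  have hτv : ∀ v : Z₀, τ v = v := fun v => by rw [hτ1]; rfl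
  have hfixZ : ∀ x : P, (x : G) ∈ Z₀ → σP x = x := fun x hx => Subtype.ext (by
    show g * x * g⁻¹ = x
    rw [← mem_centralizer_iff.1 hgC x hx, mul_inv_cancel_right])
  have hmkpow : ∀ (k : ℕ) (x : P), (σ ^ k) (x : WQuot 2 P Z₀) = ((σP ^ k) x : P) := by
    intro k x
    induction k with
    | zero => rfl
    | succ k ih => rw [pow_succ', MulAut.mul_apply, ih, pow_succ', MulAut.mul_apply]; exact wAut_mk _ _ _
  have hσr : σ ^ r = 1 := MulEquiv.ext fun w => by
    induction w using QuotientGroup.induction_on with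
    | _ x => rw [hmkpow, hσPr]; rfl
  -- `u = 1 - σ⁻¹`
  let u : WQuot 2 P Z₀ →* WQuot 2 P Z₀ :=
    MonoidHom.mk' (fun w => w / σ⁻¹ w) fun a b => by rw [map_mul, mul_div_mul_comm]
  have hdif : ∀ F : WQuot 2 P Z₀ →* Z₀, difHom σ τ F = F.comp u := fun F => MonoidHom.ext fun w => by
    rw [difHom_apply, hτ1]
    show F w / F (σ⁻¹ w) = F (w / σ⁻¹ w)
    rw [map_div]
  have hpow : ∀ z : Z₀, z ^ 2 = 1 := fun z => Subtype.ext (hc.pow _ z.2)
  have hcard : Nat.card (difHom σ τ).range = Nat.card u.range ^ n := by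
    rw [← card_range_comp (wQuot_pow 2 P Z₀) hpow hn u,
      show difHom σ τ = MonoidHom.compHom' (P := Z₀) u from MonoidHom.ext hdif]
  -- the elements of `Y ∩ Z₀Φ(P)` are fixed
  have hyInv : ∀ y ∈ ySub hc, σP y ∈ ySub hc := by
    intro y hy x
    obtain ⟨x', rfl⟩ := σP.surjective x
    have h1 : ⁅((σP y : P) : G), ((σP x' : P) : G)⁆ = g * ⁅(y : G), (x' : G)⁆ * g⁻¹ := by
      show ⁅g * y * g⁻¹, g * x' * g⁻¹⁆ = _
      simp only [commutatorElement_def]; group
    rw [h1]
    exact (mem_normalizer_iff.1 hgZ _).1 (hy x')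
  have hwInv : ∀ x ∈ wKer 2 P Z₀, σP x ∈ wKer 2 P Z₀ := fun x hx =>
    (QuotientGroup.eq_one_iff _).1 ((wAut_mk hgP hgZ x).symm.trans (by
      rw [(QuotientGroup.eq_one_iff x).2 hx, map_one]))
  set B : Subgroup P := ySub hc ⊓ wKer 2 P Z₀ with hB
  have hBfix : ∀ b ∈ B, σP b = b := by
    letI : CommGroup B :=
      { (inferInstance : Group B) with
        mul_comm := fun a b => Subtype.ext (Subtype.ext (commute_of_mem_ySub hc a.2.1 b.2.2)) }
    let f : B →* B := (σP.toMonoidHom.comp B.subtype).codRestrict B fun b =>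
      ⟨hyInv _ b.2.1, hwInv _ b.2.2⟩
    have hf : Function.Injective f := fun a b e =>
      Subtype.ext (σP.injective (congrArg Subtype.val e))
    let φ : MulAut B := MulEquiv.ofBijective f (Finite.injective_iff_bijective.1 hf)
    have hφk : ∀ (k : ℕ) (b : B), ((φ ^ k) b : P) = (σP ^ k) b := by
      intro k b
      induction k with
      | zero => rfl
      | succ k ih => rw [pow_succ', MulAut.mul_apply, pow_succ', MulAut.mul_apply, ← ih]; rfl
    have hφ1 : φ = 1 := by
      refine ThreeInvol.eq_one_of_fix_sq_one (hP.to_subgroup B) φ ?_ fun z hz => Subtype.ext ?_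
      · refine Odd.of_dvd_nat hodd (orderOf_dvd_of_pow_eq_one (MulEquiv.ext fun b => Subtype.ext ?_))
        rw [hφk, hσPr]
        rfl
      · refine hfixZ _ (hinv _ (z : P).2 ?_)
        rw [pow_two]
        exact congrArg (fun b : B => ((b : P) : G)) hz
    intro b hb
    exact congrArg Subtype.val (MulEquiv.congr_fun hφ1 ⟨b, hb⟩)
  -- a coprime injectivity
  have hinj : ∀ E : WQuot 2 P Z₀ →* Z₀, difHom σ τ (difHom σ τ E) = 1 → difHom σ τ E = 1 := by
    intro E hE
    set D := difHom σ τ E with hD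
    have hD' : ∀ w, D (σ w) = D w := fun w => by
      have := (difHom_ker σ τ).le hE w
      rwa [hτ1] at this
    have hk : ∀ (k : ℕ) (w), E ((σ ^ k) w) = E w * D w ^ k := by
      intro k w
      induction k with
      | zero => simp
      | succ k ih =>
        have h1 : E (σ ((σ ^ k) w)) = E ((σ ^ k) w) * D (σ ((σ ^ k) w)) := by
          rw [hD, difHom_apply, hτ1, MulAut.inv_apply_self]
          show _ = E ((σ ^ k) w) * (E (σ ((σ ^ k) w)) / E ((σ ^ k) w))
          rw [mul_div_cancel]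
        have h2 : D (σ ((σ ^ k) w)) = D w := by
          rw [hD']
          clear h1 ih
          induction k with
          | zero => rfl
          | succ k ih => rw [pow_succ', MulAut.mul_apply, hD', ih]
        rw [pow_succ', MulAut.mul_apply, h1, ih, h2, pow_succ, mul_assoc]
    refine MonoidHom.ext fun w => ?_
    have := hk r w
    rw [hσr, MulAut.one_apply, eq_comm, mul_eq_left] at this
    exact eq_one_of_pow_odd (fun z => ⟨1, by rw [pow_one]; exact hpow z⟩) hodd this
  -- `|range difHom| ≤ |range u|`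
  have hle : Nat.card (difHom σ τ).range ≤ Nat.card u.range := by
    have hex : ∀ F : (difHom σ τ).range, ∃ y : ySub hc, ∀ x : P, dHom hc y x = F.1 (x : WQuot 2 P Z₀) := by
      rintro ⟨_, E, rfl⟩
      exact exists_dHom_eq_difHom h hN hP hc hgN hgP hgZ hinner E
    choose Y hY using hex
    refine Nat.card_le_card_of_injective (fun F => (⟨u ((Y F : P) : WQuot 2 P Z₀), ⟨_, rfl⟩⟩ : u.range))
      fun F F' hFF => ?_
    set z : ySub hc := Y F / Y F' with hz
    have huz : u ((z : P) : WQuot 2 P Z₀) = 1 := by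
      have hzc : ((z : P) : WQuot 2 P Z₀) = ((Y F : P) : WQuot 2 P Z₀) / ((Y F' : P) : WQuot 2 P Z₀) := by
        rw [hz, Subgroup.coe_div]; rfl
      rw [hzc, map_div, div_eq_one]
      exact congrArg Subtype.val hFF
    have hzfix : σP (z : P) = z := by
      have hzW : σ ((z : P) : WQuot 2 P Z₀) = ((z : P) : WQuot 2 P Z₀) := by
        have h1 : σ⁻¹ ((z : P) : WQuot 2 P Z₀) = ((z : P) : WQuot 2 P Z₀) := (div_eq_one.1 huz).symm
        conv_lhs => rw [← h1]
        exact MulAut.apply_inv_self _ σ _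
      set b := (z : P)⁻¹ * σP z with hb
      have hbB : b ∈ B := ⟨(ySub hc).mul_mem ((ySub hc).inv_mem z.2) (hyInv _ z.2),
        QuotientGroup.eq.1 ((wAut_mk hgP hgZ (z : P)).symm.trans hzW).symm⟩
      have h2 := pow_apply_eq_mul σP (x := (z : P)) (b := b) (by rw [hb, mul_inv_cancel_left]) (hBfix b hbB) r
      rw [hσPr, MulAut.one_apply, eq_comm, mul_eq_left] at h2
      exact (inv_mul_eq_one.1 (eq_one_of_pow_odd hP hodd h2)).symm
    have hD : ∀ x : P, (F.1 / F'.1) (x : WQuot 2 P Z₀) = dHom hc z x := fun x => by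
      rw [MonoidHom.div_apply, ← hY F x, ← hY F' x, hz, map_div]
      rfl
    have h1 : difHom σ τ (F.1 / F'.1) = 1 := by
      refine MonoidHom.ext fun w => ?_
      obtain ⟨x, rfl⟩ := σ.surjective w
      obtain ⟨x, rfl⟩ := QuotientGroup.mk_surjective x
      rw [difHom_apply, hτv, MulAut.inv_apply_self, MonoidHom.one_apply, div_eq_one]
      show (F.1 / F'.1) (σ (x : WQuot 2 P Z₀)) = (F.1 / F'.1) (x : WQuot 2 P Z₀)
      rw [show σ ((x : P) : WQuot 2 P Z₀) = ((σP x : P) : WQuot 2 P Z₀) from rfl, hD, hD]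
      refine Subtype.ext ?_
      rw [coe_dHom, coe_dHom]
      have h3 : g * ((z : P) : G) * g⁻¹ = ((z : P) : G) := congrArg Subtype.val hzfix
      have h4 : g * ⁅((z : P) : G), (x : G)⁆ * g⁻¹ = ⁅((z : P) : G), (x : G)⁆ := by
        rw [← mem_centralizer_iff.1 hgC _ (z.2 x), mul_inv_cancel_right]
      show ⁅((z : P) : G), g * x * g⁻¹⁆ = _
      conv_rhs => rw [← h4]
      conv_lhs => rw [← h3]
      simp only [commutatorElement_def]; group
    obtain ⟨E, hE⟩ := div_mem F.2 F'.2
    rw [← hE] at h1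
    have := hinj E h1
    rw [hE] at this
    exact Subtype.ext (div_eq_one.1 this)
  rw [hcard] at hle
  have hu1 : Nat.card u.range = 1 := by
    by_contra hne
    have h2 : 2 ≤ Nat.card u.range := by
      have := Nat.card_pos (α := u.range)
      omega
    have h3 : Nat.card u.range ^ 2 ≤ Nat.card u.range ^ n := Nat.pow_le_pow_right (by omega) h2n
    nlinarith
  have hσ1 : ∀ w, σ w = w := fun w => by
    have h1 : u (σ w) = 1 := Subgroup.mem_bot.1 ((Subgroup.eq_bot_of_card_eq _ hu1).le ⟨σ w, rfl⟩)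
    have h2 := div_eq_one.1 (show σ w / σ⁻¹ (σ w) = 1 from h1)
    rwa [MulAut.inv_apply_self] at h2
  -- down to the Frattini quotient
  let σΦ : MulAut (P ⧸ frattini P) :=
    QuotientGroup.congr _ _ σP (characteristic_iff_map_eq.1 frattini_characteristic σP)
  have hK : wKer 2 P Z₀ ≤ (fixSub σΦ).comap (QuotientGroup.mk' (frattini P)) := by
    rw [wKer, sup_assoc, ← PGroup.frattini_eq hP]
    refine sup_le (fun x hx => ?_) fun x hx => ?_
    · exact (QuotientGroup.congr_mk _ _ σP _ x).trans (congrArg _ (hfixZ x hx))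
    · show σΦ ((x : P ⧸ frattini P)) = (x : P ⧸ frattini P)
      rw [(QuotientGroup.eq_one_iff x).2 hx, map_one]
  have hfr : ∀ x : P, x⁻¹ * σP x ∈ frattini P := by
    intro x
    have hb : x⁻¹ * σP x ∈ wKer 2 P Z₀ := QuotientGroup.eq.1 ((hσ1 _).symm.trans (wAut_mk hgP hgZ x))
    have h1 : σΦ (x : P ⧸ frattini P) = (x : P ⧸ frattini P) * ((x⁻¹ * σP x : P) : P ⧸ frattini P) := by
      rw [← QuotientGroup.mk_mul, mul_inv_cancel_left]
      rfl
    have hk : ∀ k : ℕ, (σΦ ^ k) (x : P ⧸ frattini P) = (((σP ^ k) x : P) : P ⧸ frattini P) := by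
      intro k
      induction k with
      | zero => rfl
      | succ k ih => rw [pow_succ', MulAut.mul_apply, ih, pow_succ', MulAut.mul_apply]; rfl
    have h2 := pow_apply_eq_mul σΦ h1 (hK hb) r
    rw [hk, hσPr, MulAut.one_apply, eq_comm, mul_eq_left] at h2
    exact (QuotientGroup.eq_one_iff _).1 (eq_one_of_pow_odd (hP.to_quotient _) hodd h2)
  have hfin : σP = 1 := OutSolvable.eq_one_of_frattini hP σP
    (Odd.of_dvd_nat hodd (orderOf_dvd_of_pow_eq_one hσPr)) hfr
  rw [mem_centralizer_iff]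
  intro x hx
  have h3 : g * x * g⁻¹ = x := congrArg Subtype.val (MulEquiv.congr_fun hfin ⟨x, hx⟩)
  exact (mul_inv_eq_iff_eq_mul.1 h3).symm

end Cfsg.Agent.Homogeneous
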