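import Cfsg.Agent.Lib.GL.Simple
import Mathlib

/-!
# Normal subgroups of `GL(n, p)`, read in the automorphism group of an elementary abelian group
-/

set_option autoImplicit false
set_option linter.style.haveILetI false

namespace Cfsg.Agent.Homogeneous

open Matrix
open scoped MatrixGroups commutatorElement

section GLn

variable {p : ℕ} [hp : Fact p.Prime] {n : ℕ}

theorem four_le_of_ne (h : ¬ (n = 2 ∧ p ≤ 3)) : n = 2 → 4 ≤ Nat.card (ZMod p) := by
  rw [Nat.card_zmod]
  omega

theorem normal_SL_le_center_or_eq_top (hn : 2 ≤ n) (h : ¬ (n = 2 ∧ p ≤ 3))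
    (N : Subgroup (SpecialLinearGroup (Fin n) (ZMod p))) [N.Normal] :
    N ≤ Subgroup.center _ ∨ N = ⊤ := by
  haveI := GL.PSL_isSimpleGroup (F := ZMod p) n hn (four_le_of_ne h)
  set π := QuotientGroup.mk' (Subgroup.center (SpecialLinearGroup (Fin n) (ZMod p))) with hπ
  have hN : (N.map π).Normal := Subgroup.Normal.map inferInstance π (QuotientGroup.mk'_surjective _)
  rcases hN.eq_bot_or_eq_top with h1 | h1
  · exact Or.inl (by rwa [Subgroup.map_eq_bot_iff, hπ, QuotientGroup.ker_mk'] at h1)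
  · refine Or.inr (eq_top_iff.2 ?_)
    rw [← GL.SL_commutator_eq_top (F := ZMod p) n hn fun e =>
      GL.exists_sq_ne_one_of_four_le_card (four_le_of_ne h e), commutator_def, Subgroup.commutator_le]
    have hdec : ∀ x, ∃ a ∈ N, ∃ z ∈ Subgroup.center (SpecialLinearGroup (Fin n) (ZMod p)), x = a * z := by
      intro x
      obtain ⟨a, ha, hax⟩ : π x ∈ N.map π := h1 ▸ Subgroup.mem_top _
      exact ⟨a, ha, a⁻¹ * x, (QuotientGroup.eq).1 hax, by group⟩
    intro x _ y _
    obtain ⟨a, ha, z, hz, rfl⟩ := hdec x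
    have hz' : ∀ v, z * v = v * z := fun v => (Subgroup.mem_center_iff.1 hz v).symm
    have : ⁅a * z, y⁆ = a * (y * a⁻¹ * y⁻¹) := by
      rw [commutatorElement_def, mul_assoc a z y, hz' y]; group
    rw [this]
    exact mul_mem ha (Subgroup.Normal.conj_mem inferInstance _ (inv_mem ha) y)

theorem mem_center_of_commute_SL (g : GL (Fin n) (ZMod p))
    (hg : ∀ A : SpecialLinearGroup (Fin n) (ZMod p), Commute (SpecialLinearGroup.toGL A) g) :
    g ∈ Subgroup.center (GL (Fin n) (ZMod p)) := by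
  rw [GeneralLinearGroup.mem_center_iff_val_mem_range_scalar]
  refine Matrix.mem_range_scalar_of_commute_transvectionStruct fun t => ?_
  exact congrArg Units.val (hg ⟨t.toMatrix, t.det⟩).eq

theorem mem_range_toGL_of_pow_eq_one {g : GL (Fin n) (ZMod p)} (hg : g ^ p = 1) :
    g ∈ (SpecialLinearGroup.toGL (n := Fin n) (R := ZMod p)).range := by
  rw [← GL.det_ker_eq_range_toGL, MonoidHom.mem_ker]
  refine Units.ext ?_
  have h1 := congrArg Units.val (congrArg GeneralLinearGroup.det hg)
  rw [map_pow, map_one, Units.val_pow_eq_pow_val, ZMod.pow_card] at h1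
  exact h1

/-- A normal subgroup of `GL(n, p)` is central or contains `SL(n, p)`. -/
theorem normal_GL_le_center_or_SL_le (hn : 2 ≤ n) (h : ¬ (n = 2 ∧ p ≤ 3))
    (M : Subgroup (GL (Fin n) (ZMod p))) [hM : M.Normal] :
    M ≤ Subgroup.center _ ∨ (SpecialLinearGroup.toGL (n := Fin n) (R := ZMod p)).range ≤ M := by
  rcases normal_SL_le_center_or_eq_top hn h (M.comap SpecialLinearGroup.toGL) with hc | ht
  · refine Or.inl fun m hm => mem_center_of_commute_SL m ?_
    set T := SpecialLinearGroup.toGL (n := Fin n) (R := ZMod p) with hT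
    -- `A ↦ ⁅m, A⁆` is a homomorphism into the centre
    have hcen : ∀ A, ⁅m, T A⁆ ∈ Subgroup.center (GL (Fin n) (ZMod p)) := by
      intro A
      obtain ⟨B, hB⟩ : ⁅m, T A⁆ ∈ T.range := by
        rw [← GL.det_ker_eq_range_toGL, MonoidHom.mem_ker, map_commutatorElement]
        exact commutatorElement_eq_one_iff_mul_comm.2 (mul_comm _ _)
      have hBM : B ∈ M.comap T := by
        show T B ∈ M
        rw [hB, commutatorElement_def,
          show m * T A * m⁻¹ * (T A)⁻¹ = m * (T A * m⁻¹ * (T A)⁻¹) by group]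
        exact mul_mem hm (hM.conj_mem _ (inv_mem hm) _)
      rw [← hB]
      obtain ⟨r, -, hr⟩ := Matrix.SpecialLinearGroup.mem_center_iff.1 (hc hBM)
      rw [GeneralLinearGroup.mem_center_iff_val_mem_range_scalar]
      exact ⟨r, hr⟩
    let f : SpecialLinearGroup (Fin n) (ZMod p) →* Subgroup.center (GL (Fin n) (ZMod p)) :=
      MonoidHom.mk' (fun A => ⟨⁅m, T A⁆, hcen A⟩) fun A B => Subtype.ext (by
        show ⁅m, T (A * B)⁆ = ⁅m, T A⁆ * ⁅m, T B⁆
        have h1 : ⁅m, T A * T B⁆ = ⁅m, T A⁆ * (T A * ⁅m, T B⁆ * (T A)⁻¹) := by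
          simp only [commutatorElement_def]; group
        rw [map_mul, h1, Subgroup.mem_center_iff.1 (hcen B), mul_inv_cancel_right])
    intro A
    have hA : A ∈ commutator (SpecialLinearGroup (Fin n) (ZMod p)) := by
      rw [GL.SL_commutator_eq_top (F := ZMod p) n hn fun e =>
        GL.exists_sq_ne_one_of_four_le_card (four_le_of_ne h e)]
      exact Subgroup.mem_top _
    have hker : commutator (SpecialLinearGroup (Fin n) (ZMod p)) ≤ f.ker := by
      rw [commutator_def, Subgroup.commutator_le]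
      intro a _ b _
      rw [MonoidHom.mem_ker, map_commutatorElement]
      exact commutatorElement_eq_one_iff_mul_comm.2 (Subtype.ext (Subgroup.mem_center_iff.1 (f b).2 _))
    have := congrArg Subtype.val (MonoidHom.mem_ker.1 (hker hA))
    exact (commutatorElement_eq_one_iff_mul_comm.1 this).symm
  · refine Or.inr ?_
    rintro _ ⟨A, rfl⟩
    exact (ht ▸ Subgroup.mem_top A : A ∈ M.comap SpecialLinearGroup.toGL)

theorem exists_orderOf_eq_SL (hn : 2 ≤ n) :
    ∃ A : SpecialLinearGroup (Fin n) (ZMod p), orderOf A = p := by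
  have hij : (⟨0, by omega⟩ : Fin n) ≠ ⟨1, by omega⟩ := by simp
  refine ⟨SpecialLinearGroup.transvection hij 1, orderOf_eq_prime ?_ ?_⟩
  · have h : ∀ k : ℕ, (SpecialLinearGroup.transvection hij (1 : ZMod p)) ^ k =
        SpecialLinearGroup.transvection hij (k : ZMod p) := by
      intro k
      induction k with
      | zero => exact Subtype.ext (by simp [SpecialLinearGroup.transvection_coe])
      | succ k ih => rw [pow_succ, ih, ← SpecialLinearGroup.transvection_add, Nat.cast_succ]
    rw [h, ZMod.natCast_self]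
    exact Subtype.ext (by simp [SpecialLinearGroup.transvection_coe])
  · intro h
    have := congrArg (fun A : SpecialLinearGroup (Fin n) (ZMod p) => A.1 ⟨0, by omega⟩ ⟨1, by omega⟩) h
    simp [SpecialLinearGroup.transvection_coe] at this

theorem dvd_card_of_SL_le (hn : 2 ≤ n) {M : Subgroup (GL (Fin n) (ZMod p))}
    (hle : (SpecialLinearGroup.toGL (n := Fin n) (R := ZMod p)).range ≤ M) : p ∣ Nat.card M := by
  obtain ⟨A, hA⟩ := exists_orderOf_eq_SL (p := p) hn
  have h : orderOf (⟨_, hle ⟨A, rfl⟩⟩ : M) = p := by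
    rw [Subgroup.orderOf_mk, orderOf_injective _ SpecialLinearGroup.toGL_injective, hA]
  conv_lhs => rw [← h]
  exact orderOf_dvd_natCard _

/-- `GL(n, 2)` is simple for `n ≥ 3`. -/
theorem normal_GL_two (hn : 3 ≤ n) (M : Subgroup (GL (Fin n) (ZMod 2))) [M.Normal] : M = ⊥ ∨ M = ⊤ := by
  have hu : ∀ u : (ZMod 2)ˣ, u = 1 := by decide
  rcases normal_GL_le_center_or_SL_le (p := 2) (n := n) (by omega) (by omega) M with h | h
  · refine Or.inl (eq_bot_iff.2 fun m hm => Subgroup.mem_bot.2 ?_)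
    have h1 := h hm
    rw [GeneralLinearGroup.center_eq_range_scalar] at h1
    obtain ⟨u, rfl⟩ := h1
    rw [hu u, map_one]
  · exact Or.inr (eq_top_iff.2 fun g _ => h (GL.det_ker_eq_range_toGL.le (hu _)))

theorem SL_two_three_neg_one : ∀ A : SpecialLinearGroup (Fin 2) (ZMod 3), A ≠ 1 →
    A = (-1 : SpecialLinearGroup (Fin 2) (ZMod 3)) ∨ ∃ B : SpecialLinearGroup (Fin 2) (ZMod 3),
      A * B * A⁻¹ * B⁻¹ = (-1 : SpecialLinearGroup (Fin 2) (ZMod 3)) ∨
      (A * B * A⁻¹ * B⁻¹) ^ 2 = (-1 : SpecialLinearGroup (Fin 2) (ZMod 3)) := by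
  decide +kernel

theorem units_three : ∀ u : (ZMod 3)ˣ, u = 1 ∨ u = -1 := by decide

theorem scalar_neg_one_eq :
    GeneralLinearGroup.scalar (Fin 2) (-1 : (ZMod p)ˣ) =
      SpecialLinearGroup.toGL (-1 : SpecialLinearGroup (Fin 2) (ZMod p)) := by
  refine Units.ext ?_
  show scalar (Fin 2) (((-1 : (ZMod p)ˣ) : ZMod p)) = ((-1 : SpecialLinearGroup (Fin 2) (ZMod p)) : Matrix _ _ _)
  rw [Units.val_neg, Units.val_one, map_neg, map_one, Matrix.SpecialLinearGroup.coe_neg,
    Matrix.SpecialLinearGroup.coe_one]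

theorem neg_one_units_ne (hp2 : p ≠ 2) : (-1 : (ZMod p)ˣ) ≠ 1 := fun h => by
  haveI : Fact (2 < p) := ⟨lt_of_le_of_ne hp.out.two_le (Ne.symm hp2)⟩
  exact ZMod.neg_one_ne_one (congrArg Units.val h)

/-- A nontrivial normal subgroup of `GL(n, p)`, `p` odd, of order prime to `p` or with `n = 2`, contains a
nontrivial scalar. -/
theorem exists_scalar_mem (hp2 : p ≠ 2) (hn : 1 ≤ n) (M : Subgroup (GL (Fin n) (ZMod p))) [hM : M.Normal]
    (hne : M ≠ ⊥) (hcase : ¬ p ∣ Nat.card M ∨ n = 2) :
    ∃ c : (ZMod p)ˣ, c ≠ 1 ∧ GeneralLinearGroup.scalar (Fin n) c ∈ M := by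
  have hcen : M ≤ Subgroup.center _ → ∃ c : (ZMod p)ˣ, c ≠ 1 ∧ GeneralLinearGroup.scalar (Fin n) c ∈ M := by
    intro hle
    haveI := (Subgroup.nontrivial_iff_ne_bot M).2 hne
    obtain ⟨⟨m, hm⟩, hm1⟩ := exists_ne (1 : M)
    have h1 := hle hm
    rw [GeneralLinearGroup.center_eq_range_scalar] at h1
    obtain ⟨c, rfl⟩ := h1
    exact ⟨c, fun hc => hm1 (Subtype.ext (show GeneralLinearGroup.scalar (Fin n) c = 1 by rw [hc, map_one])), hm⟩
  by_cases hn1 : n = 1
  · subst hn1
    refine hcen fun g _ => ?_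
    rw [GeneralLinearGroup.mem_center_iff_val_mem_range_scalar]
    exact ⟨g.1 0 0, by ext i j; fin_cases i; fin_cases j; simp⟩
  by_cases h23 : n = 2 ∧ p ≤ 3
  · obtain ⟨rfl, hp3⟩ := h23
    obtain rfl : p = 3 := by have := hp.out.two_le; omega
    refine ⟨-1, neg_one_units_ne hp2, ?_⟩
    rw [scalar_neg_one_eq]
    by_contra hneg
    refine hneg ?_
    haveI := (Subgroup.nontrivial_iff_ne_bot M).2 hne
    obtain ⟨⟨m, hm⟩, hm1⟩ := exists_ne (1 : M)
    -- find a nontrivial element of `M ∩ SL`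
    have key : ∀ A : SpecialLinearGroup (Fin 2) (ZMod 3), A ≠ 1 → SpecialLinearGroup.toGL A ∈ M →
        SpecialLinearGroup.toGL (-1 : SpecialLinearGroup (Fin 2) (ZMod 3)) ∈ M := by
      intro A hA hAM
      have hc : ∀ B, SpecialLinearGroup.toGL ⁅A, B⁆ ∈ M := fun B => by
        rw [map_commutatorElement, commutatorElement_def, mul_assoc _ _ (SpecialLinearGroup.toGL A)⁻¹,
          mul_assoc]
        exact mul_mem hAM (hM.conj_mem _ (inv_mem hAM) _)
      rcases SL_two_three_neg_one A hA with rfl | ⟨B, hB | hB⟩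
      · exact hAM
      · exact hB ▸ hc B
      · rw [← hB, map_pow]; exact pow_mem (hc B) 2
    by_cases hex : ∃ A : SpecialLinearGroup (Fin 2) (ZMod 3), A ≠ 1 ∧ SpecialLinearGroup.toGL A ∈ M
    · obtain ⟨A, hA, hAM⟩ := hex
      exact key A hA hAM
    · push Not at hex
      exfalso
      have hmc : m ∈ Subgroup.center _ := mem_center_of_commute_SL m fun A => by
        obtain ⟨B, hB⟩ : ⁅m, SpecialLinearGroup.toGL A⁆ ∈
            (SpecialLinearGroup.toGL (n := Fin 2) (R := ZMod 3)).range := by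
          rw [← GL.det_ker_eq_range_toGL, MonoidHom.mem_ker, map_commutatorElement]
          exact commutatorElement_eq_one_iff_mul_comm.2 (mul_comm _ _)
        have hBM : SpecialLinearGroup.toGL B ∈ M := by
          rw [hB, commutatorElement_def,
            show ∀ a : GL (Fin 2) (ZMod 3), m * a * m⁻¹ * a⁻¹ = m * (a * m⁻¹ * a⁻¹) from fun a => by group]
          exact mul_mem hm (hM.conj_mem _ (inv_mem hm) _)
        by_cases hB1 : B = 1
        · rw [hB1, map_one] at hB
          exact (commutatorElement_eq_one_iff_mul_comm.1 hB.symm).symm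
        · exact absurd hBM (hex B hB1)
      rw [GeneralLinearGroup.center_eq_range_scalar] at hmc
      obtain ⟨c, rfl⟩ := hmc
      have hc : c = -1 := by
        have h2 : ∀ u : (ZMod 3)ˣ, u = 1 ∨ u = -1 := units_three
        exact (h2 c).resolve_left fun h => hm1 (Subtype.ext (show GeneralLinearGroup.scalar (Fin 2) c = 1 by rw [h, map_one]))
      rw [hc, scalar_neg_one_eq] at hm
      exact hneg hm
  rcases normal_GL_le_center_or_SL_le (by omega) h23 M with h | h
  · exact hcen h
  · rcases hcase with hdiv | rfl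
    · exact absurd (dvd_card_of_SL_le (by omega) h) hdiv
    · refine ⟨-1, neg_one_units_ne hp2, h ?_⟩
      rw [scalar_neg_one_eq]
      exact ⟨_, rfl⟩

/-- A normal subgroup of `GL(n, p)`, `n ≥ 3`, of order divisible by `p` contains all elements of order `p`. -/
theorem mem_of_pow_eq_one (hn : 3 ≤ n) (M : Subgroup (GL (Fin n) (ZMod p))) [M.Normal]
    (hdiv : p ∣ Nat.card M) {g : GL (Fin n) (ZMod p)} (hg : g ^ p = 1) : g ∈ M := by
  rcases normal_GL_le_center_or_SL_le (p := p) (n := n) (by omega) (by omega) M with h | h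
  · exfalso
    obtain ⟨⟨m, hm⟩, hmo⟩ := exists_prime_orderOf_dvd_card' (G := M) p hdiv
    rw [Subgroup.orderOf_mk] at hmo
    have h1 := h hm
    rw [GeneralLinearGroup.center_eq_range_scalar] at h1
    obtain ⟨c, rfl⟩ := h1
    haveI : Nonempty (Fin n) := ⟨⟨0, by omega⟩⟩
    rw [orderOf_injective _ GL.scalar_injective] at hmo
    have h2 : orderOf c ∣ p - 1 := by
      have := orderOf_dvd_natCard c
      rwa [GL.card_units_field, ZMod.card] at this
    have h3 := Nat.le_of_dvd (by have := hp.out.two_le; omega) (hmo ▸ h2)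
    have := hp.out.two_le
    omega
  · exact h (mem_range_toGL_of_pow_eq_one hg)

theorem commutator_eq_bot_of_le_center {H : Type*} [Group H] {M : Subgroup H}
    (hM : M ≤ Subgroup.center H) : ⁅M, M⁆ = ⊥ := by
  rw [Subgroup.commutator_eq_bot_iff_le_centralizer]
  exact hM.trans (Subgroup.center_le_centralizer _)

/-- A perfect normal subgroup of order prime to `p` is trivial. -/
theorem eq_bot_of_perfect (hp2 : p ≠ 2) (M : Subgroup (GL (Fin n) (ZMod p))) [M.Normal]
    (hperf : ⁅M, M⁆ = M) (hdiv : ¬ p ∣ Nat.card M) : M = ⊥ := by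
  by_cases hn : n ≤ 1
  · have hle : M ≤ Subgroup.center _ := fun g _ => by
      rw [GeneralLinearGroup.mem_center_iff_val_mem_range_scalar]
      interval_cases n
      · exact ⟨1, Subsingleton.elim _ _⟩
      · exact ⟨g.1 0 0, by ext i j; fin_cases i; fin_cases j; simp⟩
    exact hperf.symm.trans (commutator_eq_bot_of_le_center hle)
  by_cases h23 : n = 2 ∧ p ≤ 3
  · obtain ⟨rfl, hp3⟩ := h23
    obtain rfl : p = 3 := by have := hp.out.two_le; omega
    have h48 : Nat.card (GL (Fin 2) (ZMod 3)) = 2 ^ 4 * 3 := by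
      rw [GL.card_GL2, ZMod.card]; norm_num
    have h16 : Nat.card M ∣ 2 ^ 4 := by
      have h := Subgroup.card_subgroup_dvd_card M
      rw [h48] at h
      exact ((Nat.prime_three.coprime_iff_not_dvd.2 hdiv).symm.dvd_mul_right).1 h
    obtain ⟨k, -, hk⟩ := (Nat.dvd_prime_pow Nat.prime_two).1 h16
    haveI : Fact (Nat.Prime 2) := ⟨Nat.prime_two⟩
    haveI : Group.IsNilpotent M := (IsPGroup.of_card hk).isNilpotent
    by_contra hne
    haveI : Nontrivial M := (Subgroup.nontrivial_iff_ne_bot M).2 hne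
    haveI : Group.IsPerfect M := ⟨Subgroup.map_injective M.subtype_injective (by
      rw [Subgroup.map_subtype_commutator, hperf, ← MonoidHom.range_eq_map, Subgroup.range_subtype])⟩
    exact Group.IsPerfect.not_isSolvable M inferInstance
  rcases normal_GL_le_center_or_SL_le (by omega) h23 M with h | h
  · exact hperf.symm.trans (commutator_eq_bot_of_le_center h)
  · exact absurd (dvd_card_of_SL_le (by omega) h) hdiv

end GLn

section MulAut

variable {p : ℕ} [Fact p.Prime]

theorem exists_mulEquiv_GL_aux {V : Type*} [AddCommGroup V] [Module (ZMod p) V] [Finite V] {n : ℕ}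
    (hn : Nat.card V = p ^ n) :
    ∃ e : (V ≃ₗ[ZMod p] V) ≃* GL (Fin n) (ZMod p), ∀ σ (c : (ZMod p)ˣ),
      e σ = GeneralLinearGroup.scalar (Fin n) c → ∀ v, σ v = (c : ZMod p).val • v := by
  haveI : Module.Finite (ZMod p) V := Module.Finite.of_finite
  have hd : Module.finrank (ZMod p) V = n := by
    have h := Module.natCard_eq_pow_finrank (K := ZMod p) (V := V)
    rw [Nat.card_zmod] at h
    exact Nat.pow_right_injective (Fact.out : p.Prime).two_le (h.symm.trans hn)
  let b := Module.finBasisOfFinrankEq (ZMod p) V hd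
  refine ⟨(LinearMap.GeneralLinearGroup.generalLinearEquiv (ZMod p) V).symm.trans
    (Units.mapEquiv (LinearMap.toMatrixAlgEquiv b).toMulEquiv), fun σ c h v => ?_⟩
  have h1 : LinearMap.toMatrixAlgEquiv b (σ : V →ₗ[ZMod p] V) = scalar (Fin n) (c : ZMod p) :=
    congrArg Units.val h
  have h2 : (σ : V →ₗ[ZMod p] V) = algebraMap (ZMod p) (Module.End (ZMod p) V) c := by
    apply (LinearMap.toMatrixAlgEquiv b).injective
    rw [h1, AlgEquiv.commutes]
    rfl
  have h3 : σ v = (c : ZMod p) • v := LinearMap.congr_fun h2 v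
  rw [h3]
  conv_lhs => rw [← ZMod.natCast_zmod_val (c : ZMod p)]
  rw [Nat.cast_smul_eq_nsmul]

/-- An additive automorphism is linear. -/
def zmodLinearEquiv (p : ℕ) {V : Type*} [AddCommGroup V] [Module (ZMod p) V] (f : V ≃+ V) :
    V ≃ₗ[ZMod p] V :=
  { f with map_smul' := fun c x => ZMod.map_smul f c x }

theorem zmodLinearEquiv_trans (p : ℕ) {V : Type*} [AddCommGroup V] [Module (ZMod p) V] (f g : V ≃+ V) :
    zmodLinearEquiv p (f.trans g) = zmodLinearEquiv p g * zmodLinearEquiv p f :=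
  LinearEquiv.ext fun _ => rfl

theorem zmodLinearEquiv_toAddEquiv (p : ℕ) {V : Type*} [AddCommGroup V] [Module (ZMod p) V]
    (l : V ≃ₗ[ZMod p] V) : zmodLinearEquiv p l.toAddEquiv = l :=
  LinearEquiv.ext fun _ => rfl

theorem exists_mulEquiv_of_toAddEquiv {V : Type*} [AddCommGroup V] [Module (ZMod p) V] [Finite V]
    {M : Type*} [Group M] (T : M ≃ (V ≃+ V)) (hT : ∀ a b, T (a * b) = (T b).trans (T a)) {n : ℕ}
    (hn : Nat.card V = p ^ n) :
    ∃ e : M ≃* GL (Fin n) (ZMod p), ∀ σ (c : (ZMod p)ˣ),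
      e σ = GeneralLinearGroup.scalar (Fin n) c → ∀ v, T σ v = (c : ZMod p).val • v := by
  obtain ⟨e, he⟩ := exists_mulEquiv_GL_aux (p := p) (V := V) hn
  let g : M ≃* (V ≃ₗ[ZMod p] V) :=
    { toFun := fun σ => zmodLinearEquiv p (T σ)
      invFun := fun l => T.symm l.toAddEquiv
      left_inv := fun σ => T.symm_apply_apply σ
      right_inv := fun l => by dsimp only; rw [T.apply_symm_apply, zmodLinearEquiv_toAddEquiv]
      map_mul' := fun a b => by rw [hT, zmodLinearEquiv_trans] }
  exact ⟨g.trans e, fun σ c h v => he (g σ) c h v⟩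

/-- The automorphism group of an elementary abelian group is `GL(n, p)`. -/
theorem exists_mulEquiv_GL {E : Type*} [CommGroup E] [Finite E] (hE : ∀ x : E, x ^ p = 1) {n : ℕ}
    (hn : Nat.card E = p ^ n) :
    ∃ e : MulAut E ≃* GL (Fin n) (ZMod p), ∀ σ (c : (ZMod p)ˣ),
      e σ = GeneralLinearGroup.scalar (Fin n) c → ∀ x, σ x = x ^ (c : ZMod p).val := by
  letI : Module (ZMod p) (Additive E) := AddCommGroup.zmodModule fun x => congrArg Additive.ofMul (hE x.toMul)
  exact exists_mulEquiv_of_toAddEquiv (p := p) (V := Additive E) (M := MulAut E) MulEquiv.toAdditive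
    (fun a b => AddEquiv.ext fun x => rfl) hn

end MulAut

end Cfsg.Agent.Homogeneous
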