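import Cfsg.Agent.Lib.Homogeneous.Automizer

/-!
# The centraliser of a maximal elementary abelian 2-subgroup with transitive automizer

If `E` is maximal elementary abelian of rank at least 3 in `N` and `Aut_N(E)` contains an automorphism
of odd order transitive on `E ∖ 1`, then `E` is a Sylow 2-subgroup of `C_N(E)`.
-/

set_option autoImplicit false
set_option linter.style.haveILetI false

namespace Cfsg.Agent.Homogeneous

open Subgroup
open scoped IsMulCommutative commutatorElement

variable {G : Type*} [Group G] [Finite G]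

/-- `E` is an elementary abelian 2-subgroup of `N` containing all involutions of `C_N(E)`. -/
structure IsMaxElem (N E : Subgroup G) : Prop where
  le : E ≤ N
  comm : IsMulCommutative E
  sq : ∀ x ∈ E, x ^ 2 = 1
  max : ∀ x ∈ N, x ∈ centralizer (E : Set G) → x ^ 2 = 1 → x ∈ E

theorem exists_involution_pow {x : G} {k : ℕ} (hx : x ^ 2 ^ k = 1) (hx1 : x ≠ 1) :
    ∃ a : ℕ, (x ^ a) ^ 2 = 1 ∧ x ^ a ≠ 1 := by
  induction k with
  | zero => exact absurd (by simpa using hx) hx1
  | succ k ih =>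
    by_cases h : x ^ 2 ^ k = 1
    · exact ih h
    · exact ⟨2 ^ k, by rw [← pow_mul, ← pow_succ, hx], h⟩

theorem card_range_le_mul {Y A D : Type*} [Group Y] [Finite Y] [Group A] [Group D] (f : Y →* A)
    (d : Y →* D) : Nat.card d.range ≤ Nat.card f.range * Nat.card (f.ker.map d) := by
  have h1 := f.ker.card_mul_index
  have h2 := d.ker.card_mul_index
  have h3 := (d.comp f.ker.subtype).ker.card_mul_index
  rw [Subgroup.index_ker] at h1 h2 h3
  rw [← h2, ← h3, MonoidHom.range_comp, range_subtype] at h1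
  have hle : Nat.card (d.comp f.ker.subtype).ker ≤ Nat.card d.ker :=
    Nat.card_le_card_of_injective (fun y => (⟨(y.1 : Y), y.2⟩ : d.ker))
      fun a b h => Subtype.ext (Subtype.ext (congrArg (fun z : d.ker => (z : Y)) h))
  refine Nat.le_of_mul_le_mul_left ?_ (Nat.card_pos (α := d.ker))
  rw [← h1]
  calc Nat.card (d.comp f.ker.subtype).ker * Nat.card (f.ker.map d) * Nat.card f.range
      ≤ Nat.card d.ker * Nat.card (f.ker.map d) * Nat.card f.range :=
        Nat.mul_le_mul_right _ (Nat.mul_le_mul_right _ hle)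
    _ = Nat.card d.ker * (Nat.card f.range * Nat.card (f.ker.map d)) := by ring

/-- The image of an abelian group in an exponent 2 group is bounded by its number of square roots of 1. -/
theorem card_range_le_sqrt_one {B D : Type*} [CommGroup B] [Finite B] [Group D] (d : B →* D)
    (hd : ∀ b, d b ^ 2 = 1) : Nat.card d.range ≤ Nat.card (powMonoidHom 2 : B →* B).ker := by
  have hle : (powMonoidHom 2 : B →* B).range ≤ d.ker := by
    rintro _ ⟨b, rfl⟩
    rw [MonoidHom.mem_ker, powMonoidHom_apply, map_pow, hd]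
  rw [← Subgroup.index_ker d]
  refine (Nat.le_of_dvd (Nat.pos_of_ne_zero Subgroup.index_ne_zero_of_finite) (index_dvd_of_le hle)).trans ?_
  have h1 := (powMonoidHom 2 : B →* B).range.card_mul_index
  have h2 := (powMonoidHom 2 : B →* B).ker.card_mul_index
  rw [Subgroup.index_ker] at h2
  refine (Nat.eq_of_mul_eq_mul_left (Nat.card_pos (α := (powMonoidHom 2 : B →* B).range)) ?_).le
  rw [h1, ← h2, mul_comm]

theorem IsMaxElem.le_of_isSylowIn {N E : Subgroup G} (hE : IsMaxElem N E) {X : Subgroup G}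
    (hX : IsSylowIn 2 (N ⊓ centralizer (E : Set G)) X) : E ≤ X := by
  haveI : Fact (Nat.Prime 2) := ⟨Nat.prime_two⟩
  haveI := hE.comm
  have hEp : IsPGroup 2 E := fun x => ⟨1, Subtype.ext (by simpa using hE.sq x x.2)⟩
  have hEC : E ≤ N ⊓ centralizer (E : Set G) := le_inf hE.le (le_centralizer E)
  have hXn : X ≤ normalizer (E : Set G) :=
    (hX.le.trans inf_le_right).trans (centralizer_le_normalizer _)
  have := hX.max _ (hEp.to_sup_of_normal_left' hX.isP hXn) le_sup_right (sup_le hEC hX.le)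
  exact le_sup_left.trans this.le

theorem IsMaxElem.centralSub {N E : Subgroup G} (hE : IsMaxElem N E) {X : Subgroup G}
    (hX : IsSylowIn 2 (N ⊓ centralizer (E : Set G)) X) : CentralSub 2 X E :=
  ⟨hE.le_of_isSylowIn hX, fun _ hz _ hx => mem_centralizer_iff.1 (hX.le hx).2 _ hz, hE.sq⟩

/-- The facts about a lifted transitive automorphism. -/
theorem IsMaxElem.exists_lift {N E : Subgroup G} (hN : N.Normal) {X : Subgroup G}
    (hX : IsSylowIn 2 (N ⊓ centralizer (E : Set G)) X) {σ : MulAut E} (hσ : σ ∈ autN N E)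
    (hodd : Odd (orderOf σ)) :
    ∃ (g : G) (hgU : g ∈ normalizer (E : Set G)), g ∈ N ∧ g ∈ normalizer (X : Set G) ∧
      Odd (orderOf g) ∧ E.normalizerMonoidHom ⟨g, hgU⟩ = σ := by
  haveI : Fact (Nat.Prime 2) := ⟨Nat.prime_two⟩
  obtain ⟨g, hgU, hgN, hgX, rfl⟩ := exists_lift_normalizing hN hX hσ
  obtain ⟨g', hU, hN', hX', ho, he⟩ := exists_lift_prime' Nat.prime_two hgU hgN hgX
    (fun h => Nat.not_even_iff_odd.2 hodd (even_iff_two_dvd.2 h))
  exact ⟨g', hU, hN', hX', Nat.not_even_iff_odd.1 fun h => ho h.two_dvd, he⟩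

/-- An abelian Sylow subgroup of `C_N(E)` equals `E`. -/
theorem IsMaxElem.sylow_eq_of_comm (h : IsoExt 2 G) {N E : Subgroup G} (hN : N.Characteristic)
    (hE : IsMaxElem N E) {n : ℕ} (hn : Nat.card E = 2 ^ n) (h2n : 2 ≤ n) {σ : MulAut E}
    (hσ : σ ∈ autN N E) (hodd : Odd (orderOf σ))
    (htrans : ∀ a b : E, a ≠ 1 → b ≠ 1 → ∃ k : ℕ, (σ ^ k) a = b)
    {X : Subgroup G} (hX : IsSylowIn 2 (N ⊓ centralizer (E : Set G)) X)
    (hXc : ∀ x ∈ X, ∀ y ∈ X, x * y = y * x) : X = E := by
  haveI : Fact (Nat.Prime 2) := ⟨Nat.prime_two⟩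
  haveI := hE.comm
  haveI := hN
  obtain ⟨g, hgU, hgN, hgX, -, rfl⟩ := IsMaxElem.exists_lift inferInstance hX hσ hodd
  have hc := hE.centralSub hX
  have h4 : 2 < Nat.card E := by
    rw [hn]
    calc 2 < 2 ^ 2 := by norm_num
      _ ≤ 2 ^ n := Nat.pow_le_pow_right (by norm_num) h2n
  have hcount := card_wQuot_pow_le h hN hX.isP hc hgN hgX hgU hX.innerHyp hn htrans h4
  have hI : Nat.card (dHom hc).range = 1 := by
    refine Subgroup.card_eq_one.2 (eq_bot_iff.2 ?_)
    rintro _ ⟨y, rfl⟩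
    refine Subgroup.mem_bot.2 (funext fun x => Subtype.ext ?_)
    exact commutatorElement_eq_one_iff_mul_comm.2 (hXc _ (y : X).2 _ x.2)
  rw [hI, mul_one] at hcount
  have hf : 0 < Nat.card (fixSub (wAut 2 X E g hgX hgU)) := Nat.card_pos
  set W := Nat.card (WQuot 2 X E) with hW
  have hW1 : W = 1 := by
    by_contra hne
    have h2 : 2 ≤ W := by
      have : 0 < W := Nat.card_pos
      omega
    have h3 : W ^ 2 ≤ W ^ n := Nat.pow_le_pow_right (by omega) h2n
    nlinarith
  exact (eq_of_wKer_eq_top hX.isP hc.le (Subgroup.index_eq_one.1 hW1)).symm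

/-- `E` is a Sylow 2-subgroup of its centraliser. -/
theorem IsMaxElem.sylow_eq (h : IsoExt 2 G) {N E : Subgroup G} (hN : N.Characteristic)
    (hE : IsMaxElem N E) {n : ℕ} (hn : Nat.card E = 2 ^ n) (h3 : 3 ≤ n) {σ : MulAut E}
    (hσ : σ ∈ autN N E) (hodd : Odd (orderOf σ))
    (htrans : ∀ a b : E, a ≠ 1 → b ≠ 1 → ∃ k : ℕ, (σ ^ k) a = b)
    {X : Subgroup G} (hX : IsSylowIn 2 (N ⊓ centralizer (E : Set G)) X) : X = E := by
  haveI : Fact (Nat.Prime 2) := ⟨Nat.prime_two⟩
  haveI := hE.comm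
  haveI := hN
  obtain ⟨g, hgU, hgN, hgX, hgodd, hgσ⟩ := IsMaxElem.exists_lift inferInstance hX hσ hodd
  have hc := hE.centralSub hX
  have h8 : 8 ≤ Nat.card E := by
    rw [hn]
    calc 8 = 2 ^ 3 := by norm_num
      _ ≤ 2 ^ n := Nat.pow_le_pow_right (by norm_num) h3
  have hEX : ∀ x : X, (x : G) ^ 2 = 1 → (x : G) ∈ E := fun x hx =>
    hE.max _ (hX.le x.2).1 (hX.le x.2).2 hx
  by_contra hne
  set σP := X.normalizerMonoidHom ⟨g, hgX⟩ with hσP
  set s := wAut 2 X E g hgX hgU with hs
  have hs_pow : ∀ (k : ℕ) (x : X), (s ^ k) (x : WQuot 2 X E) = ((σP ^ k) x : X) := by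
    intro k x
    induction k with
    | zero => rfl
    | succ k ih => rw [pow_succ', MulAut.mul_apply, ih, pow_succ', MulAut.mul_apply]; exact wAut_mk _ _ _
  -- fixed classes only for trivial powers of `σ`
  have hfix : ∀ (k : ℕ) (w : WQuot 2 X E), w ≠ 1 → (s ^ k) w = w → σ ^ k = 1 := by
    intro k w hw hkw
    obtain ⟨x, rfl⟩ := QuotientGroup.mk_surjective w
    rw [hs_pow] at hkw
    have hodd' : ¬ 2 ∣ orderOf (σP ^ k) := fun hd => by
      have h1 := (hd.trans (orderOf_pow_dvd k)).trans (orderOf_normalizerMonoidHom_dvd hgX)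
      exact Nat.not_even_iff_odd.2 hgodd (even_iff_two_dvd.2 h1)
    obtain ⟨b, hb, hfx⟩ := exists_fixed_lift hX.isP (σP ^ k) hodd' (K := wKer 2 X E)
      (fun y hy => (QuotientGroup.eq_one_iff _).1 ((hs_pow k y).symm.trans (by
        rw [(QuotientGroup.eq_one_iff y).2 hy, map_one])))
      (QuotientGroup.eq.1 hkw.symm)
    have hxb : x * b ≠ 1 := fun h1 => hw ((QuotientGroup.eq_one_iff x).2 (by
      rw [eq_inv_of_mul_eq_one_left h1]; exact inv_mem hb))
    obtain ⟨e, he⟩ := hX.isP (x * b)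
    obtain ⟨a, ha2, ha1⟩ := exists_involution_pow he hxb
    have haE : (((x * b) ^ a : X) : G) ∈ E := hEX _ (by rw [← Subgroup.coe_pow, ha2]; rfl)
    have hfa : (σP ^ k) ((x * b) ^ a) = (x * b) ^ a := by rw [map_pow, hfx]
    set u : E := ⟨_, haE⟩ with hu
    have hu1 : u ≠ 1 := fun e => ha1 (Subtype.ext (congrArg (Subtype.val : E → G) e))
    have hσu : (σ ^ k) u = u := by
      refine Subtype.ext ?_
      rw [← hgσ, coe_normalizerMonoidHom_pow]
      exact (coe_normalizerMonoidHom_pow hgX k _).symm.trans (congrArg Subtype.val hfa)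
    refine MulEquiv.ext fun v => ?_
    by_cases hv : v = 1
    · rw [hv, map_one, map_one]
    obtain ⟨i, rfl⟩ := htrans u v hu1 hv
    rw [← MulAut.mul_apply, ← pow_add, add_comm, pow_add, MulAut.mul_apply, hσu]
    rfl
  obtain ⟨w₀, hw₀⟩ : ∃ w : WQuot 2 X E, w ≠ 1 := by
    by_contra hall
    push Not at hall
    refine hne (eq_of_wKer_eq_top hX.isP hc.le (eq_top_iff.2 fun x _ => ?_)).symm
    exact (QuotientGroup.eq_one_iff x).1 (hall _)
  set r := orderOf σ with hr
  have hr0 : 0 < r := orderOf_pos σ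
  have hWcard : Nat.card E ≤ Nat.card (WQuot 2 X E) := by
    obtain ⟨a₀, ha₀⟩ : ∃ a : E, a ≠ 1 := by
      haveI : Nontrivial E := Finite.one_lt_card_iff_nontrivial.1 (by omega)
      exact exists_ne 1
    -- `E ↪ 1 ∪ orbit`
    have hE' : Nat.card E ≤ r + 1 := by
      classical
      letI := Fintype.ofFinite E
      have : (Finset.univ : Finset E) ⊆ insert 1 ((Finset.range r).image fun k => (σ ^ k) a₀) := by
        intro v _
        by_cases hv : v = 1
        · simp [hv]
        obtain ⟨k, hk⟩ := htrans a₀ v ha₀ hv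
        refine Finset.mem_insert_of_mem (Finset.mem_image.2 ⟨k % r, Finset.mem_range.2 (Nat.mod_lt _ hr0), ?_⟩)
        rw [pow_mod_orderOf, hk]
      have h1 := (Finset.card_le_card this).trans (Finset.card_insert_le _ _)
      rw [Finset.card_univ, ← Nat.card_eq_fintype_card] at h1
      exact h1.trans (Nat.add_le_add_right (Finset.card_image_le.trans (Finset.card_range r).le) 1)
    let ι : Option (Fin r) → WQuot 2 X E := fun o => o.elim 1 fun k => (s ^ (k : ℕ)) w₀
    have hι : Function.Injective ι := by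
      have key : ∀ i j : Fin r, (i : ℕ) ≤ j → (s ^ (i : ℕ)) w₀ = (s ^ (j : ℕ)) w₀ → i = j := by
        intro i j hij he
        have h1 : (s ^ ((j : ℕ) - i)) w₀ = w₀ := by
          apply (s ^ (i : ℕ)).injective
          rw [← MulAut.mul_apply, ← pow_add, Nat.add_sub_cancel' hij, he]
        have h2 := orderOf_dvd_of_pow_eq_one (hfix _ _ hw₀ h1)
        have h3 : (j : ℕ) - i = 0 := Nat.eq_zero_of_dvd_of_lt h2 (by have := j.2; omega)
        exact Fin.ext (by omega)
      rintro (_ | i) (_ | j) he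
      · rfl
      · exact absurd ((map_eq_one_iff (s ^ (j : ℕ)) (s ^ (j : ℕ)).injective).1 he.symm) hw₀
      · exact absurd ((map_eq_one_iff (s ^ (i : ℕ)) (s ^ (i : ℕ)).injective).1 he) hw₀
      · rcases le_total (i : ℕ) j with hij | hij
        · rw [key i j hij he]
        · rw [key j i hij he.symm]
    refine hE'.trans (le_of_eq_of_le ?_ (Nat.card_le_card_of_injective ι hι))
    rw [Finite.card_option, Nat.card_fin]
  have htr : ∀ a b : E, a ≠ 1 → b ≠ 1 → ∃ k : ℕ, ((E.normalizerMonoidHom ⟨g, hgU⟩) ^ k) a = b :=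
    hgσ ▸ htrans
  have hcount := card_wQuot_pow_le h hN hX.isP hc hgN hgX hgU hX.innerHyp hn htr (by omega)
  have hfixpos : 0 < Nat.card (fixSub (wAut 2 X E g hgX hgU)) := Nat.card_pos
  set f : ySub hc →* WQuot 2 X E := (QuotientGroup.mk' _).comp (ySub hc).subtype with hf
  have hdker : Nat.card (f.ker.map (dHom hc)) ≤ Nat.card E := by
    letI : CommGroup f.ker :=
      { (inferInstance : Group f.ker) with
        mul_comm := fun a b => Subtype.ext (Subtype.ext (Subtype.ext
          (commute_of_mem_ySub hc a.1.2 ((QuotientGroup.eq_one_iff _).1 b.2)))) }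
    have h1 := card_range_le_sqrt_one ((dHom hc).comp f.ker.subtype) fun b => dHom_pow_eq_one hc b.1
    rw [MonoidHom.range_comp, range_subtype] at h1
    refine h1.trans (Nat.card_le_card_of_injective
      (fun b => (⟨(((b.1.1 : ySub hc) : X) : G), hEX _ ?_⟩ : E)) fun a b he => ?_)
    · exact congrArg (fun v : f.ker => (((v.1 : ySub hc) : X) : G)) b.2
    · exact Subtype.ext (Subtype.ext (Subtype.ext (Subtype.ext (congrArg (Subtype.val : E → G) he))))
  have hI := card_range_le_mul f (dHom hc)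
  have hfr : Nat.card f.range ≤ Nat.card (WQuot 2 X E) := Subgroup.card_le_card_group _
  set W := Nat.card (WQuot 2 X E) with hW
  set I := Nat.card (dHom hc).range with hIdef
  have hWI : W ^ n ≤ W * I := le_trans (Nat.le_mul_of_pos_right _ hfixpos) hcount
  have hI' : I ≤ Nat.card f.range * Nat.card E := hI.trans (Nat.mul_le_mul_left _ hdker)
  have hW8 : 8 ≤ W := h8.trans hWcard
  rcases Nat.lt_or_ge n 4 with h4 | h4
  · obtain rfl : n = 3 := by omega
    have hE8 : Nat.card E = 8 := by rw [hn]; norm_num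
    rw [hE8] at hI'
    have hWW : W * W ≤ I := by
      refine Nat.le_of_mul_le_mul_left ?_ (show 0 < W by omega)
      calc W * (W * W) = W ^ 3 := by ring
        _ ≤ W * I := hWI
    have hfrW : f.range = ⊤ := Subgroup.eq_top_of_card_eq _ (by nlinarith)
    have hYtop : ySub hc = ⊤ := by
      have h1 : ySub hc ⊔ wKer 2 X E = ⊤ := by
        rw [eq_top_iff]
        intro x _
        obtain ⟨y, hy⟩ : (x : WQuot 2 X E) ∈ f.range := hfrW ▸ mem_top _
        have h2 := QuotientGroup.eq.1 hy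
        rw [show x = (y : X) * ((y : X)⁻¹ * x) by group]
        exact mul_mem (mem_sup_left y.2) (mem_sup_right h2)
      have h2 : ySub hc ⊔ frattini X = ⊤ := by
        rw [eq_top_iff, ← h1, wKer, sup_assoc, ← PGroup.frattini_eq hX.isP]
        refine sup_le le_sup_left (sup_le (fun z hz => mem_sup_left fun x => ?_) le_sup_right)
        rw [commutatorElement_eq_one_iff_mul_comm.2 (hc.comm _ (show (z : G) ∈ E from hz) _ x.2)]
        exact E.one_mem
      exact frattini_nongenerating h2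
    have hker : ∀ y : ySub hc, (y : X) ∈ wKer 2 X E → dHom hc y = 1 := fun y hy => funext fun x =>
      Subtype.ext (commutatorElement_eq_one_iff_mul_comm.2
        (commute_of_mem_ySub hc (hYtop ▸ mem_top x) hy).symm)
    have hbot : f.ker.map (dHom hc) = ⊥ := by
      rw [eq_bot_iff]
      rintro _ ⟨y, hy, rfl⟩
      exact Subgroup.mem_bot.2 (hker y ((QuotientGroup.eq_one_iff _).1 hy))
    rw [hbot, Subgroup.card_bot, mul_one] at hI
    nlinarith
  · have h2 : W ^ 2 * W ^ (n - 2) ≤ W * (W * Nat.card E) := by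
      rw [← pow_add, Nat.add_sub_cancel' (by omega : 2 ≤ n)]
      exact hWI.trans (Nat.mul_le_mul_left _ (hI'.trans (Nat.mul_le_mul_right _ hfr)))
    rw [← mul_assoc, ← pow_two] at h2
    have h3' : W ^ (n - 2) ≤ Nat.card E := Nat.le_of_mul_le_mul_left h2 (by positivity)
    have h4' : W ^ 2 ≤ W ^ (n - 2) := Nat.pow_le_pow_right (by omega) (by omega)
    nlinarith

end Cfsg.Agent.Homogeneous
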