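import Cfsg.Agent.Lib.Homogeneous.SylowCore
import Cfsg.Agent.Lib.Homogeneous.Linear
import Cfsg.Agent.Lib.Homogeneous.MaxElementary
import Cfsg.Agent.Lib.GL.Basic

/-!
# Automorphisms of a four-group
-/

set_option autoImplicit false
set_option linter.style.haveILetI false

namespace Cfsg.Agent.Homogeneous

open Subgroup
open scoped IsMulCommutative

variable {E : Type*} [Group E] [Finite E] [IsMulCommutative E]

theorem card_mulAut_four (h4 : Nat.card E = 4) (hsq : ∀ u : E, u ^ 2 = 1) : Nat.card (MulAut E) = 6 := by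
  haveI : Fact (Nat.Prime 2) := ⟨Nat.prime_two⟩
  obtain ⟨Φ, -⟩ := exists_mulEquiv_GL (p := 2) (E := E) hsq (n := 2) (by rw [h4]; rfl)
  rw [Nat.card_congr Φ.toEquiv, GL.card_GL2, ZMod.card]
  norm_num

/-- A nontrivial automorphism of odd order of a four-group is fixed-point-free. -/
theorem four_eq_one_of_fix (h4 : Nat.card E = 4) (hsq : ∀ u : E, u ^ 2 = 1) {σ : MulAut E}
    (hσ : σ ≠ 1) (hodd : Odd (orderOf σ)) {u : E} (hu : σ u = u) : u = 1 := by
  by_contra hu1
  classical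
  letI := Fintype.ofFinite E
  refine hσ ?_
  have h2 : σ ^ 2 = 1 := by
    refine MulEquiv.ext fun v => ?_
    show σ (σ v) = v
    by_cases hv : v = 1
    · rw [hv, map_one, map_one]
    by_cases hvu : v = u
    · rw [hvu, hu, hu]
    by_cases hσv : σ v = v
    · rw [hσv, hσv]
    have hvu' : v * u ≠ v ∧ v * u ≠ u ∧ v * u ≠ 1 := by
      refine ⟨fun e => hu1 (mul_eq_left.1 e), fun e => hv (mul_eq_right.1 e), fun e => hvu ?_⟩
      rw [eq_inv_of_mul_eq_one_left e, inv_eq_of_mul_eq_one_left (by rw [← pow_two]; exact hsq u)]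
    have hcard : ({1, u, v, v * u} : Finset E) = Finset.univ := by
      refine Finset.eq_univ_of_card _ ?_
      rw [← Nat.card_eq_fintype_card, h4]
      rw [Finset.card_insert_of_notMem, Finset.card_insert_of_notMem, Finset.card_insert_of_notMem,
        Finset.card_singleton]
      · simp [Ne.symm hvu'.1]
      · simp [Ne.symm hvu, Ne.symm hvu'.2.1]
      · simp [Ne.symm hu1, Ne.symm hv, Ne.symm hvu'.2.2]
    have hmem : σ v ∈ ({1, u, v, v * u} : Finset E) := hcard ▸ Finset.mem_univ _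
    simp only [Finset.mem_insert, Finset.mem_singleton] at hmem
    rcases hmem with h | h | h | h
    · exact absurd ((map_eq_one_iff σ σ.injective).1 h) hv
    · exact absurd (σ.injective (h.trans hu.symm)) hvu
    · exact absurd h hσv
    · rw [h, map_mul, h, hu, mul_assoc, ← pow_two, hsq, mul_one]
  have h1 : orderOf σ ∣ 2 := orderOf_dvd_of_pow_eq_one h2
  rcases (Nat.dvd_prime Nat.prime_two).1 h1 with h | h
  · exact orderOf_eq_one_iff.1 h
  · exact absurd (h ▸ hodd) (by decide)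

/-- An automorphism of order 3 of a four-group is transitive. -/
theorem four_transitive (h4 : Nat.card E = 4) (hsq : ∀ u : E, u ^ 2 = 1) {σ : MulAut E}
    (hσ : orderOf σ = 3) (a b : E) (ha : a ≠ 1) (hb : b ≠ 1) : ∃ k : ℕ, (σ ^ k) a = b := by
  classical
  letI := Fintype.ofFinite E
  have hne : σ ≠ 1 := fun e => by rw [e, orderOf_one] at hσ; exact absurd hσ (by norm_num)
  have hσ2 : σ ^ 2 ≠ 1 := fun e => by
    have := orderOf_dvd_of_pow_eq_one e
    rw [hσ] at this
    norm_num at this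
  have hodd2 : Odd (orderOf (σ ^ 2)) := Odd.of_dvd_nat (by rw [hσ]; decide) (orderOf_pow_dvd 2)
  have h1 : σ a ≠ a := fun e => ha (four_eq_one_of_fix h4 hsq hne (by rw [hσ]; decide) e)
  have h2 : (σ ^ 2) a ≠ a := fun e => ha (four_eq_one_of_fix h4 hsq hσ2 hodd2 e)
  have h12 : (σ ^ 2) a ≠ σ a := fun e => h1 (σ.injective e)
  have hcard : ({1, a, σ a, (σ ^ 2) a} : Finset E) = Finset.univ := by
    refine Finset.eq_univ_of_card _ ?_
    rw [← Nat.card_eq_fintype_card, h4]
    rw [Finset.card_insert_of_notMem, Finset.card_insert_of_notMem, Finset.card_insert_of_notMem,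
      Finset.card_singleton]
    · simp [Ne.symm h12]
    · simp [Ne.symm h1, Ne.symm h2]
    · simp [Ne.symm ha, (Ne.symm (mt (map_eq_one_iff σ σ.injective).1 ha)),
        (Ne.symm (mt (map_eq_one_iff (σ ^ 2) (σ ^ 2).injective).1 ha))]
  have hmem : b ∈ ({1, a, σ a, (σ ^ 2) a} : Finset E) := hcard ▸ Finset.mem_univ _
  simp only [Finset.mem_insert, Finset.mem_singleton] at hmem
  rcases hmem with h | h | h | h
  · exact absurd h hb
  · exact ⟨0, h.symm⟩
  · exact ⟨1, by rw [pow_one, h]⟩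
  · exact ⟨2, h.symm⟩

/-- A normal subgroup of the automorphisms of a four-group containing a nontrivial element has an element of
order 3. -/
theorem three_dvd_of_normal (h4 : Nat.card E = 4) (hsq : ∀ u : E, u ^ 2 = 1) (M : Subgroup (MulAut E)) [M.Normal]
    (hne : M ≠ ⊥) : 3 ∣ Nat.card M := by
  haveI : Fact (Nat.Prime 3) := ⟨Nat.prime_three⟩
  by_contra h3
  have hd : Nat.card M ∣ 6 := card_mulAut_four h4 hsq ▸ card_subgroup_dvd_card M
  have hM2 : Nat.card M = 2 := by
    have h1 : Nat.card M ≠ 1 := fun e => hne (Subgroup.card_eq_one.1 e)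
    have h6 := Nat.le_of_dvd (by norm_num) hd
    generalize Nat.card M = c at hd h3 h1 h6
    interval_cases c <;> omega
  obtain ⟨ρ, hρ⟩ := exists_prime_orderOf_dvd_card' (G := MulAut E) 3 (by rw [card_mulAut_four h4 hsq]; norm_num)
  obtain ⟨⟨τ, hτM⟩, hτ⟩ : ∃ τ : M, orderOf τ = 2 := by
    haveI : Fact (Nat.Prime 2) := ⟨Nat.prime_two⟩
    exact exists_prime_orderOf_dvd_card' 2 (by rw [hM2])
  rw [Subgroup.orderOf_mk] at hτ
  have hτ1 : τ ≠ 1 := fun e => by rw [e, orderOf_one] at hτ; exact absurd hτ (by norm_num)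
  -- `τ` commutes with `ρ`
  have hMτ : zpowers τ = M := Subgroup.eq_of_le_of_card_ge (zpowers_le.2 hτM) (by rw [Nat.card_zpowers, hτ, hM2])
  have hconj : ρ * τ * ρ⁻¹ = τ := by
    obtain ⟨i, hi⟩ := mem_zpowers_iff.1 (hMτ.ge ((inferInstance : M.Normal).conj_mem τ hτM ρ))
    rcases Int.even_or_odd i with ⟨j, rfl⟩ | ⟨j, rfl⟩
    · exfalso
      have hτ2 : τ ^ (2 : ℤ) = 1 := by
        rw [zpow_ofNat, ← hτ, pow_orderOf_eq_one]
      rw [← two_mul, zpow_mul, hτ2, one_zpow, eq_comm, conj_eq_one_iff] at hi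
      exact hτ1 hi
    · have hτ2 : τ ^ (2 : ℤ) = 1 := by
        rw [zpow_ofNat, ← hτ, pow_orderOf_eq_one]
      rw [zpow_add, zpow_mul, hτ2, one_zpow, one_mul, zpow_one] at hi
      exact hi.symm
  -- hence it fixes everything
  obtain ⟨w, hw1, hw⟩ : ∃ w : E, w ≠ 1 ∧ τ w = w := by
    obtain ⟨v, hv⟩ : ∃ v : E, τ v ≠ v := by
      by_contra h
      push Not at h
      exact hτ1 (MulEquiv.ext h)
    refine ⟨v * τ v, fun e => hv ?_, ?_⟩
    · rw [eq_comm, ← inv_eq_of_mul_eq_one_right e, eq_comm]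
      exact inv_eq_of_mul_eq_one_left (by rw [← pow_two]; exact hsq v)
    · rw [map_mul, show τ (τ v) = (τ ^ 2) v from rfl, ← hτ, pow_orderOf_eq_one, MulAut.one_apply, mul_comm]
  refine hτ1 (MulEquiv.ext fun b => ?_)
  by_cases hb : b = 1
  · rw [hb, map_one]; rfl
  obtain ⟨k, rfl⟩ := four_transitive h4 hsq hρ w b hw1 hb
  have hc : Commute (ρ ^ k) τ := Commute.pow_left (mul_inv_eq_iff_eq_mul.1 hconj) k
  rw [← MulAut.mul_apply, ← hc.eq, MulAut.mul_apply, hw]
  rfl

variable {G : Type*} [Group G] [Finite G]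

theorem MaxElemIn.isMaxElem {N E : Subgroup G} (h : MaxElemIn 2 N E) : IsMaxElem N E :=
  ⟨h.le, h.comm, h.pow, h.max⟩

end Cfsg.Agent.Homogeneous
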