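import Cfsg.Agent.Lib.PGroup.HomCount
import Cfsg.Agent.Lib.PGroup.Frattini
import Mathlib.Algebra.Module.ZMod
import Mathlib.LinearAlgebra.FreeModule.Finite.Matrix
import Mathlib.FieldTheory.Finiteness

/-!
# Homomorphisms between elementary abelian groups

`card_hom_elementary`: `|Hom(W, Z)| = |W| ^ n` when `|Z| = p ^ n`.
`card_range_comp`: `|{f ∘ u}| = |range u| ^ n`.
`card_equivariant_mul_fix_le`: few homomorphisms commute with an automorphism transitive on `Z ∖ 1`.
-/

set_option autoImplicit false
set_option linter.style.haveILetI false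

namespace Cfsg.Agent.Homogeneous

open Subgroup

variable {p : ℕ} [Fact p.Prime] {W Z : Type*} [CommGroup W] [CommGroup Z]

/-- The number of linear maps. -/
theorem card_linearMap {V U : Type*} [AddCommGroup V] [AddCommGroup U] [Module (ZMod p) V]
    [Module (ZMod p) U] [Finite V] [Finite U] {n : ℕ} (hn : Nat.card U = p ^ n) :
    n = Module.finrank (ZMod p) U ∧ Nat.card (V →ₗ[ZMod p] U) = Nat.card V ^ n := by
  haveI : Module.Finite (ZMod p) V := Module.Finite.of_finite
  haveI : Module.Finite (ZMod p) U := Module.Finite.of_finite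
  have hd : n = Module.finrank (ZMod p) U := by
    have h := Module.natCard_eq_pow_finrank (K := ZMod p) (V := U)
    rw [Nat.card_zmod] at h
    exact Nat.pow_right_injective (Fact.out : p.Prime).two_le (hn.symm.trans h)
  refine ⟨hd, ?_⟩
  rw [Module.natCard_eq_pow_finrank (K := ZMod p) (V := V →ₗ[ZMod p] U),
    Module.natCard_eq_pow_finrank (K := ZMod p) (V := V), Module.finrank_linearMap, ← pow_mul, hd]

theorem card_hom_elementary [Finite W] [Finite Z] (hW : ∀ w : W, w ^ p = 1) (hZ : ∀ z : Z, z ^ p = 1)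
    {n : ℕ} (hn : Nat.card Z = p ^ n) : Nat.card (W →* Z) = Nat.card W ^ n := by
  haveI : NeZero p := ⟨(Fact.out : p.Prime).ne_zero⟩
  letI : Module (ZMod p) (Additive W) := AddCommGroup.zmodModule fun x => congrArg Additive.ofMul (hW x.toMul)
  letI : Module (ZMod p) (Additive Z) := AddCommGroup.zmodModule fun x => congrArg Additive.ofMul (hZ x.toMul)
  obtain ⟨hd, hc⟩ := card_linearMap (p := p) (V := Additive W) (U := Additive Z) hn
  exact (Nat.card_congr (MonoidHom.toAdditive.trans
    (AddMonoidHom.toZModLinearMapEquiv p).toEquiv)).trans hc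

/-- The homomorphisms of the form `f ∘ u`. -/
theorem card_range_comp [Finite W] [Finite Z] (hW : ∀ w : W, w ^ p = 1) (hZ : ∀ z : Z, z ^ p = 1)
    {n : ℕ} (hn : Nat.card Z = p ^ n) (u : W →* W) :
    Nat.card (MonoidHom.compHom' (P := Z) u).range = Nat.card u.range ^ n := by
  set r := MonoidHom.compHom' (P := Z) u with hr
  have hker : Nat.card r.ker = Nat.card ((W ⧸ u.range) →* Z) := by
    refine Nat.card_congr
      { toFun := fun f => QuotientGroup.lift u.range f.1 ?_
        invFun := fun g => ⟨g.comp (QuotientGroup.mk' u.range), ?_⟩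
        left_inv := fun f => Subtype.ext (MonoidHom.ext fun x => rfl)
        right_inv := fun g => QuotientGroup.monoidHom_ext _ (MonoidHom.ext fun x => rfl) }
    · rintro _ ⟨x, rfl⟩
      exact DFunLike.congr_fun (show f.1.comp u = 1 from f.2) x
    · show MonoidHom.compHom' u (g.comp (QuotientGroup.mk' u.range)) = 1
      ext x
      show g (QuotientGroup.mk' u.range (u x)) = 1
      rw [show QuotientGroup.mk' u.range (u x) = 1 from (QuotientGroup.eq_one_iff _).2 ⟨x, rfl⟩, map_one]
  have hq : ∀ w : W ⧸ u.range, w ^ p = 1 := fun w => by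
    induction w using QuotientGroup.induction_on with
    | _ w => rw [← QuotientGroup.mk_pow, hW, QuotientGroup.mk_one]
  have h := r.ker.card_mul_index
  rw [Subgroup.index_ker, hker, card_hom_elementary hW hZ hn, card_hom_elementary hq hZ hn,
    Subgroup.card_eq_card_quotient_mul_card_subgroup u.range, mul_pow] at h
  exact Nat.eq_of_mul_eq_mul_left (pow_pos Nat.card_pos n) h

/-- The fixed points of an automorphism. -/
def fixSub {V : Type*} [Group V] (σ : MulAut V) : Subgroup V where
  carrier := {v | σ v = v}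
  one_mem' := map_one σ
  mul_mem' := fun {a b} ha hb => by
    show σ (a * b) = a * b
    rw [map_mul, show σ a = a from ha, show σ b = b from hb]
  inv_mem' := fun {a} ha => by
    show σ a⁻¹ = a⁻¹
    rw [map_inv, show σ a = a from ha]

theorem mem_fixSub {V : Type*} [Group V] {σ : MulAut V} {v : V} : v ∈ fixSub σ ↔ σ v = v := Iff.rfl

/-- The homomorphisms commuting with given automorphisms. -/
def equivariant (σ : MulAut W) (τ : MulAut Z) : Subgroup (W →* Z) where
  carrier := {f | ∀ w, f (σ w) = τ (f w)}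
  one_mem' := fun _ => (map_one τ).symm
  mul_mem' := fun {f g} hf hg w => by
    show f (σ w) * g (σ w) = τ (f w * g w)
    rw [map_mul, hf w, hg w]
  inv_mem' := fun {f} hf w => by
    show (f (σ w))⁻¹ = τ (f w)⁻¹
    rw [map_inv, hf w]

theorem mem_equivariant {σ : MulAut W} {τ : MulAut Z} {f : W →* Z} :
    f ∈ equivariant σ τ ↔ ∀ w, f (σ w) = τ (f w) := Iff.rfl

theorem card_equivariant_mul_fix_le [Finite W] [Finite Z] (hZ : ∀ z : Z, z ^ p = 1)
    (σ : MulAut W) (τ : MulAut Z)
    (htrans : ∀ a b : Z, a ≠ 1 → b ≠ 1 → ∃ k : ℕ, (τ ^ k) a = b) (h2 : 2 < Nat.card Z) :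
    Nat.card (equivariant σ τ) * Nat.card (fixSub σ) ≤ Nat.card W := by
  have hpg : IsPGroup p Z := fun z => ⟨1, by rw [pow_one]; exact hZ z⟩
  haveI : Nontrivial Z := Finite.one_lt_card_iff_nontrivial.1 (by omega)
  obtain ⟨M, hM⟩ : ∃ M : Subgroup Z, IsCoatom M := by
    rcases eq_top_or_exists_le_coatom (⊥ : Subgroup Z) with h | ⟨M, hM, -⟩
    · exact absurd h bot_ne_top
    · exact ⟨M, hM⟩
  have hMp : Nat.card (Z ⧸ M) = p := PGroup.index_of_isCoatom hpg hM
  -- no fixed points on `Z`
  have hfz : ∀ z : Z, τ z = z → z = 1 := by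
    intro z hz
    by_contra hz1
    have hall : ∀ b : Z, b ≠ 1 → b = z := fun b hb => by
      obtain ⟨k, rfl⟩ := htrans z b hz1 hb
      clear hb
      induction k with
      | zero => rfl
      | succ k ih => rw [pow_succ, MulAut.mul_apply, hz, ih]
    classical
    letI := Fintype.ofFinite Z
    have hle : (Finset.univ : Finset Z) ⊆ {1, z} := fun b _ => by
      rcases eq_or_ne b 1 with rfl | hb
      · simp
      · simp [hall b hb]
    have := (Finset.card_le_card hle).trans Finset.card_le_two
    rw [Finset.card_univ, ← Nat.card_eq_fintype_card] at this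
    omega
  have hkill : ∀ f ∈ equivariant σ τ, fixSub σ ≤ ((QuotientGroup.mk' M).comp f).ker := by
    intro f hf w hw
    have : f w = 1 := hfz _ (by rw [← hf w, mem_fixSub.1 hw])
    show QuotientGroup.mk' M (f w) = 1
    rw [this, map_one]
  let L : equivariant σ τ → ((W ⧸ fixSub σ) →* (Z ⧸ M)) := fun f =>
    QuotientGroup.lift _ ((QuotientGroup.mk' M).comp f.1) (hkill f.1 f.2)
  have hinj : Function.Injective L := by
    intro f f' h
    have hd : ∀ w, (f.1 / f'.1) w ∈ M := fun w => by
      rw [← QuotientGroup.eq_one_iff]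
      have := DFunLike.congr_fun h (w : W ⧸ fixSub σ)
      show QuotientGroup.mk' M ((f.1 / f'.1) w) = 1
      rw [MonoidHom.div_apply, map_div, div_eq_one]
      exact this
    have hde : f.1 / f'.1 ∈ equivariant σ τ := div_mem f.2 f'.2
    refine Subtype.ext (div_eq_one.1 (MonoidHom.ext fun w => ?_))
    by_contra hw
    refine hM.1 (eq_top_iff.2 fun b _ => ?_)
    by_cases hb : b = 1
    · exact hb ▸ M.one_mem
    obtain ⟨k, rfl⟩ := htrans _ b hw hb
    have hk : ∀ j : ℕ, (τ ^ j) ((f.1 / f'.1) w) = (f.1 / f'.1) ((σ ^ j) w) := by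
      intro j
      induction j with
      | zero => rfl
      | succ j ih => rw [pow_succ', pow_succ', MulAut.mul_apply, MulAut.mul_apply, ih]; exact (hde _).symm
    rw [hk k]
    exact hd _
  obtain ⟨hfin, hle⟩ := PGroup.card_monoidHom_prime_le (A := W ⧸ fixSub σ) hMp
  haveI := hfin
  have h1 := (Nat.card_le_card_of_injective L hinj).trans hle
  rw [Subgroup.card_eq_card_quotient_mul_card_subgroup (fixSub σ)]
  exact Nat.mul_le_mul_right _ h1

end Cfsg.Agent.Homogeneous
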