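import Cfsg.Agent.Lib.Homogeneous.IsoExt
import Cfsg.Agent.Lib.PSL2.Sylow
import Cfsg.Agent.Lib.PSL2.Torus
import Cfsg.Agent.Lib.PSL2.Classes
import Cfsg.Agent.Lib.PSL2.Conjugate
import Cfsg.Agent.Lib.AutPSL.Main
import Cfsg.Agent.Lib.AutPSL.Group
import Cfsg.Agent.Lib.Schur.PerfectCover
import Cfsg.Agent.Lib.AutPSLOrder.Main
import Mathlib.FieldTheory.Finite.Basic
import Mathlib.LinearAlgebra.Dual.Lemmas

/-!
# Two-dimensional linear groups and extension of isomorphisms

* `prime_card_of_isoExt`: `IsoExt p` for `PSL(2, F)` of odd characteristic `p` forces a prime field.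
* `exists_conj_of_aut`: over a prime field every automorphism of `PSL(2, F)` is a conjugation.
* `card_of_powFus_psl`, `card_of_powFus_sl`: if every power of the same order is an automorphic image,
  then the field has 5 or 7 elements, for `SL(2, F)` only 5.
-/

set_option autoImplicit false

open Matrix
open scoped MatrixGroups commutatorElement

namespace Cfsg.Agent.Homogeneous

open Cfsg.Agent.PSL2

/-- Every power of `x` of the same order is an automorphic image of `x`. -/
def PowFus (X : Type*) [Group X] : Prop :=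
  ∀ (x : X) (i : ℕ), Nat.Coprime i (orderOf x) → ∃ φ : X ≃* X, φ x = x ^ i

theorem PowFus.of_equiv {X Y : Type*} [Group X] [Group Y] (e : X ≃* Y) (h : PowFus X) : PowFus Y := by
  intro y i hi
  obtain ⟨φ, hφ⟩ := h (e.symm y) i (by rwa [MulEquiv.orderOf_eq])
  exact ⟨(e.symm.trans φ).trans e, by
    rw [MulEquiv.trans_apply, MulEquiv.trans_apply, hφ, map_pow, MulEquiv.apply_symm_apply]⟩

theorem IsHomogeneous.powFus {X : Type*} [Group X] [Finite X] (h : IsHomogeneous X) : PowFus X := by
  intro x i hi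
  let gx : Subgroup.zpowers x := ⟨x, Subgroup.mem_zpowers x⟩
  let gy : Subgroup.zpowers (x ^ i) := ⟨x ^ i, Subgroup.mem_zpowers _⟩
  have gen : ∀ (c : X), ∀ u : Subgroup.zpowers c,
      u ∈ Subgroup.zpowers (⟨c, Subgroup.mem_zpowers c⟩ : Subgroup.zpowers c) := by
    rintro c ⟨u, n, rfl⟩
    exact ⟨n, Subtype.ext (by simp)⟩
  let e : Subgroup.zpowers x ≃* Subgroup.zpowers (x ^ i) :=
    mulEquivOfOrderOfEq (g := gx) (g' := gy) (gen x) (gen _)
      (by rw [Subgroup.orderOf_mk, Subgroup.orderOf_mk, (Nat.Coprime.symm hi).orderOf_pow])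
  obtain ⟨φ, hφ⟩ := h _ _ e
  refine ⟨φ, ?_⟩
  have := hφ gx
  rw [show e gx = gy from mulEquivOfOrderOfEq_apply_gen _ _ _] at this
  exact this

theorem IsoExt.of_equiv {X Y : Type*} [Group X] [Group Y] {p : ℕ} (e : X ≃* Y) (h : IsoExt p X) :
    IsoExt p Y := by
  intro A B hA f
  let eA := A.equivMapOfInjective e.symm.toMonoidHom e.symm.injective
  let eB := B.equivMapOfInjective e.symm.toMonoidHom e.symm.injective
  obtain ⟨φ, hφ⟩ := h _ _ (hA.map e.symm.toMonoidHom) ((eA.symm.trans f).trans eB)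
  refine ⟨(e.symm.trans φ).trans e, fun a => ?_⟩
  have h1 := hφ (eA a)
  rw [MulEquiv.trans_apply, MulEquiv.trans_apply, MulEquiv.symm_apply_apply] at h1
  have h2 : φ (e.symm (a : Y)) = e.symm (f a : Y) := h1
  rw [MulEquiv.trans_apply, MulEquiv.trans_apply, h2, MulEquiv.apply_symm_apply]

/-- An integer whose units are all `±1` is 2, 3, 4 or 6 (or 1). -/
theorem units_pm_cases {n : ℕ} (h2 : 2 ≤ n)
    (h : ∀ i, Nat.Coprime i n → i < n → i = 1 ∨ i + 1 = n) : n = 2 ∨ n = 3 ∨ n = 4 ∨ n = 6 := by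
  by_contra hn
  have h1 : Nat.gcd 1 n = 1 := Nat.gcd_one_left n
  rcases Nat.even_or_odd n with ⟨m, hm⟩ | ⟨m, hm⟩
  · rcases Nat.even_or_odd m with ⟨k, hk⟩ | ⟨k, hk⟩
    · have hc : Nat.Coprime (m + 1) n := by
        rw [hm, show m + m = 2 * m by ring]
        refine Nat.Coprime.mul_right ?_ ?_
        · exact (Nat.prime_two.coprime_iff_not_dvd.mpr (by omega)).symm
        · simp
      rcases h (m + 1) hc (by omega) with e | e <;> omega
    · have hc : Nat.Coprime (m + 2) n := by
        rw [hm, show m + m = 2 * m by ring]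
        refine Nat.Coprime.mul_right ?_ ?_
        · exact (Nat.prime_two.coprime_iff_not_dvd.mpr (by omega)).symm
        · rw [Nat.coprime_self_add_left]
          exact Nat.prime_two.coprime_iff_not_dvd.mpr (by omega)
      rcases h (m + 2) hc (by omega) with e | e <;> omega
  · have hc : Nat.Coprime 2 n := Nat.prime_two.coprime_iff_not_dvd.mpr (by omega)
    rcases h 2 hc (by omega) with e | e <;> omega

section Field

variable {F : Type*} [Field F] [Fintype F]

theorem natCast_surjective_of_prime_card (hF : (Fintype.card F).Prime) :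
    Function.Surjective (fun n : ℕ => (n : F)) := by
  obtain ⟨p, hp⟩ := CharP.exists F
  haveI : Fact p.Prime := ⟨CharP.char_is_prime F p⟩
  obtain ⟨k, -, hk⟩ := FiniteField.card F p
  have hpF : Fintype.card F = p := by
    have h1 : (p ^ (k : ℕ)).Prime := hk ▸ hF
    rw [hk, (Nat.Prime.eq_one_of_pow h1), pow_one]
  have hb : Function.Bijective (ZMod.castHom (dvd_refl p) F) :=
    (Fintype.bijective_iff_injective_and_card _).mpr ⟨(ZMod.castHom (dvd_refl p) F).injective,
      by rw [ZMod.card, hpF]⟩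
  intro x
  obtain ⟨a, rfl⟩ := hb.2 x
  exact ⟨a.val, by show ((a.val : ℕ) : F) = _; rw [← map_natCast (ZMod.castHom (dvd_refl p) F), ZMod.natCast_zmod_val]⟩

/-- Over a prime field every automorphism of `PSL(2, F)` is a conjugation. -/
theorem exists_conj_of_aut (hF : (Fintype.card F).Prime) (β : MulAut PSL(2, F)) :
    ∃ A : GL (Fin 2) F, ∀ g : SL(2, F), β (mk g) = mk (AutPSL.conjSL A g) := by
  obtain ⟨A, σ, γ, hγ, rfl⟩ := AutPSL.exists_decomposition (m := 1) le_rfl β
  have hσ : σ = 1 := RingEquiv.ext fun x => by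
    obtain ⟨n, rfl⟩ := natCast_surjective_of_prime_card hF x
    exact map_natCast σ n
  rw [hσ, AutPSL.fieldP_one, mul_one]
  rcases hγ with rfl | rfl
  · exact ⟨A, fun g => by rw [mul_one]; rfl⟩
  · obtain ⟨J, hJ⟩ := AutPSLOrder.invP_eq_conjP (F := F)
    refine ⟨A * J, fun g => ?_⟩
    rw [hJ, ← map_mul]
    rfl

/-- `u(t)` in `PSL(2, F)`. -/
def pu : Multiplicative F →* PSL(2, F) := mk.comp uuHom

theorem pu_injective : Function.Injective (pu : Multiplicative F →* PSL(2, F)) := fun a b h =>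
  uuHom_injective (mk_injOn_unip (uu_mem_unip _) (uu_mem_unip _) h)

theorem isPGroup_pu (p : ℕ) [Fact p.Prime] [CharP F p] : IsPGroup p (pu (F := F)).range := by
  rintro ⟨_, a, rfl⟩
  refine ⟨1, Subtype.ext ?_⟩
  show pu a ^ p ^ 1 = 1
  rw [pow_one, ← map_pow]
  show mk (uuHom (a ^ p)) = 1
  rw [map_pow]
  show mk (uu (Multiplicative.toAdd a) ^ p) = 1
  rw [uu_pow, CharP.cast_eq_zero, zero_mul]
  rw [show (uu (0 : F)) = 1 by apply ext2 <;> simp, map_one]

/-- An additive automorphism fixing 1 extended to the unipotent group respects squares. -/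
theorem sq_of_isoExt (h2 : (2 : F) ≠ 0) {p : ℕ} [Fact p.Prime] [CharP F p] (h : IsoExt p PSL(2, F))
    (τ : F ≃+ F) (h1 : τ 1 = 1) (v : F) : τ (v * v) = τ v * τ v := by
  let e : Multiplicative F ≃* (pu (F := F)).range := MonoidHom.ofInjective pu_injective
  obtain ⟨φ, hφ⟩ := h.exists_ext _ (isPGroup_pu p) ((e.symm.trans τ.toMultiplicative).trans e)
  have hφu : ∀ t : F, φ (mk (uu t)) = mk (uu (τ t)) := fun t => by
    have := hφ (e (Multiplicative.ofAdd t))
    rw [MulEquiv.trans_apply, MulEquiv.trans_apply, MulEquiv.symm_apply_apply] at this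
    exact this
  have key : ∀ (a : Fˣ) (x : F), τ ((a : F) ^ 2 * x) = τ ((a : F) ^ 2) * τ x := by
    intro a
    obtain ⟨h', hh'⟩ := mk_surjective (φ (mk (dd a)))
    have hconj : ∀ x : F, h' * uu (τ x) * h'⁻¹ = uu (τ ((a : F) ^ 2 * x)) := by
      intro x
      have e1 : mk (h' * uu (τ x) * h'⁻¹) = mk (uu (τ ((a : F) ^ 2 * x))) := by
        rw [map_mul, map_mul, map_inv, hh', ← hφu x, ← map_inv, ← map_mul, ← map_mul, ← map_inv, ← map_mul,
          ← map_mul, dd_conj_uu, hφu]
      rcases mk_eq_mk.1 e1 with e2 | e2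
      · exact e2
      · exfalso
        have e3 := congrArg tr e2
        rw [tr_conj, tr_uu, tr_neg, tr_uu] at e3
        exact mul_ne_zero h2 h2 (by linear_combination e3)
    have hB : h' ∈ borel F := uu_conj_mem_borel one_ne_zero (by have := hconj 1; rwa [h1] at this)
    have hc : ∀ x : F, τ ((a : F) ^ 2 * x) = h' 0 0 ^ 2 * τ x := fun x =>
      (uu_injective ((borel_conj_uu hB (τ x)).symm.trans (hconj x))).symm
    intro x
    have hc1 := hc 1
    rw [mul_one, h1, mul_one] at hc1
    rw [hc x, hc1]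
  have keysq : ∀ b x : F, τ (b * b * x) = τ (b * b) * τ x := by
    intro b x
    rcases eq_or_ne b 0 with rfl | hb
    · simp
    · have := key (Units.mk0 b hb) x
      rwa [Units.val_mk0, pow_two] at this
  have hv : v = ((v + 1) / 2) * ((v + 1) / 2) - ((v - 1) / 2) * ((v - 1) / 2) := by
    field_simp
    ring
  calc τ (v * v) = τ (((v + 1) / 2) * ((v + 1) / 2) * v - ((v - 1) / 2) * ((v - 1) / 2) * v) := by
        rw [← sub_mul, ← hv]
    _ = τ v * τ v := by
        rw [map_sub, keysq, keysq, ← sub_mul, ← map_sub, ← hv]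

theorem prime_card_of_isoExt (h2 : (2 : F) ≠ 0) {p : ℕ} [Fact p.Prime] [CharP F p]
    (h : IsoExt p PSL(2, F)) : Fintype.card F = p := by
  classical
  letI : Algebra (ZMod p) F := ZMod.algebra F p
  by_contra hne
  set W : Submodule (ZMod p) F := Submodule.span (ZMod p) {1} with hW
  have hWlt : W < ⊤ := by
    refine lt_top_iff_ne_top.mpr fun htop => hne ?_
    have hb : Function.Bijective (ZMod.castHom (dvd_refl p) F) := by
      refine ⟨(ZMod.castHom (dvd_refl p) F).injective, fun x => ?_⟩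
      obtain ⟨c, hc⟩ := Submodule.mem_span_singleton.mp (show x ∈ W from htop ▸ Submodule.mem_top)
      exact ⟨c, by rw [← hc, Algebra.smul_def, mul_one]; rfl⟩
    rw [← Fintype.card_congr (Equiv.ofBijective _ hb), ZMod.card]
  obtain ⟨f, hf0, hfW⟩ := W.exists_le_ker_of_lt_top hWlt
  have hf1 : f 1 = 0 := hfW (Submodule.subset_span rfl)
  let c : ZMod p →+* F := ZMod.castHom (dvd_refl p) F
  have hfc : ∀ a : ZMod p, f (c a) = 0 := fun a => by
    have : c a = a • (1 : F) := by rw [Algebra.smul_def, mul_one]; rfl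
    rw [this, map_smul, hf1, smul_zero]
  obtain ⟨v, hv⟩ : ∃ v, f v ≠ 0 := by
    by_contra hall
    push Not at hall
    exact hf0 (LinearMap.ext hall)
  let τ : F ≃+ F :=
    { toFun := fun x => x + c (f x)
      invFun := fun x => x - c (f x)
      left_inv := fun x => by show x + c (f x) - c (f (x + c (f x))) = x; rw [map_add, hfc, add_zero]; ring
      right_inv := fun x => by show x - c (f x) + c (f (x - c (f x))) = x; rw [map_sub, hfc, sub_zero]; ring
      map_add' := fun x y => by rw [map_add, map_add]; ring }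
  have ht : ∀ x, τ x = x + c (f x) := fun _ => rfl
  have h' := sq_of_isoExt h2 h τ (by rw [ht, hf1, map_zero, add_zero]) v
  rw [ht, ht] at h'
  have hsm : (c (2 * f v)) * v = c (f (v * v) - f v * f v) := by
    rw [RingHom.map_mul, RingHom.map_sub, RingHom.map_mul, map_ofNat]
    linear_combination -h'
  have h2' : (2 : ZMod p) * f v ≠ 0 := mul_ne_zero (fun e => h2 (by have := congrArg c e; rwa [map_ofNat, map_zero] at this)) hv
  have hvc : v = c ((2 * f v)⁻¹ * (f (v * v) - f v * f v)) := by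
    rw [RingHom.map_mul, map_inv₀, ← hsm, ← mul_assoc, inv_mul_cancel₀, one_mul]
    exact fun e => h2' (c.injective (e.trans (map_zero c).symm))
  exact hv (by rw [hvc]; exact hfc _)

/-- Over a prime field, powers of a semisimple element that are automorphic images are `g` or `g⁻¹`. -/
theorem mk_pow_eq_of_powFus (hF : (Fintype.card F).Prime) (h : PowFus PSL(2, F)) {g : SL(2, F)}
    (h4 : tr g ^ 2 ≠ 4) {i : ℕ} (hi : Nat.Coprime i (orderOf (mk g))) :
    mk g ^ i = mk g ∨ mk g ^ i = (mk g)⁻¹ := by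
  obtain ⟨φ, hφ⟩ := h (mk g) i hi
  obtain ⟨A, hA⟩ := exists_conj_of_aut hF φ
  rw [hA, ← map_pow] at hφ
  have hc : Commute (g ^ i) g := (Commute.refl g).pow_left i
  rw [← map_inv, ← map_pow]
  rcases mk_eq_mk.1 hφ with e | e
  · have ht : tr (g ^ i) = tr g := by rw [← e, Conjugate.tr_conjSL]
    rcases eq_or_eq_inv_of_tr_eq h4 hc ht with e' | e' <;> rw [e']
    exacts [Or.inl rfl, Or.inr rfl]
  · have ht : tr (-(g ^ i)) = tr g := by rw [← e, Conjugate.tr_conjSL]
    have hc' : Commute (-(g ^ i)) g := by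
      rw [PSL2.neg_eq_neg_one_mul]; exact (commute_neg_one g).mul_left hc
    rcases eq_or_eq_inv_of_tr_eq h4 hc' ht with e' | e' <;> rw [← mk_neg (g ^ i), e']
    exacts [Or.inl rfl, Or.inr rfl]

/-- A cyclic group generated by an element whose coprime powers are `±1` has order 2, 3, 4 or 6. -/
theorem orderOf_cases {X : Type*} [Group X] [Finite X] {x : X} (h2 : 2 ≤ orderOf x)
    (h : ∀ i, Nat.Coprime i (orderOf x) → x ^ i = x ∨ x ^ i = x⁻¹) :
    orderOf x = 2 ∨ orderOf x = 3 ∨ orderOf x = 4 ∨ orderOf x = 6 := by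
  refine units_pm_cases h2 fun i hi hlt => ?_
  rcases h i hi with e | e
  · left
    have e' : x ^ i = x ^ 1 := by rw [pow_one]; exact e
    exact pow_injOn_Iio_orderOf (Set.mem_Iio.mpr hlt) (Set.mem_Iio.mpr (by omega)) e'
  · right
    have e' : x ^ (i + 1) = 1 := by rw [pow_succ, e, inv_mul_cancel]
    have := Nat.le_of_dvd (by omega) (orderOf_dvd_of_pow_eq_one e')
    omega

theorem torus_mk_cases (hF : (Fintype.card F).Prime) (h5 : 5 ≤ Fintype.card F) (h : PowFus PSL(2, F))
    {g : SL(2, F)} (h4 : tr g ^ 2 ≠ 4) :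
    Nat.card (cent g) / 2 = 2 ∨ Nat.card (cent g) / 2 = 3 ∨ Nat.card (cent g) / 2 = 4 ∨
      Nat.card (cent g) / 2 = 6 := by
  have hodd : Nat.gcd 2 (Fintype.card F - 1) = 2 := by
    obtain ⟨m, hm⟩ := hF.odd_of_ne_two (by omega)
    exact Nat.gcd_eq_left ⟨m, by omega⟩
  obtain ⟨⟨_, w, hw, rfl⟩, hc⟩ := (isCyclic_map_cent h4).exists_generator
  have hord : orderOf (mk w) = Nat.card (cent g) / 2 := by
    have hcm : Nat.card ((cent g).map mk) = Nat.card (cent g) / 2 := by rw [card_map_cent_eq, hodd]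
    rw [← hcm, ← orderOf_eq_card_of_forall_mem_zpowers hc]
    exact (Subgroup.orderOf_mk _ _).symm
  have hn : 2 ≤ Nat.card (cent g) / 2 := by
    rcases card_cent_of_tr h4 with e | e <;> omega
  have hw' : w ∉ Subgroup.center SL(2, F) := fun hz => by
    have : mk w = 1 := by rw [← MonoidHom.mem_ker, ker_mk]; exact hz
    rw [this, orderOf_one] at hord
    omega
  have h4' : tr w ^ 2 ≠ 4 := tr_sq_ne_four_of_commute h4 hw' (mem_cent.1 hw)
  rw [← hord] at hn ⊢
  exact orderOf_cases hn fun i hi => mk_pow_eq_of_powFus hF h h4' hi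

/-- Prime fields of at least 5 elements with `PowFus` for `PSL(2, F)` have 5 or 7 elements. -/
theorem card_of_powFus_psl (hF : (Fintype.card F).Prime) (h5 : 5 ≤ Fintype.card F) (h : PowFus PSL(2, F)) :
    Fintype.card F = 5 ∨ Fintype.card F = 7 := by
  obtain ⟨m, hm⟩ := hF.odd_of_ne_two (by omega)
  obtain ⟨g, hg4, hg⟩ := exists_torus_card_sub_one (F := F) (by omega)
  obtain ⟨k, hk4, hk⟩ := exists_torus_card_add_one F
  have h1 := torus_mk_cases hF h5 h hg4
  have h2 := torus_mk_cases hF h5 h hk4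
  omega

/-- Every automorphism of `SL(2, F)` over a prime field preserves traces. -/
theorem tr_aut (hF : (Fintype.card F).Prime) (h5 : 4 ≤ Fintype.card F) (φ : SL(2, F) ≃* SL(2, F))
    (g : SL(2, F)) : tr (φ g) = tr g := by
  have hmap : (Subgroup.center SL(2, F)).map φ.toMonoidHom = Subgroup.center SL(2, F) :=
    Subgroup.characteristic_iff_map_eq.1 inferInstance φ
  obtain ⟨A, hA⟩ := exists_conj_of_aut hF (QuotientGroup.congr _ _ φ hmap)
  have hmk : ∀ x : SL(2, F), mk (φ x) = mk (AutPSL.conjSL A x) := fun x =>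
    (QuotientGroup.congr_mk _ _ φ hmap x).symm.trans (hA x)
  have heq : φ.toMonoidHom = (AutPSL.conjSL A).toMonoidHom := by
    refine MonoidHom.ext fun x => ?_
    have hx : x ∈ commutator SL(2, F) := by rw [sl_commutator_eq_top h5]; exact Subgroup.mem_top x
    have hle : commutator SL(2, F) ≤ φ.toMonoidHom.eqLocus (AutPSL.conjSL A).toMonoidHom := by
      rw [commutator_def, Subgroup.commutator_le]
      intro a _ b _
      show φ ⁅a, b⁆ = AutPSL.conjSL A ⁅a, b⁆
      rw [map_commutatorElement, map_commutatorElement]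
      exact Schur.commutator_congr (σ := mk) (by rw [ker_mk]) (hmk a) (hmk b)
    exact hle hx
  rw [show φ g = AutPSL.conjSL A g from DFunLike.congr_fun heq g, Conjugate.tr_conjSL]

/-- Prime fields of 5 or 7 elements with `PowFus` for `SL(2, F)` have 5 elements. -/
theorem card_of_powFus_sl (hF : Fintype.card F = 5 ∨ Fintype.card F = 7) (h : PowFus SL(2, F)) :
    Fintype.card F = 5 := by
  rcases hF with hF | hF
  · exact hF
  exfalso
  have hp : (Fintype.card F).Prime := by rw [hF]; norm_num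
  obtain ⟨g, hg4, hg⟩ := exists_torus_card_add_one F
  obtain ⟨w, hw⟩ := (isCyclic_cent hg4).exists_generator
  have hord : orderOf (w : SL(2, F)) = 8 := by
    rw [Subgroup.orderOf_coe, orderOf_eq_card_of_forall_mem_zpowers hw, hg, hF]
  have hnz : (w : SL(2, F)) ∉ Subgroup.center SL(2, F) := fun hz => by
    have h2 : (w : SL(2, F)) ^ 2 = 1 := by
      rcases mem_center_iff_pm.1 hz with e | e <;> rw [e] <;> simp
    have := Nat.le_of_dvd (by norm_num) (orderOf_dvd_of_pow_eq_one h2)
    omega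
  have h4 : tr (w : SL(2, F)) ^ 2 ≠ 4 := tr_sq_ne_four_of_commute hg4 hnz (mem_cent.1 w.2)
  have key : ∀ i, Nat.Coprime i (orderOf (w : SL(2, F))) →
      (w : SL(2, F)) ^ i = w ∨ (w : SL(2, F)) ^ i = (w : SL(2, F))⁻¹ := by
    intro i hi
    obtain ⟨φ, hφ⟩ := h _ i hi
    refine eq_or_eq_inv_of_tr_eq h4 ((Commute.refl _).pow_left i) ?_
    rw [← hφ, tr_aut hp (by omega)]
  have := orderOf_cases (by omega) key
  omega

end Field

end Cfsg.Agent.Homogeneous
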