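import Cfsg.Agent.Lib.Homogeneous.AltSeven
import Cfsg.Agent.Lib.Homogeneous.PSLPrime
import Cfsg.Agent.Lib.GW.KType
import Mathlib.Algebra.Group.TransferInstance
import Cfsg.Agent.Lib.PSL2.PGLHom
import Cfsg.Agent.S2117

/-!
# Homogeneous groups with a known simple quotient

* `homogeneous_of_isKnown`: a homogeneous group of type `PSL(2, odd)` or `A₇` is `PSL(2,5)` or `PSL(2,7)`.
* `homogeneous_of_cover`: a homogeneous perfect double cover of such a group is `SL(2,5)`.
-/

set_option autoImplicit false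

open Subgroup
open scoped MatrixGroups commutatorElement

namespace Cfsg.Agent.Homogeneous

open Cfsg.Agent.PSL2

universe u

theorem IsHomogeneous.of_equiv {X Y : Type*} [Group X] [Group Y] (e : X ≃* Y) (h : IsHomogeneous X) :
    IsHomogeneous Y := by
  intro A B f
  let eA := A.equivMapOfInjective e.symm.toMonoidHom e.symm.injective
  let eB := B.equivMapOfInjective e.symm.toMonoidHom e.symm.injective
  obtain ⟨φ, hφ⟩ := h _ _ ((eA.symm.trans f).trans eB)
  refine ⟨(e.symm.trans φ).trans e, fun a => ?_⟩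
  have h1 := hφ (eA a)
  rw [MulEquiv.trans_apply, MulEquiv.trans_apply, MulEquiv.symm_apply_apply] at h1
  have h2 : φ (e.symm (a : Y)) = e.symm (f a : Y) := h1
  rw [MulEquiv.trans_apply, MulEquiv.trans_apply, h2, MulEquiv.apply_symm_apply]

theorem PowFus.quotient_center {X : Type*} [Group X] [Finite X] (h : PowFus X)
    (hZ : Nat.card (center X) = 2) : PowFus (X ⧸ center X) := by
  intro x i hi
  obtain ⟨g, rfl⟩ := QuotientGroup.mk'_surjective (center X) x
  set n := orderOf (QuotientGroup.mk' (center X) g) with hn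
  have hd : orderOf g ∣ 2 * n := by
    refine orderOf_dvd_of_pow_eq_one ?_
    have hm : g ^ n ∈ center X := by
      rw [← QuotientGroup.eq_one_iff, ← QuotientGroup.mk'_apply, map_pow, hn, pow_orderOf_eq_one]
    have := congrArg Subtype.val (pow_card_eq_one' (x := (⟨g ^ n, hm⟩ : center X)))
    rw [hZ] at this
    rw [mul_comm, pow_mul]
    exact this
  obtain ⟨j, hj, hjn⟩ : ∃ j, Nat.Coprime j (2 * n) ∧ j % n = i % n := by
    by_cases h2 : Nat.Coprime i 2
    · exact ⟨i, Nat.Coprime.mul_right h2 hi, rfl⟩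
    · have hi2 : 2 ∣ i := by
        by_contra hh
        exact h2 (Nat.prime_two.coprime_iff_not_dvd.mpr hh).symm
      have hn2 : ¬ 2 ∣ n := fun hh => by
        have := Nat.dvd_gcd hi2 hh
        rw [hi.gcd_eq_one] at this
        omega
      refine ⟨i + n, Nat.Coprime.mul_right ?_ ?_, Nat.add_mod_right i n⟩
      · exact (Nat.prime_two.coprime_iff_not_dvd.mpr (by omega)).symm
      · rwa [Nat.coprime_add_self_left]
  obtain ⟨φ, hφ⟩ := h g j (hj.coprime_dvd_right hd)
  have hmap : (center X).map φ.toMonoidHom = center X := characteristic_iff_map_eq.1 inferInstance φ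
  refine ⟨QuotientGroup.congr _ _ φ hmap, ?_⟩
  refine (QuotientGroup.congr_mk _ _ φ hmap g).trans ?_
  rw [hφ, ← QuotientGroup.mk'_apply, map_pow, ← pow_mod_orderOf, ← hn, hjn, hn, pow_mod_orderOf]

/-- A homogeneous group of known type is `PSL(2,5)` or `PSL(2,7)`. -/
theorem homogeneous_of_isKnown {G : Type u} [Group G] [Finite G] (h : IsHomogeneous G) (_hs : IsSimpleGroup G)
    (hk : GW.IsKnown G) :
    ∃ (F : Type) (_ : Field F) (_ : Fintype F), (Fintype.card F = 5 ∨ Fintype.card F = 7) ∧
      Nonempty (G ≃* PSL(2, F)) := by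
  rcases hk with ⟨F, iF, iF', hodd, h3, ⟨e⟩⟩ | ⟨⟨e⟩⟩
  · obtain ⟨p, hp⟩ := CharP.exists F
    haveI : Fact p.Prime := ⟨CharP.char_is_prime F p⟩
    have hc := prime_card_of_isoExt (odd_card_iff.1 hodd) (p := p) ((h.isoExt p).of_equiv e)
    have h5 : 5 ≤ Fintype.card F := by obtain ⟨m, hm⟩ := hodd; omega
    exact ⟨F, iF, iF', card_of_powFus_psl (hc ▸ Fact.out) h5 (h.powFus.of_equiv e), ⟨e⟩⟩
  · exact absurd (h.isoExt 3) (not_isoExt_alt_seven e)

theorem homogeneous_of_cover_zero {G : Type} [Group G] [Finite G] (hperf : commutator G = ⊤)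
    (h : IsHomogeneous G) (hZ : Nat.card (center G) = 2) (hk : GW.IsKnown (G ⧸ center G)) :
    ∃ (F : Type) (_ : Field F) (_ : Fintype F), Fintype.card F = 5 ∧ Nonempty (G ≃* SL(2, F)) := by
  have hq : ∀ p : ℕ, p.Prime → p ≠ 2 → IsoExt p (G ⧸ center G) := fun p hp hp2 => by
    haveI : Fact p.Prime := ⟨hp⟩
    refine (h.isoExt p).quotient (center G) inferInstance ?_
    rw [hZ]
    exact fun hd => hp2 ((Nat.prime_dvd_prime_iff_eq hp Nat.prime_two).mp hd)
  rcases hk with ⟨F, iF, iF', hodd, h3, ⟨e⟩⟩ | ⟨⟨e⟩⟩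
  · obtain ⟨p, hp⟩ := CharP.exists F
    haveI : Fact p.Prime := ⟨CharP.char_is_prime F p⟩
    have h2 : (2 : F) ≠ 0 := odd_card_iff.1 hodd
    have hp2 : p ≠ 2 := by
      rintro rfl
      exact h2 (CharP.cast_eq_zero F 2)
    have hc := prime_card_of_isoExt h2 (p := p) ((hq p Fact.out hp2).of_equiv e)
    have h5 : 5 ≤ Fintype.card F := by obtain ⟨m, hm⟩ := hodd; omega
    have h57 := card_of_powFus_psl (hc ▸ Fact.out) h5 ((h.powFus.quotient_center hZ).of_equiv e)
    let σ : G →* G ⧸ center G := QuotientGroup.mk' (center G)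
    have hσ : σ.ker ≤ center G := (QuotientGroup.ker_mk' _).le
    obtain ⟨f, hf⟩ := Schur.exists_perfect_lift (sl_commutator_eq_top (F := F) (by omega))
      (S2117.result (F := F) (by omega) (by omega)) σ (QuotientGroup.mk'_surjective _) hσ
      (e.symm.toMonoidHom.comp mk)
    have hfs : Function.Surjective f := by
      rw [← MonoidHom.range_eq_top, eq_top_iff, ← hperf, _root_.commutator_def, commutator_le]
      intro a _ b _
      obtain ⟨s, hs⟩ := (e.symm.surjective.comp mk_surjective) (σ a)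
      obtain ⟨t, ht⟩ := (e.symm.surjective.comp mk_surjective) (σ b)
      refine ⟨⁅s, t⁆, ?_⟩
      rw [map_commutatorElement]
      exact Schur.commutator_congr hσ ((DFunLike.congr_fun hf s).trans hs) ((DFunLike.congr_fun hf t).trans ht)
    have hcard : Nat.card SL(2, F) = Nat.card G := by
      have h1 := Subgroup.card_eq_card_quotient_mul_card_subgroup (center G)
      have h2' := Subgroup.card_eq_card_quotient_mul_card_subgroup (center SL(2, F))
      have hodd' : Nat.gcd 2 (Fintype.card F - 1) = 2 := by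
        obtain ⟨m, hm⟩ := hodd
        exact Nat.gcd_eq_left ⟨m, by omega⟩
      rw [hZ, Nat.card_congr e.toEquiv] at h1
      rw [card_center, hodd'] at h2'
      exact h2'.trans h1.symm
    let E : SL(2, F) ≃* G := MulEquiv.ofBijective f
      ((Nat.bijective_iff_surjective_and_card _).mpr ⟨hfs, hcard⟩)
    exact ⟨F, iF, iF', card_of_powFus_sl h57 (h.powFus.of_equiv E.symm), ⟨E.symm⟩⟩
  · exact absurd (hq 3 Nat.prime_three (by norm_num)) (not_isoExt_alt_seven e)

/-- A homogeneous perfect double cover of a group of known type is `SL(2,5)`. -/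
theorem homogeneous_of_cover {G : Type u} [Group G] [Finite G] [Group.IsPerfect G] (h : IsHomogeneous G)
    (hZ : Nat.card (center G) = 2) (_huniq : ∀ x y : G, orderOf x = 2 → orderOf y = 2 → x = y)
    (hk : GW.IsKnown (G ⧸ center G)) :
    ∃ (F : Type) (_ : Field F) (_ : Fintype F), Fintype.card F = 5 ∧ Nonempty (G ≃* SL(2, F)) := by
  obtain ⟨G₀, _, _, ⟨e⟩⟩ := Finite.exists_type_univ_nonempty_mulEquiv.{u, 0} G
  have hmap : (center G).map e.toMonoidHom = center G₀ := map_center_equiv e
  have hperf : commutator G₀ = ⊤ := by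
    rw [_root_.commutator_def, ← map_top_of_surjective e.toMonoidHom e.surjective, ← map_commutator,
      ← _root_.commutator_def, Group.IsPerfect.commutator_eq_top]
  obtain ⟨F, iF, iF', hF, ⟨f⟩⟩ := homogeneous_of_cover_zero hperf (h.of_equiv e)
    (by rw [← hmap, card_map_of_injective (f := e.toMonoidHom) e.injective, hZ])
    (hk.of_equiv (QuotientGroup.congr _ _ e hmap))
  exact ⟨F, iF, iF', hF, ⟨e.trans f⟩⟩

end Cfsg.Agent.Homogeneous
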