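import Cfsg.Agent.Lib.Homogeneous.Automizer
import Cfsg.Agent.Lib.Homogeneous.Linear
import Cfsg.Agent.Lib.Homogeneous.FixInvolutions
import Cfsg.Agent.Lib.PGroup.CyclicMaximal
import Cfsg.Agent.Lib.PGroup.Critical
import Cfsg.Agent.Lib.PGroup.OmegaRankTwo
import Cfsg.Agent.Lib.GL.Basic
import Cfsg.Agent.Lib.Coprime.OmegaOne

/-!
# Small rank `p`-groups, `p` odd

* `exists_normal_elementary_sq`: a normal noncyclic subgroup contains a normal elementary abelian `p²`;
* `eq_one_of_rank_le_two`: automorphisms of `q`-power order of a group of rank at most 2 are trivial when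
  `q` does not divide `p (p - 1) (p + 1)`.
-/

set_option autoImplicit false
set_option linter.style.haveILetI false

namespace Cfsg.Agent.Homogeneous

open Subgroup
open scoped IsMulCommutative commutatorElement

universe u

theorem exists_normal_elementary_sq {P : Type u} [Group P] [Finite P] {p : ℕ} [hp : Fact p.Prime]
    (hP : IsPGroup p P) (hp2 : p ≠ 2) (N : Subgroup P) [N.Normal] (hnc : ¬ IsCyclic N) :
    ∃ E : Subgroup P, E ≤ N ∧ E.Normal ∧ IsMulCommutative E ∧ (∀ x ∈ E, x ^ p = 1) ∧ Nat.card E = p ^ 2 := by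
  induction hn : Nat.card N using Nat.strong_induction_on generalizing N with
  | _ k ih =>
  subst hn
  have hNne : N ≠ ⊥ := fun e => hnc (by rw [e]; infer_instance)
  -- a normal subgroup of index `p`
  obtain ⟨N₁, hN₁⟩ := (Set.toFinite {A : Subgroup P | A.Normal ∧ A < N}).exists_maximal
    ⟨⊥, inferInstance, bot_lt_iff_ne_bot.2 hNne⟩
  obtain ⟨hN₁n, hN₁lt⟩ := hN₁.prop
  haveI := hN₁n
  set π := QuotientGroup.mk' N₁ with hπ
  have hne : N.map π ≠ ⊥ := by
    rw [Ne, Subgroup.map_eq_bot_iff, QuotientGroup.ker_mk']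
    exact hN₁lt.not_ge
  haveI : (N.map π).Normal := (inferInstance : N.Normal).map π (QuotientGroup.mk'_surjective _)
  obtain ⟨z, hzN, hzc, hzo⟩ := PGroup.exists_orderOf_eq_mem_center (hP.to_quotient N₁) _ hne
  haveI : (zpowers z).Normal := ⟨fun a ha g => by
    rw [mem_center_iff.1 (zpowers_le.2 hzc ha) g, mul_inv_cancel_right]
    exact ha⟩
  have hNeq : (zpowers z).comap π = N := by
    have hle : (zpowers z).comap π ≤ N := by
      intro x hx
      obtain ⟨y, hy, hyx⟩ := (zpowers_le.2 hzN) (show π x ∈ zpowers z from hx)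
      have h1 : y⁻¹ * x ∈ N₁ := QuotientGroup.eq.1 hyx
      rw [show x = y * (y⁻¹ * x) by group]
      exact mul_mem hy (hN₁lt.le h1)
    have hge : N₁ ≤ (zpowers z).comap π := fun x hx => by
      show π x ∈ zpowers z
      rw [show π x = 1 from (QuotientGroup.eq_one_iff x).2 hx]
      exact one_mem _
    by_contra hne'
    have hlt : (zpowers z).comap π < N := lt_of_le_of_ne hle hne'
    have heq : (zpowers z).comap π = N₁ := le_antisymm (hN₁.2 ⟨inferInstance, hlt⟩ hge) hge
    obtain ⟨y, hy⟩ := QuotientGroup.mk'_surjective N₁ z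
    have h2 : y ∈ N₁ := heq ▸ (show π y ∈ zpowers z by rw [hy]; exact mem_zpowers z)
    rw [← hy, show π y = 1 from (QuotientGroup.eq_one_iff y).2 h2, orderOf_one] at hzo
    exact hp.out.ne_one hzo.symm
  have hcard : Nat.card N = Nat.card N₁ * p := by
    have h := relIndex_ker N π
    rw [QuotientGroup.ker_mk'] at h
    rw [← Subgroup.card_mul_index (N₁.subgroupOf N),
      Nat.card_congr (subgroupOfEquivOfLe hN₁lt.le).toEquiv]
    congr 1
    rw [show (N₁.subgroupOf N).index = N₁.relIndex N from rfl, h, ← hNeq,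
      map_comap_eq_self_of_surjective (QuotientGroup.mk'_surjective _), Nat.card_zpowers, hzo]
  by_cases hc : IsCyclic N₁
  swap
  · obtain ⟨E, hE, hE'⟩ := ih _ (by
      rw [hcard]; exact lt_mul_of_one_lt_right Nat.card_pos hp.out.one_lt) N₁ hc rfl
    exact ⟨E, hE.trans hN₁lt.le, hE'⟩
  -- `N` has a cyclic subgroup of index `p`
  obtain ⟨m, hm⟩ := (hP.to_subgroup N₁).exists_card_eq
  have hm1 : 1 ≤ m := by
    by_contra h0
    obtain rfl : m = 0 := by omega
    exact hnc (isCyclic_of_prime_card (p := p) (by rw [hcard, hm, pow_zero, one_mul]))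
  set C := N₁.subgroupOf N with hC
  haveI : IsCyclic C := isCyclic_of_surjective _ (subgroupOfEquivOfLe hN₁lt.le).symm.surjective
  have hCi : C.index = p := by
    have h1 := C.card_mul_index
    rw [hC, Nat.card_congr (subgroupOfEquivOfLe hN₁lt.le).toEquiv, hcard] at h1
    exact Nat.eq_of_mul_eq_mul_left Nat.card_pos h1
  obtain ⟨a, b, r, hCa, ha, hb, hbn, hgen, hzc', hab⟩ :=
    PGroup.cyclic_index_odd hp2 hm1 (by rw [hcard, hm, pow_succ]) C inferInstance hCi hnc
  set w := a ^ p ^ (m - 1) with hw
  haveI : (zpowers w).Normal := ⟨fun x hx g => by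
    rw [mem_center_iff.1 (zpowers_le.2 hzc' hx) g, mul_inv_cancel_right]
    exact hx⟩
  have hcl : commutator N ≤ Subgroup.center N := by
    refine le_trans ?_ (zpowers_le.2 hzc')
    rw [commutator_def, Subgroup.commutator_le]
    intro x _ y _
    set ρ := QuotientGroup.mk' (zpowers w) with hρ
    refine (QuotientGroup.eq_one_iff _).1 ?_
    show ρ ⁅x, y⁆ = 1
    rw [map_commutatorElement, commutatorElement_eq_one_iff_mul_comm]
    refine PGroup.commute_of_generators (a := ρ a) (b := ρ b) ?_ ?_ _ _
    · rw [← MonoidHom.map_zpowers, ← MonoidHom.map_zpowers, ← Subgroup.map_sup, hgen,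
        ← MonoidHom.range_eq_map, MonoidHom.range_eq_top]
      exact QuotientGroup.mk'_surjective _
    · have h1 : ρ (b * a * b⁻¹) = ρ a := by
        rw [hab, map_mul, show ρ (w ^ r) = 1 from (QuotientGroup.eq_one_iff _).2
          (zpow_mem (mem_zpowers w) r), mul_one]
      rw [map_mul, map_mul, map_inv, mul_inv_eq_iff_eq_mul] at h1
      exact h1.symm
  set U : Subgroup N := Subgroup.closure {x | x ^ p = 1} with hU
  have hUexp : ∀ x ∈ U, x ^ p = 1 := fun x hx =>
    PGroup.pow_eq_one_of_mem_closure hp.out hp2 hcl (fun y hy => hy) hx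
  have hwp : orderOf w = p := by
    rw [hw, orderOf_pow' a (pow_ne_zero _ hp.out.ne_zero), ha,
      Nat.gcd_eq_right (pow_dvd_pow p (Nat.sub_le m 1)), Nat.pow_div (Nat.sub_le m 1) hp.out.pos]
    rw [show m - (m - 1) = 1 by omega, pow_one]
  have hwU : w ∈ U := subset_closure (show w ^ p = 1 by rw [← hwp, pow_orderOf_eq_one])
  have hbU : b ∈ U := subset_closure (show b ^ p = 1 by rw [← hb, pow_orderOf_eq_one])
  obtain ⟨e, he⟩ := ((hP.to_subgroup N).to_subgroup U).exists_card_eq
  have hlower : p ^ 2 ≤ Nat.card U := by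
    have h1 : zpowers w < U := lt_of_le_of_ne (zpowers_le.2 hwU) fun h => hbn
      (zpowers_le.2 (pow_mem (mem_zpowers a) _) (h.symm ▸ hbU))
    have h2 : p < Nat.card U := by
      rw [← hwp, ← Nat.card_zpowers]
      by_contra h
      exact h1.ne (Subgroup.eq_of_le_of_card_ge h1.le (Nat.le_of_not_lt h))
    rw [he] at h2 ⊢
    refine Nat.pow_le_pow_right hp.out.pos ?_
    by_contra h
    have : p ^ e ≤ p ^ 1 := Nat.pow_le_pow_right hp.out.pos (by omega)
    rw [pow_one] at this
    omega
  have hupper : Nat.card U ≤ p ^ 2 := by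
    have h1 : Nat.card (C.subgroupOf U) ∣ p := by
      haveI : IsCyclic (C.subgroupOf U) :=
        isCyclic_of_injective ((U.subtype.comp (C.subgroupOf U).subtype).codRestrict C fun x => x.2)
          fun x y h => Subtype.ext (Subtype.ext (congrArg (fun v : C => (v : N)) h))
      obtain ⟨g, hg⟩ := IsCyclic.exists_ofOrder_eq_natCard (α := C.subgroupOf U)
      rw [← hg]
      exact orderOf_dvd_of_pow_eq_one (Subtype.ext (Subtype.ext (hUexp _ (g : U).2)))
    have h2 := (C.subgroupOf U).card_mul_index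
    rw [← h2, pow_two]
    refine Nat.mul_le_mul (Nat.le_of_dvd hp.out.pos h1) ?_
    have h3 : C.relIndex U ≤ C.relIndex ⊤ :=
      relIndex_le_of_le_right le_top (by rw [relIndex_top_right]; exact Subgroup.index_ne_zero_of_finite)
    rw [relIndex_top_right, hCi] at h3
    exact h3
  have hUcard : Nat.card U = p ^ 2 := le_antisymm hupper hlower
  have hUchar : U.Characteristic := characteristic_iff_map_le.2 fun φ => by
    rw [hU, MonoidHom.map_closure, closure_le]
    rintro _ ⟨x, hx, rfl⟩
    refine subset_closure ?_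
    show φ x ^ p = 1
    rw [← map_pow, show x ^ p = 1 from hx, map_one]
  haveI := hUchar
  haveI : IsMulCommutative U := IsPGroup.isMulCommutative_of_card_eq_prime_sq hUcard
  refine ⟨U.map N.subtype, map_subtype_le _, inferInstance, inferInstance, ?_, ?_⟩
  · rintro _ ⟨x, hx, rfl⟩
    rw [← map_pow, hUexp x hx, map_one]
  · rw [card_map_of_injective N.subtype_injective, hUcard]

/-- `q`-power order automorphisms of elementary abelian groups of order at most `p²`. -/
theorem eq_one_of_card_le_sq {W : Type*} [Group W] [Finite W] [IsMulCommutative W] {p q : ℕ}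
    [hp : Fact p.Prime] (hq : q.Prime) (hW : ∀ x : W, x ^ p = 1) (hle : Nat.card W ≤ p ^ 2)
    (hqp : ¬ q ∣ p * ((p - 1) * (p + 1))) {σ : MulAut W} (hσ : ∃ k, σ ^ q ^ k = 1) : σ = 1 := by
  obtain ⟨k, hk⟩ := hσ
  obtain ⟨n, hn⟩ := (IsPGroup.iff_card (p := p)).1 (fun x : W => ⟨1, by rw [pow_one]; exact hW x⟩)
  have hn2 : n ≤ 2 := by
    rw [hn] at hle
    exact (Nat.pow_le_pow_iff_right hp.out.one_lt).1 hle
  obtain ⟨e, -⟩ := exists_mulEquiv_GL (p := p) (E := W) hW hn
  have hqp' : ¬ q ∣ p ∧ ¬ q ∣ p - 1 ∧ ¬ q ∣ p + 1 :=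
    ⟨fun h => hqp (h.mul_right _), fun h => hqp ((h.mul_right _).mul_left _),
      fun h => hqp ((h.mul_left _).mul_left _)⟩
  have hndvd : ¬ q ∣ Nat.card (MulAut W) := by
    rw [Nat.card_congr e.toEquiv]
    rcases (show n = 0 ∨ n = 1 ∨ n = 2 by omega) with rfl | rfl | rfl
    · rw [Nat.card_unique]; exact hq.not_dvd_one
    · haveI : Unique (Fin 1) := inferInstance
      rw [Matrix.card_GL_field]
      simp only [Fin.prod_univ_one, ZMod.card, pow_one, Fin.val_zero, pow_zero]
      exact hqp'.2.1
    · rw [GL.card_GL2, ZMod.card]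
      intro h
      rcases hq.dvd_mul.1 h with h | h
      · rcases hq.dvd_mul.1 h with h | h
        · exact hqp'.1 h
        · exact hqp'.2.1 h
      · rw [show p ^ 2 - 1 = (p + 1) * (p - 1) by simpa using Nat.sq_sub_sq p 1] at h
        rcases hq.dvd_mul.1 h with h | h
        · exact hqp'.2.2 h
        · exact hqp'.2.1 h
  refine orderOf_eq_one_iff.1 ?_
  exact Nat.eq_one_of_dvd_coprimes ((hq.coprime_iff_not_dvd.2 hndvd).pow_left k)
    (orderOf_dvd_of_pow_eq_one hk) (orderOf_dvd_natCard σ)

/-- An automorphism of order prime to `p` fixing a normal series of length two is trivial. -/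
theorem eq_one_of_fix_series {T : Type*} [Group T] [Finite T] {p : ℕ} [hp : Fact p.Prime]
    (hT : IsPGroup p T) (Z : Subgroup T) [Z.Normal] (σ : MulAut T) {r : ℕ} (hr : σ ^ r = 1)
    (hrp : r.Coprime p) (hZ : ∀ z ∈ Z, σ z = z) (hmod : ∀ x, x⁻¹ * σ x ∈ Z) : σ = 1 := by
  refine MulEquiv.ext fun x => ?_
  have h1 := pow_apply_eq_mul σ (x := x) (b := x⁻¹ * σ x) (by rw [mul_inv_cancel_left]) (hZ _ (hmod x)) r
  rw [hr, MulAut.one_apply, eq_comm, mul_eq_left] at h1
  obtain ⟨k, hk⟩ := hT (x⁻¹ * σ x)
  have h2 : x⁻¹ * σ x = 1 := orderOf_eq_one_iff.1 (Nat.eq_one_of_dvd_coprimes (hrp.pow_right k)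
    (orderOf_dvd_of_pow_eq_one h1) (orderOf_dvd_of_pow_eq_one hk))
  exact (inv_mul_eq_one.1 h2).symm

theorem eq_one_of_rank_le_two {T : Type*} [Group T] [Finite T] {p q : ℕ} [hp : Fact p.Prime]
    (hT : IsPGroup p T) (hp2 : p ≠ 2) (hrk : Cfsg.PRankLE p 2 T) (hq : q.Prime)
    (hqp : ¬ q ∣ p * ((p - 1) * (p + 1))) {σ : MulAut T} (hσ : ∃ k, σ ^ q ^ k = 1) : σ = 1 := by
  obtain ⟨k, hk⟩ := hσ
  have hcop : (q ^ k).Coprime p :=
    ((Nat.coprime_primes hq hp.out).2 fun e => hqp (e ▸ Dvd.intro _ rfl)).pow_left k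
  obtain ⟨H, hH, -, hHP, hC⟩ := PGroup.exists_critical hT
  haveI := hH
  have hcl : commutator H ≤ Subgroup.center H := by
    rw [commutator_def, Subgroup.commutator_le]
    intro x _ y _
    rw [Subgroup.mem_center_iff]
    intro w
    refine Subtype.ext ?_
    have h1 : ⁅(x : T), (y : T)⁆ ∈ centralizer (H : Set T) :=
      (hHP (commutator_mem_commutator x.2 (mem_top _))).2
    exact mem_centralizer_iff.1 h1 w w.2
  set U : Subgroup H := Subgroup.closure {x | x ^ p = 1} with hU
  have hUexp : ∀ x : U, x ^ p = 1 := fun x =>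
    Subtype.ext (PGroup.pow_eq_one_of_mem_closure hp.out hp2 hcl (fun y hy => hy) x.2)
  haveI hUchar : U.Characteristic := characteristic_iff_map_le.2 fun φ => by
    rw [hU, MonoidHom.map_closure, closure_le]
    rintro _ ⟨x, hx, rfl⟩
    refine subset_closure ?_
    show φ x ^ p = 1
    rw [← map_pow, show x ^ p = 1 from hx, map_one]
  have hUp : IsPGroup p U := (hT.to_subgroup H).to_subgroup U
  let f : U →* T := H.subtype.comp U.subtype
  have hf : Function.Injective f := H.subtype_injective.comp U.subtype_injective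
  have hrkU : ∀ E : Subgroup U, IsElementaryAbelian p E → Nat.card E ≤ p ^ 2 := fun E hE => by
    haveI := hE.1
    rw [← card_map_of_injective (K := E) (f := f) hf]
    refine hrk _ inferInstance ?_
    rintro _ ⟨x, hx, rfl⟩
    rw [← map_pow, hE.2 x hx, map_one]
  have hU3 := PGroup.card_le_cube_of_exponent hUp hp2 hUexp hrkU
  -- the action on `H` and `U`
  let σH : MulAut H := (σ.subgroupMap H).trans (MulEquiv.subgroupCongr (characteristic_iff_map_eq.1 hH σ))
  let σU : MulAut U := (σH.subgroupMap U).trans (MulEquiv.subgroupCongr (characteristic_iff_map_eq.1 hUchar σH))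
  have hHk : ∀ (j : ℕ) (x : H), ((σH ^ j) x : T) = (σ ^ j) x := by
    intro j x
    induction j with
    | zero => rfl
    | succ j ih => rw [pow_succ', MulAut.mul_apply, pow_succ', MulAut.mul_apply, ← ih]; rfl
  have hUk : ∀ (j : ℕ) (x : U), ((σU ^ j) x : H) = (σH ^ j) x := by
    intro j x
    induction j with
    | zero => rfl
    | succ j ih => rw [pow_succ', MulAut.mul_apply, pow_succ', MulAut.mul_apply, ← ih]; rfl
  have hσUk : σU ^ q ^ k = 1 := MulEquiv.ext fun x => Subtype.ext (Subtype.ext (by
    rw [hUk, hHk, hk]; rfl))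
  have hU1 : σU = 1 := by
    by_cases hc : IsMulCommutative U
    · haveI := hc
      refine eq_one_of_card_le_sq hq hUexp ?_ hqp ⟨k, hσUk⟩
      haveI : IsMulCommutative (⊤ : Subgroup U) := ⟨⟨fun a b => Subtype.ext (mul_comm (a : U) b)⟩⟩
      have := hrkU ⊤ ⟨inferInstance, fun x _ => hUexp x⟩
      rwa [Subgroup.card_top] at this
    · obtain ⟨n, hn⟩ := hUp.exists_card_eq
      have hn3 : n ≤ 3 := by
        rw [hn] at hU3
        exact (Nat.pow_le_pow_iff_right hp.out.one_lt).1 hU3
      haveI : Nontrivial U := by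
        by_contra h
        rw [not_nontrivial_iff_subsingleton] at h
        exact hc ⟨⟨fun a b => Subsingleton.elim _ _⟩⟩
      haveI := hUp.center_nontrivial
      obtain ⟨c, hcU⟩ := (hUp.to_subgroup (Subgroup.center U)).exists_card_eq
      have hc1 : 1 ≤ c := by
        by_contra h0
        obtain rfl : c = 0 := by omega
        have := Finite.one_lt_card (α := Subgroup.center U)
        rw [hcU, pow_zero] at this
        omega
      obtain ⟨d, hd⟩ := (hUp.to_quotient (Subgroup.center U)).exists_card_eq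
      have hncyc : ¬ IsCyclic (U ⧸ Subgroup.center U) := fun hcyc => by
        haveI := hcyc
        exact hc ⟨⟨fun a b => commutative_of_cyclic_center_quotient (QuotientGroup.mk' (Subgroup.center U))
          (by rw [QuotientGroup.ker_mk']) a b⟩⟩
      have hd2 : 2 ≤ d := by
        by_contra h0
        rcases (show d = 0 ∨ d = 1 by omega) with rfl | rfl
        · rw [pow_zero] at hd
          haveI : Subsingleton (U ⧸ Subgroup.center U) := (Nat.card_eq_one_iff_unique.1 hd).1
          exact hncyc inferInstance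
        · rw [pow_one] at hd
          exact hncyc (isCyclic_of_prime_card hd)
      have hsum : n = d + c := by
        have := Subgroup.card_eq_card_quotient_mul_card_subgroup (Subgroup.center U)
        rw [hn, hd, hcU, ← pow_add] at this
        exact Nat.pow_right_injective hp.out.two_le this
      obtain rfl : c = 1 := by omega
      obtain rfl : d = 2 := by omega
      set Z := Subgroup.center U with hZ
      haveI : IsMulCommutative Z := ⟨⟨fun a b => Subtype.ext (mem_center_iff.1 b.2 a)⟩⟩
      let σZ : MulAut Z :=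
        (σU.subgroupMap Z).trans (MulEquiv.subgroupCongr (characteristic_iff_map_eq.1 inferInstance σU))
      let σQ : MulAut (U ⧸ Z) := QuotientGroup.congr _ _ σU (characteristic_iff_map_eq.1 inferInstance σU)
      have hZk : ∀ (j : ℕ) (x : Z), ((σZ ^ j) x : U) = (σU ^ j) x := by
        intro j x
        induction j with
        | zero => rfl
        | succ j ih => rw [pow_succ', MulAut.mul_apply, pow_succ', MulAut.mul_apply, ← ih]; rfl
      have hQk : ∀ (j : ℕ) (x : U), (σQ ^ j) (x : U ⧸ Z) = ((σU ^ j) x : U) := by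
        intro j x
        induction j with
        | zero => rfl
        | succ j ih => rw [pow_succ', MulAut.mul_apply, ih, pow_succ', MulAut.mul_apply]; rfl
      have hZ1 : σZ = 1 := by
        refine eq_one_of_card_le_sq (W := Z) hq (fun x => Subtype.ext (by simpa using hUexp (x : U))) ?_ hqp ⟨k, ?_⟩
        · rw [hcU]; exact Nat.pow_le_pow_right hp.out.pos (by norm_num)
        · exact MulEquiv.ext fun x => Subtype.ext (by rw [hZk, hσUk]; rfl)
      haveI : IsMulCommutative (U ⧸ Z) := IsPGroup.isMulCommutative_of_card_eq_prime_sq hd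
      have hQ1 : σQ = 1 := by
        refine eq_one_of_card_le_sq hq (fun x => ?_) hd.le hqp ⟨k, MulEquiv.ext fun x => ?_⟩
        · induction x using QuotientGroup.induction_on with
          | _ x => rw [← QuotientGroup.mk_pow, hUexp, QuotientGroup.mk_one]
        · induction x using QuotientGroup.induction_on with
          | _ x => rw [hQk, hσUk]; rfl
      refine eq_one_of_fix_series hUp Z σU hσUk hcop (fun z hz => ?_) fun x => ?_
      · exact congrArg Subtype.val (MulEquiv.congr_fun hZ1 ⟨z, hz⟩)
      · exact QuotientGroup.eq.1 (MulEquiv.congr_fun hQ1 (x : U ⧸ Z)).symm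
  -- from `U` to `H`
  have hH1 : σH = 1 := by
    let S := H ⋊[(zpowers σH).subtype] zpowers σH
    haveI : Finite S := Coprime.finite_semidirectProduct _
    have hle := Coprime.le_centralizer_of_fix_pow_eq_one (G := S) hp2
      (SemidirectProduct.inl : H →* S).range (SemidirectProduct.inr : zpowers σH →* S).range
      ((hT.to_subgroup H).of_equiv (MonoidHom.ofInjective SemidirectProduct.inl_injective))
      (Coprime.inr_range_le_normalizer_inl_range _) ?_ ?_
    · refine MulEquiv.ext fun x => ?_
      have h1 := mem_centralizer_iff.1 (hle ⟨⟨σH, mem_zpowers σH⟩, rfl⟩) (SemidirectProduct.inl x) ⟨x, rfl⟩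
      have h2 := SemidirectProduct.inl_aut (φ := (zpowers σH).subtype) ⟨σH, mem_zpowers σH⟩ x
      rw [← h1, map_inv, mul_inv_cancel_right] at h2
      exact SemidirectProduct.inl_injective h2
    · rw [Coprime.card_inr_range, Nat.card_zpowers]
      exact hcop.coprime_dvd_left (orderOf_dvd_of_pow_eq_one
        (MulEquiv.ext fun x => Subtype.ext (by rw [hHk, hk]; rfl)))
    · rintro _ ⟨x, rfl⟩ hxp _ ⟨a, rfl⟩
      rw [← map_pow] at hxp
      have hxU : x ∈ U := subset_closure (SemidirectProduct.inl_injective (hxp.trans (map_one _).symm))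
      have hfix1 : σH x = x := congrArg Subtype.val (MulEquiv.congr_fun hU1 ⟨x, hxU⟩)
      have hfix : (a : MulAut H) x = x := by
        have : (a : MulAut H) ∈ MulAction.stabilizer (MulAut H) x :=
          (zpowers_le.2 (show σH ∈ MulAction.stabilizer (MulAut H) x from hfix1)) a.2
        exact this
      rw [mem_centralizer_singleton_iff]
      have h2 := SemidirectProduct.inl_aut (φ := (zpowers σH).subtype) a x
      rw [show ((zpowers σH).subtype a) x = x from hfix, map_inv] at h2
      exact (mul_inv_eq_iff_eq_mul.1 h2.symm)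
  refine PGroup.aut_eq_one_of_centralizer_le hT H hC σ (hcop.coprime_dvd_left (orderOf_dvd_of_pow_eq_one hk))
    fun h hh => ?_
  exact congrArg Subtype.val (MulEquiv.congr_fun hH1 ⟨h, hh⟩)

end Cfsg.Agent.Homogeneous
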