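import Cfsg.Agent.Lib.Homogeneous.Transvection
import Cfsg.Agent.Lib.Homogeneous.RankTwo

/-!
# Odd primes dividing a perfect characteristic subgroup

If `p` is odd, `K` is perfect characteristic, `p ∣ |K|` and every isomorphism between `p`-subgroups extends,
then `K` contains every `p`-element.
-/

set_option autoImplicit false
set_option linter.style.haveILetI false

namespace Cfsg.Agent.Homogeneous

open Subgroup
open scoped IsMulCommutative

universe u
variable {G : Type u} [Group G] [Finite G] {p : ℕ} [hp : Fact p.Prime]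

theorem pow_prime_pow_of_dvd_sub_one {M : Type*} [Monoid M] {x : M} (hx : orderOf x ∣ p - 1) (a : ℕ) :
    x ^ p ^ a = x := by
  have h1 : p ≡ 1 [MOD orderOf x] := ((Nat.modEq_iff_dvd' hp.out.one_le).2 hx).symm
  have h2 : p ^ a ≡ 1 [MOD orderOf x] := by simpa using h1.pow a
  rw [← pow_mod_orderOf, h2, pow_mod_orderOf, pow_one]

/-- A fixed-point-free scalar in the automizer pushes a Sylow subgroup into `K`. -/
theorem sylow_le_of_scalar (hp2 : p ≠ 2) (h : IsoExt p G) {K E : Subgroup G} (hK : K.Characteristic)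
    (hE : MaxElemIn p K E) (P : Sylow p G) (hPE : (P : Subgroup G) ≤ normalizer (E : Set G))
    (hMne : autN K E ≠ ⊥) (hcase : ¬ p ∣ Nat.card (autN K E) ∨ Nat.card E = p ^ 2)
    (hpow : ∀ y ∈ (P : Subgroup G), y ^ p ∈ K → y ^ p ∈ centralizer (E : Set G))
    (hall : ∀ x : G, x ^ p = 1 → x ∈ K) : (P : Subgroup G) ≤ K := by
  haveI := hK
  haveI := hE.comm
  have hEpow : ∀ x : E, x ^ p = 1 := fun x => Subtype.ext (by simpa using hE.pow x x.2)
  obtain ⟨n, hn⟩ := hE.exists_card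
  have hn1 : 1 ≤ n := by
    by_contra h0
    obtain rfl : n = 0 := by omega
    rw [pow_zero, Subgroup.card_eq_one] at hn
    refine hMne (eq_bot_iff.2 fun σ _ => Subgroup.mem_bot.2 (MulEquiv.ext fun u => ?_))
    haveI : Subsingleton E := by rw [hn]; infer_instance
    exact Subsingleton.elim _ _
  obtain ⟨Φ, hΦ⟩ := exists_mulEquiv_GL (p := p) (E := E) hEpow hn
  haveI := autN_normal h hK (U := E) hE.isPGroup
  haveI : ((autN K E).map Φ.toMonoidHom).Normal := Subgroup.Normal.map inferInstance _ Φ.surjective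
  obtain ⟨c, hc1, hcM⟩ := exists_scalar_mem hp2 hn1 ((autN K E).map Φ.toMonoidHom)
    (fun e => hMne ((Subgroup.map_eq_bot_iff_of_injective _ Φ.injective).1 e))
    (hcase.imp (fun h1 => by rwa [card_map_of_injective Φ.injective]) fun h2 => by
      rw [hn] at h2
      exact Nat.pow_right_injective hp.out.two_le h2)
  obtain ⟨σ, hσA, hσc⟩ := hcM
  have hσc' : Φ σ = Matrix.GeneralLinearGroup.scalar (Fin n) c := hσc
  have hσapp : ∀ u : E, σ u = u ^ (c : ZMod p).val := hΦ σ c hσc'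
  have hσcen : ∀ τ : MulAut E, τ * σ = σ * τ := fun τ => Φ.injective (by
    rw [map_mul, map_mul, hσc']
    have hmem : Matrix.GeneralLinearGroup.scalar (Fin n) c ∈ Subgroup.center _ := by
      rw [Matrix.GeneralLinearGroup.center_eq_range_scalar]
      exact ⟨c, rfl⟩
    exact Subgroup.mem_center_iff.1 hmem _)
  have hσfree : ∀ u : E, σ u = u → u = 1 := by
    intro u hu
    rw [hσapp] at hu
    by_contra hu1
    have hou : orderOf u = p := orderOf_eq_prime (hEpow u) hu1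
    refine hc1 (Units.ext ?_)
    have h1 := (pow_eq_pow_iff_modEq (x := u) (n := (c : ZMod p).val) (m := 1)).1 (by rw [pow_one]; exact hu)
    rw [hou, ← ZMod.natCast_eq_natCast_iff, ZMod.natCast_zmod_val, Nat.cast_one] at h1
    rw [h1, Units.val_one]
  have hσord : orderOf σ ∣ p - 1 := by
    rw [← orderOf_injective Φ.toMonoidHom Φ.injective σ, show Φ.toMonoidHom σ = Φ σ from rfl, hσc']
    refine (orderOf_map_dvd _ c).trans ?_
    have := orderOf_dvd_natCard c
    rwa [Cfsg.Agent.GL.card_units_field, ZMod.card] at this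
  obtain ⟨g, hgK, hgE, hσg⟩ := mem_autN.1 hσA
  set ν := E.normalizerMonoidHom with hν
  have hνg : ν ⟨g, hgE⟩ = σ := MulEquiv.ext fun u => Subtype.ext (hσg u).symm
  -- the preimage of the image of `P`
  set T := K ⊔ (P : Subgroup G) with hT
  set L := (((((P : Subgroup G).subgroupOf (normalizer (E : Set G))).map ν).comap ν).map
    (normalizer (E : Set G)).subtype) ⊓ T with hL
  have hLmem : ∀ {x : G}, x ∈ L ↔ x ∈ T ∧ ∃ hx : x ∈ normalizer (E : Set G), ∃ y : normalizer (E : Set G),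
      (y : G) ∈ (P : Subgroup G) ∧ ν y = ν ⟨x, hx⟩ := by
    intro x
    refine ⟨?_, fun ⟨h1, h2, y, h3, h4⟩ => ⟨⟨⟨x, h2⟩, ⟨y, h3, h4⟩, rfl⟩, h1⟩⟩
    rintro ⟨⟨z, ⟨y, hy, hyz⟩, rfl⟩, hxT⟩
    exact ⟨hxT, z.2, y, hy, hyz⟩
  have hPL : (P : Subgroup G) ≤ L := fun x hx =>
    hLmem.2 ⟨mem_sup_right hx, hPE hx, ⟨x, hPE hx⟩, hx, rfl⟩
  have hPS : IsSylowIn p L P := ⟨hPL, P.2, fun Q hQ hle _ => P.3 hQ hle⟩
  have hgT : g ∈ T := mem_sup_left hgK
  have hgL : g ∈ normalizer (L : Set G) := mem_normalizer_fintype fun x hx => by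
    obtain ⟨hxT, hxn, y, hy, hyx⟩ := hLmem.1 hx
    have hgx : g * x * g⁻¹ ∈ normalizer (E : Set G) := mul_mem (mul_mem hgE hxn) (inv_mem hgE)
    refine hLmem.2 ⟨mul_mem (mul_mem hgT hxT) (inv_mem hgT), hgx, y, hy, ?_⟩
    rw [show (⟨g * x * g⁻¹, hgx⟩ : normalizer (E : Set G)) = ⟨g, hgE⟩ * ⟨x, hxn⟩ * ⟨g, hgE⟩⁻¹ from rfl,
      map_mul, map_mul, map_inv, hνg, ← hσcen, mul_inv_cancel_right, hyx]
  obtain ⟨l, hl, hlg⟩ := hPS.exists_mul_mem_normalizer hgL
  obtain ⟨hlT, hln, y, hy, hyl⟩ := hLmem.1 hl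
  obtain ⟨a, ha⟩ : ∃ a, (ν ⟨l, hln⟩) ^ p ^ a = 1 := by
    obtain ⟨a, ha⟩ := P.2 ⟨(y : G), hy⟩
    refine ⟨a, ?_⟩
    rw [← hyl, ← map_pow, show y ^ p ^ a = 1 from Subtype.ext (by simpa using congrArg Subtype.val ha), map_one]
  set g₁ := (l * g) ^ p ^ a with hg₁
  have hg₁E : g₁ ∈ normalizer (E : Set G) := pow_mem (mul_mem hln hgE) _
  have hνg₁ : ν ⟨g₁, hg₁E⟩ = σ := by
    rw [show (⟨g₁, hg₁E⟩ : normalizer (E : Set G)) = (⟨l, hln⟩ * ⟨g, hgE⟩) ^ p ^ a from rfl, map_pow, map_mul,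
      hνg, Commute.mul_pow (hσcen _), ha, one_mul, pow_prime_pow_of_dvd_sub_one hσord]
  obtain ⟨j, hj, hjx⟩ := exists_prime'_power hp.out g₁
  set g₂ := g₁ ^ j with hg₂
  have hg₂E : g₂ ∈ normalizer (E : Set G) := pow_mem hg₁E j
  have hσp : ¬ p ∣ orderOf σ := fun hd => by
    have := Nat.le_of_dvd (by have := hp.out.two_le; omega) (hd.trans hσord)
    have := hp.out.two_le
    omega
  have hνg₂ : ν ⟨g₂, hg₂E⟩ = σ := by
    rw [show (⟨g₂, hg₂E⟩ : normalizer (E : Set G)) = ⟨g₁, hg₁E⟩ ^ j from rfl, map_pow, hνg₁]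
    exact hjx σ (hνg₁ ▸ orderOf_normalizerMonoidHom_dvd hg₁E) hσp
  have hg₂P : g₂ ∈ normalizer ((P : Subgroup G) : Set G) := pow_mem (pow_mem hlg _) j
  have hg₂K : g₂ ∈ K := by
    have h1 : g₂ ∈ (P : Subgroup G) ⊔ K := sup_comm K (P : Subgroup G) ▸
      pow_mem (pow_mem (mul_mem hlT hgT) _) j
    set π := QuotientGroup.mk' K
    have hmem : π g₂ ∈ (P : Subgroup G).map π := by
      have h2 : ((P : Subgroup G) ⊔ K).map π = (P : Subgroup G).map π := by
        rw [Subgroup.map_sup, sup_eq_left]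
        rintro _ ⟨x, hx, rfl⟩
        rw [show π x = 1 from (QuotientGroup.eq_one_iff x).2 hx]
        exact one_mem _
      exact h2 ▸ mem_map_of_mem π h1
    obtain ⟨b, hb⟩ := P.2.exists_card_eq
    have h3 : orderOf (π g₂) ∣ p ^ b := by
      have := orderOf_dvd_natCard (⟨π g₂, hmem⟩ : (P : Subgroup G).map π)
      rw [Subgroup.orderOf_mk] at this
      exact this.trans (hb ▸ (P : Subgroup G).card_map_dvd π)
    exact (QuotientGroup.eq_one_iff g₂).1 (orderOf_eq_one_iff.1 (show orderOf (π g₂) = 1 from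
      Nat.eq_one_of_dvd_coprimes ((hp.out.coprime_iff_not_dvd.2 hj).pow_left b) h3 (orderOf_map_dvd π g₂)))
  by_contra hPK
  obtain ⟨x₀, hx₀, hx₀K⟩ := SetLike.not_le_iff_exists.1 hPK
  obtain ⟨x, hx, hxK, hxp⟩ : ∃ x ∈ (P : Subgroup G), x ∉ K ∧ x ^ p ∈ K := by
    obtain ⟨k, hk⟩ := P.2 ⟨x₀, hx₀⟩
    have hk' : x₀ ^ p ^ k ∈ K := by
      rw [show x₀ ^ p ^ k = 1 from congrArg Subtype.val hk]
      exact one_mem K
    clear hk
    induction k with
    | zero => exact absurd (by simpa using hk') hx₀K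
    | succ k ih =>
      by_cases hmem : x₀ ^ p ^ k ∈ K
      · exact ih hmem
      · exact ⟨x₀ ^ p ^ k, pow_mem hx₀ _, hmem, by rwa [← pow_mul, ← pow_succ]⟩
  set σP := (P : Subgroup G).normalizerMonoidHom ⟨g₂, hg₂P⟩ with hσP
  have hσPp : ¬ p ∣ orderOf σP := fun hd => hj (hd.trans (orderOf_normalizerMonoidHom_dvd hg₂P))
  obtain ⟨k, hkK, hfix⟩ := exists_fixed_lift P.2 σP hσPp (K := K.subgroupOf P)
    (fun y hy => (inferInstance : K.Normal).conj_mem _ hy g₂) (x := ⟨x, hx⟩) (by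
      show x⁻¹ * (g₂ * x * g₂⁻¹) ∈ K
      rw [show x⁻¹ * (g₂ * x * g₂⁻¹) = x⁻¹ * g₂ * x⁻¹⁻¹ * g₂⁻¹ by group]
      exact mul_mem ((inferInstance : K.Normal).conj_mem _ hg₂K x⁻¹) (inv_mem hg₂K))
  set w := x * (k : G) with hw
  have hwP : w ∈ (P : Subgroup G) := mul_mem hx k.2
  have hwfix : g₂ * w * g₂⁻¹ = w := congrArg Subtype.val hfix
  have hwK : w ∉ K := fun hwK => hxK (by
    rw [show x = w * (k : G)⁻¹ by rw [hw, mul_inv_cancel_right]]
    exact mul_mem hwK (inv_mem hkK))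
  have hwp : w ^ p ∈ K := by
    refine (QuotientGroup.eq_one_iff _).1 ?_
    rw [QuotientGroup.mk_pow, hw, QuotientGroup.mk_mul,
      (QuotientGroup.eq_one_iff (k : G)).2 hkK, mul_one, ← QuotientGroup.mk_pow]
    exact (QuotientGroup.eq_one_iff _).2 hxp
  have hwC := hpow w hwP hwp
  refine hwK (hall w ?_)
  by_contra hne
  obtain ⟨i, hi⟩ := P.2 ⟨w, hwP⟩
  obtain ⟨i', -, hi'⟩ := (Nat.dvd_prime_pow hp.out).1
    (orderOf_dvd_of_pow_eq_one (show (w ^ p) ^ p ^ i = 1 by
      rw [← pow_mul, mul_comm, pow_mul, show w ^ p ^ i = 1 from congrArg Subtype.val hi, one_pow]))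
  have hi1 : 1 ≤ i' := by
    by_contra h0
    rw [show i' = 0 by omega, pow_zero, orderOf_eq_one_iff] at hi'
    exact hne hi'
  set z := (w ^ p) ^ p ^ (i' - 1) with hz
  have hzp : z ^ p = 1 := by
    rw [hz, ← pow_mul, ← pow_succ, show i' - 1 + 1 = i' by omega, ← hi', pow_orderOf_eq_one]
  have hz1 : z ≠ 1 := fun e1 => by
    have := orderOf_dvd_of_pow_eq_one e1
    rw [hi', Nat.pow_dvd_pow_iff_le_right hp.out.one_lt] at this
    omega
  have hzE : z ∈ E := hE.max z (pow_mem hwp _) (pow_mem hwC _) hzp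
  have hzfix : g₂ * z * g₂⁻¹ = z := by rw [hz, ← pow_mul, ← conj_pow, hwfix]
  refine hz1 (congrArg Subtype.val (hσfree ⟨z, hzE⟩ (Subtype.ext ?_)))
  rw [← hνg₂]
  exact hzfix

/-- All `p`-elements lie in a perfect characteristic subgroup of order divisible by `p`, `p` odd. -/
theorem mem_of_odd_prime_pow (hp2 : p ≠ 2) (h : IsoExt p G) {K : Subgroup G} (hK : K.Characteristic)
    (hperf : Group.IsPerfect K) (hdiv : p ∣ Nat.card K) {x : G} (hx : ∃ k : ℕ, x ^ p ^ k = 1) : x ∈ K := by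
  haveI := hK
  have hall : ∀ y : G, y ^ p = 1 → y ∈ K := fun y hy => by
    by_cases hy1 : y = 1
    · rw [hy1]; exact one_mem K
    · obtain ⟨z, hz⟩ := exists_prime_orderOf_dvd_card' (G := K) p hdiv
      exact h.mem_of_orderOf_eq hK (k := 1) z.2 (by rw [pow_one, Subgroup.orderOf_coe, hz])
        (by rw [pow_one, orderOf_eq_prime hy hy1])
  have hbot : ∀ {E : Subgroup G}, MaxElemIn p K E → autN K E ≠ ⊥ := fun hE hb =>
    not_hasNormalPComplement_of_isPerfect hperf hdiv (hE.hasNormalPComplement hp2 hb)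
  suffices hP : ∃ P : Sylow p G, (P : Subgroup G) ≤ K by
    obtain ⟨P, hPK⟩ := hP
    obtain ⟨k, hk⟩ := hx
    have hpx : IsPGroup p (zpowers x) := by
      obtain ⟨b, -, hb⟩ := (Nat.dvd_prime_pow hp.out).1 (orderOf_dvd_of_pow_eq_one hk)
      exact IsPGroup.of_card (n := b) (by rw [Nat.card_zpowers, hb])
    obtain ⟨Q, hQ⟩ := hpx.exists_le_sylow
    obtain ⟨g, hg⟩ := MulAction.exists_smul_eq G P Q
    have h1 : x ∈ ((g • P : Sylow p G) : Subgroup G) := hg.symm ▸ hQ (mem_zpowers x)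
    rw [Sylow.smul_def] at h1
    obtain ⟨y, hy, rfl⟩ := h1
    exact (inferInstance : K.Normal).conj_mem y (hPK hy) g
  obtain ⟨E, hE, hmax⟩ := exists_maxCard p K
  haveI := hE.comm
  obtain ⟨n, hn⟩ := hE.exists_card
  obtain ⟨P, hEP⟩ := hE.isPGroup.exists_le_sylow
  refine ⟨P, ?_⟩
  have hS := isSylowIn_inf P K
  have hES : E ≤ (P : Subgroup G) ⊓ K := le_inf hEP hE.le
  have hPS : ∀ y ∈ (P : Subgroup G), y ∈ normalizer (((P : Subgroup G) ⊓ K : Subgroup G) : Set G) :=
    fun y hy => mem_normalizer_fintype fun z hz =>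
      ⟨(P : Subgroup G).mul_mem ((P : Subgroup G).mul_mem hy hz.1) ((P : Subgroup G).inv_mem hy), (inferInstance : K.Normal).conj_mem z hz.2 y⟩
  by_cases hA : p ∣ Nat.card (autN K E)
  · rcases (show n ≤ 1 ∨ n = 2 ∨ 3 ≤ n by omega) with h1 | rfl | h3
    · exfalso
      have hEpow : ∀ x : E, x ^ p = 1 := fun x => Subtype.ext (by simpa using hE.pow x x.2)
      obtain ⟨Φ, -⟩ := exists_mulEquiv_GL (p := p) (E := E) hEpow hn
      have hd : p ∣ Nat.card (MulAut E) := hA.trans (card_subgroup_dvd_card _)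
      rw [Nat.card_congr Φ.toEquiv] at hd
      rcases (show n = 0 ∨ n = 1 by omega) with rfl | rfl
      · rw [Nat.card_unique] at hd
        exact hp.out.not_dvd_one hd
      · rw [Matrix.card_GL_field] at hd
        simp only [Fin.prod_univ_one, ZMod.card, pow_one, Fin.val_zero, pow_zero] at hd
        have := hp.out.two_le
        have := Nat.le_of_dvd (by omega) hd
        omega
    · -- a normal elementary abelian subgroup of order `p²`
      have hnc : ¬ IsCyclic ((P : Subgroup G) ⊓ K : Subgroup G) := fun hc => by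
        haveI := hc
        haveI : IsCyclic E := isCyclic_of_injective (inclusion hES) (inclusion_injective hES)
        obtain ⟨w, hw⟩ := IsCyclic.exists_ofOrder_eq_natCard (α := E)
        have := Nat.le_of_dvd hp.out.pos
          (hw ▸ orderOf_dvd_of_pow_eq_one (Subtype.ext (by simpa using hE.pow _ w.2)) : Nat.card E ∣ p)
        rw [hn] at this
        nlinarith [hp.out.two_le]
      set N := ((P : Subgroup G) ⊓ K).subgroupOf (P : Subgroup G) with hN
      haveI : N.Normal := ⟨fun z hz y => ⟨(y * z * y⁻¹).2, (inferInstance : K.Normal).conj_mem _ hz.2 _⟩⟩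
      obtain ⟨E', hE'N, hE'n, hE'c, hE'p, hE'card⟩ := exists_normal_elementary_sq P.2 hp2 N fun hc => hnc (by
        haveI := hc
        exact isCyclic_of_surjective _ (subgroupOfEquivOfLe inf_le_left).surjective)
      set E₂ := E'.map (P : Subgroup G).subtype with hE₂
      have hcard₂ : Nat.card E₂ = p ^ 2 := by
        rw [hE₂, card_map_of_injective (P : Subgroup G).subtype_injective, hE'card]
      have hE₂K : E₂ ≤ K := by
        rintro _ ⟨z, hz, rfl⟩
        exact (hE'N hz).2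
      haveI := hE'c
      have hmax₂ : MaxElemIn p K E₂ := maxElemIn_of_card_max hE₂K inferInstance
        (by rintro _ ⟨z, hz, rfl⟩; rw [← map_pow, hE'p z hz, map_one])
        fun A h1 h2 h3 => (hmax A h1 h2 h3).trans (le_of_eq (hn.trans hcard₂.symm))
      haveI := hmax₂.comm
      refine sylow_le_of_scalar hp2 h hK hmax₂ P ?_ (hbot hmax₂) (Or.inr hcard₂) ?_ hall
      · intro y hy
        refine mem_normalizer_fintype ?_
        rintro _ ⟨z, hz, rfl⟩
        exact ⟨⟨y, hy⟩ * z * ⟨y, hy⟩⁻¹, hE'n.conj_mem z hz _, rfl⟩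
      · intro y hy _
        have hyn : y ∈ normalizer (E₂ : Set G) := by
          refine mem_normalizer_fintype ?_
          rintro _ ⟨z, hz, rfl⟩
          exact ⟨⟨y, hy⟩ * z * ⟨y, hy⟩⁻¹, hE'n.conj_mem z hz _, rfl⟩
        set τ := E₂.normalizerMonoidHom ⟨y, hyn⟩ with hτ
        obtain ⟨k, hk⟩ := P.2 ⟨y, hy⟩
        obtain ⟨b, -, hb⟩ := (Nat.dvd_prime_pow hp.out).1 ((orderOf_normalizerMonoidHom_dvd hyn).trans
          (orderOf_dvd_of_pow_eq_one (congrArg Subtype.val hk)))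
        obtain ⟨Φ, -⟩ := exists_mulEquiv_GL (p := p) (E := E₂)
          (fun x => Subtype.ext (by simpa using hmax₂.pow x x.2)) hcard₂
        have hd : orderOf τ ∣ p * (p - 1) * (p ^ 2 - 1) := by
          have := orderOf_dvd_natCard τ
          rwa [Nat.card_congr Φ.toEquiv, Cfsg.Agent.GL.card_GL2, ZMod.card] at this
        rw [hb] at hd
        have hb1 : b ≤ 1 := by
          by_contra hb2
          have h2 : p * p ∣ p * ((p - 1) * (p ^ 2 - 1)) := by
            rw [← mul_assoc, ← pow_two]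
            exact (pow_dvd_pow p (by omega)).trans hd
          have h3 := Nat.dvd_of_mul_dvd_mul_left hp.out.pos h2
          rcases hp.out.dvd_mul.1 h3 with h4 | h4
          · have := Nat.le_of_dvd (by have := hp.out.two_le; omega) h4
            have := hp.out.two_le
            omega
          · have h5 : p ∣ p ^ 2 := dvd_pow_self p (by norm_num)
            have h6 : p ∣ p ^ 2 - (p ^ 2 - 1) := Nat.dvd_sub h5 h4
            have h7 : 1 ≤ p ^ 2 := Nat.one_le_pow _ _ hp.out.pos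
            rw [show p ^ 2 - (p ^ 2 - 1) = 1 by omega] at h6
            exact hp.out.not_dvd_one h6
        have hτp : τ ^ p = 1 := orderOf_dvd_iff_pow_eq_one.1 (hb ▸ (pow_dvd_pow p hb1).trans (pow_one p).dvd)
        rw [hτ, ← map_pow] at hτp
        rw [mem_centralizer_iff]
        intro u hu
        have h4 : y ^ p * u * (y ^ p)⁻¹ = u :=
          congrArg Subtype.val (MulEquiv.congr_fun hτp ⟨u, hu⟩)
        exact (mul_inv_eq_iff_eq_mul.1 h4).symm
    · exact absurd hA (not_dvd_autN_of_three_le hp2 h hK hE hmax hn h3)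
  · exact sylow_le_of_scalar hp2 h hK hE P (fun y hy => hE.mem_normalizer_of_sylow hA hS hES (hPS y hy))
      (hbot hE) (Or.inl hA) (fun y hy hyK => hE.sylow_le_centralizer hA hS hES ⟨pow_mem hy p, hyK⟩) hall

end Cfsg.Agent.Homogeneous
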