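import Cfsg.Agent.Lib.Homogeneous.MaxElementary
import Cfsg.Agent.Lib.Homogeneous.Linear
import Cfsg.Agent.Lib.OutSolvable.Main

/-!
# No maximal elementary abelian 2-subgroup of rank at least 3 has full automizer

Hence its automizer is trivial.
-/

set_option autoImplicit false
set_option linter.style.haveILetI false

namespace Cfsg.Agent.Homogeneous

open Subgroup
open scoped IsMulCommutative commutatorElement

variable {G : Type*} [Group G] [Finite G]

/-- An automorphism of 2-power-free order of a group of order 4 with no nontrivial fixed point permutes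
the three nontrivial elements. -/
theorem four_elements {W : Type*} [CommGroup W] [Finite W] (h4 : Nat.card W = 4) (hsq : ∀ w : W, w ^ 2 = 1)
    {a b c : W} (ha : a ≠ 1) (hc : c ≠ 1) (hab : a ≠ b) (hbc : b ≠ c) (hac : a ≠ c)
    (hb : b ≠ 1) : c = a * b := by
  classical
  letI := Fintype.ofFinite W
  have h4' : Fintype.card W = 4 := by rw [← Nat.card_eq_fintype_card, h4]
  have hu : (Finset.univ : Finset W) = {1, a, b, c} := by
    refine (Finset.eq_of_subset_of_card_le (Finset.subset_univ _) ?_).symm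
    rw [Finset.card_univ, h4']
    simp [hab, hbc, hac, Ne.symm ha, Ne.symm hb, Ne.symm hc]
  have hm : a * b ∈ ({1, a, b, c} : Finset W) := hu ▸ Finset.mem_univ _
  simp only [Finset.mem_insert, Finset.mem_singleton] at hm
  rcases hm with h | h | h | h
  · exfalso
    apply hab
    calc a = a * (b * b) := by rw [← pow_two, hsq, mul_one]
      _ = b := by rw [← mul_assoc, h, one_mul]
  · exact absurd (mul_eq_left.1 h) hb
  · exact absurd (mul_eq_right.1 h) ha
  · exact h.symm

theorem eq_one_of_card_four {W : Type*} [Group W] [Finite W] (h4 : Nat.card W ≤ 4) {r : ℕ} (hr : r.Prime)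
    (h5 : 5 ≤ r) {s : MulAut W} (hs : ∃ a, orderOf s ∣ r ^ a) : s = 1 := by
  obtain ⟨a, ha⟩ := hs
  have h1 : orderOf s ∣ Nat.factorial (Nat.card W - 1) := (orderOf_dvd_natCard s).trans OutSolvable.card_perm_dvd
  have h2 : orderOf s ∣ Nat.factorial 3 := h1.trans (Nat.factorial_dvd_factorial (by omega))
  have hco : (r ^ a).Coprime (Nat.factorial 3) := by
    refine Nat.Coprime.pow_left a ((hr.coprime_iff_not_dvd).2 fun h => ?_)
    have := (hr.dvd_factorial).1 h
    omega
  exact orderOf_eq_one_iff.1 (Nat.dvd_one.1 (hco ▸ Nat.dvd_gcd ha h2))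

/-- The setting: `E = H × ⟨e⟩`, `T` a Sylow 2-subgroup of `C_N(H)` containing `E` properly. -/
structure HyperplaneSetting (N E H T : Subgroup G) (e : G) (m : ℕ) : Prop where
  le : H ≤ E
  card : Nat.card H = 2 ^ m
  two_le : 2 ≤ m
  mem : e ∈ E
  not_mem : e ∉ H
  decomp : ∀ x ∈ E, x ∈ H ∨ x * e ∈ H
  sylow : IsSylowIn 2 (N ⊓ centralizer (H : Set G)) T
  le_T : E ≤ T
  ne_T : T ≠ E
  cent : ∀ t ∈ T, t * e = e * t → t ∈ E

namespace HyperplaneSetting

variable {N E H T : Subgroup G} {e : G} {m : ℕ} (hS : HyperplaneSetting N E H T e m) (hE : IsMaxElem N E)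

include hS in
theorem centralSub (hsq : ∀ x ∈ E, x ^ 2 = 1) : CentralSub 2 T H :=
  ⟨hS.le.trans hS.le_T, fun _ hz _ hx => mem_centralizer_iff.1 (hS.sylow.le hx).2 _ hz,
    fun z hz => hsq z (hS.le hz)⟩

include hS hE in
theorem card_range_dHom_le [IsMulCommutative H] (hc : CentralSub 2 T H) :
    Nat.card (dHom hc).range ≤ Nat.card H * 2 ∧
    ((⟨e, hS.le_T hS.mem⟩ : T) ∈ wKer 2 T H → Nat.card (dHom hc).range ≤ 2) := by
  set eT : T := ⟨e, hS.le_T hS.mem⟩ with heT
  let f : ySub hc →* H := (Pi.evalMonoidHom (fun _ : T => H) eT).comp (dHom hc)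
  have heY : eT ∈ ySub hc ∨ ¬ eT ∈ ySub hc := em _
  have hfk : ∀ y ∈ f.ker, ((y : T) : G) ∈ E := by
    intro y hy
    refine hS.cent _ (y : T).2 ?_
    exact commutatorElement_eq_one_iff_mul_comm.1 (congrArg Subtype.val (MonoidHom.mem_ker.1 hy))
  have hker : Nat.card (f.ker.map (dHom hc)) ≤ 2 := by
    classical
    -- the image is contained in a set of at most two functions
    let S : Set (T → H) := {1} ∪ {d | ∀ x : T, (d x : G) = ⁅e, (x : G)⁆}
    have hsub : ((f.ker.map (dHom hc) : Subgroup (T → H)) : Set (T → H)) ⊆ S := by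
      rintro _ ⟨y, hy, rfl⟩
      rcases hS.decomp _ (hfk y hy) with h | h
      · refine Or.inl (funext fun x => Subtype.ext ?_)
        exact commutatorElement_eq_one_iff_mul_comm.2 (hc.comm _ h _ x.2)
      · refine Or.inr fun x => ?_
        have hee : e⁻¹ = e := inv_eq_of_mul_eq_one_right (by rw [← pow_two]; exact hE.sq e hS.mem)
        set z := ((y : T) : G) * e with hz
        have hy' : ((y : T) : G) = z * e := by
          rw [hz, mul_assoc, ← pow_two, hE.sq e hS.mem, mul_one]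
        rw [coe_dHom, hy']
        have h1 : ⁅z * e, (x : G)⁆ = z * ⁅e, (x : G)⁆ * z⁻¹ * ⁅z, (x : G)⁆ := by
          simp only [commutatorElement_def]; group
        rw [h1, commutatorElement_eq_one_iff_mul_comm.2 (hc.comm _ h _ x.2), mul_one]
        have h2 : z * ⁅e, (x : G)⁆ = ⁅e, (x : G)⁆ * z :=
          hc.comm _ h _ (by
            rw [commutatorElement_def]
            exact mul_mem (mul_mem (mul_mem eT.2 x.2) (inv_mem eT.2)) (inv_mem x.2))
        rw [h2, mul_inv_cancel_right]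
    have hfin : S.ncard ≤ 2 := by
      refine (Set.ncard_union_le _ _).trans ?_
      rw [Set.ncard_singleton]
      have : {d : T → H | ∀ x : T, (d x : G) = ⁅e, (x : G)⁆}.ncard ≤ 1 :=
        (Set.ncard_le_one (Set.toFinite _)).2 fun a ha b hb => funext fun x => Subtype.ext ((ha x).trans (hb x).symm)
      omega
    rw [← Nat.card_coe_set_eq] at hfin
    exact (Nat.card_le_card_of_injective (fun d : ↥(f.ker.map (dHom hc)) => (⟨d.1, hsub d.2⟩ : S))
      fun a b h => Subtype.ext (congrArg (fun v : S => (v : T → H)) h)).trans hfin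
  refine ⟨(card_range_le_mul f (dHom hc)).trans ?_, fun hw => ?_⟩
  · exact Nat.mul_le_mul (Subgroup.card_le_card_group _) hker
  · have hf1 : f.range = ⊥ := by
      rw [eq_bot_iff]
      rintro _ ⟨y, rfl⟩
      exact Subgroup.mem_bot.2 (dHom_apply_eq_one hc y hw)
    have := card_range_le_mul f (dHom hc)
    rw [hf1, Subgroup.card_bot, one_mul] at this
    exact this.trans hker

variable {g : G} (hgN : g ∈ N) (hgT : g ∈ normalizer (T : Set G)) (hgH : g ∈ normalizer (H : Set G))
  (hodd : Odd (orderOf g))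

include hS hE hodd in
/-- `g` acts nontrivially on `T / HΦ(T)`. -/
theorem wAut_ne_one [IsMulCommutative H] (htrans : ∀ a b : H, a ≠ 1 → b ≠ 1 → ∃ k : ℕ, ((H.normalizerMonoidHom ⟨g, hgH⟩) ^ k) a = b) :
    wAut 2 T H g hgT hgH ≠ 1 := by
  haveI : Fact (Nat.Prime 2) := ⟨Nat.prime_two⟩
  intro hw
  have hH4 : 4 ≤ Nat.card H := by
    rw [hS.card]
    calc 4 = 2 ^ 2 := by norm_num
      _ ≤ 2 ^ m := Nat.pow_le_pow_right (by norm_num) hS.two_le
  have hHT : H ≤ T := hS.le.trans hS.le_T
  have hHc : ∀ z ∈ H, ∀ x ∈ T, z * x = x * z := fun z hz x hx => mem_centralizer_iff.1 (hS.sylow.le hx).2 _ hz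
  set σP := T.normalizerMonoidHom ⟨g, hgT⟩ with hσP
  have hσodd : ¬ 2 ∣ orderOf σP := fun hd =>
    Nat.not_even_iff_odd.2 hodd (even_iff_two_dvd.2 (hd.trans (orderOf_normalizerMonoidHom_dvd hgT)))
  set C := fixSub σP with hC
  have htop : H.subgroupOf T ⊔ C = ⊤ := by
    have h1 : (H.subgroupOf T ⊔ C) ⊔ frattini T = ⊤ := by
      rw [eq_top_iff]
      intro x _
      obtain ⟨b, hb, hfx⟩ := exists_fixed_lift hS.sylow.isP σP hσodd (K := wKer 2 T H)
        (fun y hy => (QuotientGroup.eq_one_iff _).1 ((wAut_mk hgT hgH y).symm.trans (by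
          rw [(QuotientGroup.eq_one_iff y).2 hy, map_one])))
        (x := x) (QuotientGroup.eq.1 ((MulEquiv.congr_fun hw _).symm.trans (wAut_mk hgT hgH x)))
      have hb' : b⁻¹ ∈ H.subgroupOf T ⊔ frattini T := by
        rw [PGroup.frattini_eq hS.sylow.isP, ← sup_assoc]
        exact inv_mem hb
      rw [show x = (x * b) * b⁻¹ by group]
      exact mul_mem (mem_sup_left (mem_sup_right hfx))
        ((sup_le_sup_right le_sup_left _ : H.subgroupOf T ⊔ frattini T ≤ _) hb')
    exact frattini_nongenerating h1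
  have hHn : (H.subgroupOf T).Normal := ⟨fun n hn x => by
    rw [mem_subgroupOf] at hn ⊢
    rw [Subgroup.coe_mul, Subgroup.coe_mul, Subgroup.coe_inv, ← hHc _ hn _ x.2, mul_inv_cancel_right]
    exact hn⟩
  have hdec : ∀ t : T, ∃ z ∈ H.subgroupOf T, ∃ c ∈ C, t = z * c := fun t => by
    obtain ⟨z, hz, c, hc, hzc⟩ := mem_sup_of_normal_left.1 (htop ▸ mem_top t : t ∈ H.subgroupOf T ⊔ C)
    exact ⟨z, hz, c, hc, hzc.symm⟩
  -- no fixed points on `H`
  have hCH : ∀ c ∈ C, (c : G) ∈ H → c = 1 := by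
    intro c hc hcH
    by_contra hc1
    set a : H := ⟨c, hcH⟩ with ha
    have ha1 : a ≠ 1 := fun e => hc1 (Subtype.ext (congrArg (Subtype.val : H → G) e))
    have hfix : H.normalizerMonoidHom ⟨g, hgH⟩ a = a :=
      Subtype.ext ((congrArg Subtype.val (mem_fixSub.1 hc) :))
    have hall : ∀ b : H, b ≠ 1 → b = a := fun b hb => by
      obtain ⟨k, rfl⟩ := htrans a b ha1 hb
      clear hb
      induction k with
      | zero => rfl
      | succ k ih => rw [pow_succ, MulAut.mul_apply, hfix, ih]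
    classical
    letI := Fintype.ofFinite H
    have hle : (Finset.univ : Finset H) ⊆ {1, a} := fun b _ => by
      rcases eq_or_ne b 1 with rfl | hb
      · simp
      · simp [hall b hb]
    have := (Finset.card_le_card hle).trans Finset.card_le_two
    rw [Finset.card_univ, ← Nat.card_eq_fintype_card] at this
    omega
  obtain ⟨zH, hzH, c, hcC, hec⟩ := hdec ⟨e, hS.le_T hS.mem⟩
  have heG : e = (zH : G) * c := congrArg Subtype.val hec
  -- the centraliser of `c` in `C` is in `⟨c⟩`
  have hcc : ∀ x ∈ C, (x : G) * c = c * x → x = 1 ∨ x = c := by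
    intro x hx hxc
    have hxe : (x : G) * e = e * x := by
      rw [heG, ← mul_assoc, ← hHc (zH : G) hzH _ x.2, mul_assoc, hxc, mul_assoc]
    rcases hS.decomp _ (hS.cent _ x.2 hxe) with h | h
    · exact Or.inl (hCH x hx h)
    · refine Or.inr ?_
      have h1 : ((x * c : T) : G) ∈ H := by
        have : ((x * c : T) : G) = (x : G) * e * (zH : G)⁻¹ := by
          rw [Subgroup.coe_mul, heG, mul_assoc _ ((zH : G) * c), hHc (zH : G) hzH _ c.2, mul_inv_cancel_right]
        rw [this]
        exact mul_mem h (inv_mem hzH)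
      have h2 := hCH _ (mul_mem hx hcC) h1
      have hcsq : (c : G) * c = 1 := by
        have hh := hE.sq e hS.mem
        rw [pow_two, heG, mul_assoc, ← mul_assoc (c : G) (zH : G), ← hHc (zH : G) hzH _ c.2, mul_assoc,
          ← mul_assoc, ← pow_two, hE.sq (zH : G) (hS.le hzH), one_mul] at hh
        exact hh
      refine Subtype.ext ?_
      have h3 : (x : G) * c = 1 := congrArg Subtype.val h2
      exact (mul_eq_one_iff_eq_inv.1 h3).trans (inv_eq_of_mul_eq_one_right hcsq)
  haveI : Nontrivial C := by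
    refine (Subgroup.nontrivial_iff_ne_bot C).2 fun hb => hS.not_mem ?_
    have : c = 1 := Subgroup.mem_bot.1 (hb ▸ hcC)
    rw [heG, this, Subgroup.coe_one, mul_one]
    exact hzH
  haveI := (hS.sylow.isP.to_subgroup C).center_nontrivial
  obtain ⟨⟨z, hz⟩, hz1⟩ := exists_ne (1 : center C)
  have hzc : (z : T) = c := by
    refine (hcc _ z.2 ?_).resolve_left fun h => hz1 (Subtype.ext (Subtype.ext h))
    exact (congrArg (fun v : C => ((v : T) : G)) (Subgroup.mem_center_iff.1 hz ⟨c, hcC⟩)).symm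
  have hall : ∀ x ∈ C, x = 1 ∨ x = c := fun x hx => hcc x hx (by
    have := congrArg (fun v : C => ((v : T) : G)) (Subgroup.mem_center_iff.1 hz ⟨x, hx⟩)
    simpa [hzc] using this)
  refine hS.ne_T (le_antisymm (fun t ht => ?_) hS.le_T)
  obtain ⟨z', hz', c', hc', htc⟩ := hdec ⟨t, ht⟩
  have htG : t = (z' : G) * c' := congrArg Subtype.val htc
  rw [htG]
  refine mul_mem (hS.le hz') ?_
  rcases hall c' hc' with rfl | rfl
  · exact E.one_mem
  · rw [show ((c' : T) : G) = (zH : G)⁻¹ * e by rw [heG, inv_mul_cancel_left]]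
    exact mul_mem (inv_mem (hS.le hzH)) hS.mem

include hS hE hgN hodd in
theorem count (h : IsoExt 2 G) (hN : N.Characteristic)
    (htrans : ∀ a b : H, a ≠ 1 → b ≠ 1 → ∃ k : ℕ, ((H.normalizerMonoidHom ⟨g, hgH⟩) ^ k) a = b)
    [IsMulCommutative H] (hc : CentralSub 2 T H) :
    Nat.card (WQuot 2 T H) ^ m * Nat.card (fixSub (wAut 2 T H g hgT hgH))
      ≤ Nat.card (WQuot 2 T H) * (2 ^ m * 2) ∧ 4 ≤ Nat.card (WQuot 2 T H) := by
  haveI : Fact (Nat.Prime 2) := ⟨Nat.prime_two⟩
  refine ⟨?_, ?_⟩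
  · have hlt : 2 < Nat.card H := by
      rw [hS.card]
      calc 2 < 2 ^ 2 := by norm_num
        _ ≤ 2 ^ m := Nat.pow_le_pow_right (by norm_num) hS.two_le
    refine (card_wQuot_pow_le h hN hS.sylow.isP hc hgN hgT hgH hS.sylow.innerHyp hS.card htrans hlt).trans ?_
    refine Nat.mul_le_mul_left _ ?_
    have := (hS.card_range_dHom_le hE hc).1
    rwa [hS.card] at this
  · obtain ⟨k, hk⟩ := IsPGroup.iff_card.1 (hS.sylow.isP.to_quotient (wKer 2 T H))
    have hk2 : 2 ≤ k := by
      by_contra hlt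
      refine hS.wAut_ne_one hE hgT hgH hodd htrans ?_
      set s := wAut 2 T H g hgT hgH with hs
      have h1 : orderOf s ∣ Nat.factorial (Nat.card (WQuot 2 T H) - 1) :=
        (orderOf_dvd_natCard s).trans OutSolvable.card_perm_dvd
      have h2 : Nat.card (WQuot 2 T H) ≤ 2 := by
        rw [hk]
        calc 2 ^ k ≤ 2 ^ 1 := Nat.pow_le_pow_right (by norm_num) (by omega)
          _ = 2 := by norm_num
      have h3 : Nat.factorial (Nat.card (WQuot 2 T H) - 1) = 1 :=
        Nat.factorial_eq_one.2 (by omega)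
      rw [h3, Nat.dvd_one, orderOf_eq_one_iff] at h1
      exact h1
    rw [hk]
    calc 4 = 2 ^ 2 := by norm_num
      _ ≤ 2 ^ k := Nat.pow_le_pow_right (by norm_num) hk2

end HyperplaneSetting

/-- The case `|H| = 4`, `|T / HΦ(T)| = 4`. -/
theorem HyperplaneSetting.false_of_four {N E H T : Subgroup G} {e : G}
    (hS : HyperplaneSetting N E H T e 2) (hE : IsMaxElem N E) [IsMulCommutative H]
    (hc : CentralSub 2 T H) {g : G} (hgT : g ∈ normalizer (T : Set G)) (hgH : g ∈ normalizer (H : Set G))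
    (hodd : Odd (orderOf g)) (h3 : ∃ a, orderOf g ∣ 3 ^ a)
    (htrans : ∀ a b : H, a ≠ 1 → b ≠ 1 → ∃ k : ℕ, ((H.normalizerMonoidHom ⟨g, hgH⟩) ^ k) a = b)
    (hW : Nat.card (WQuot 2 T H) = 4)
    (he : (⟨e, hS.le_T hS.mem⟩ : T) ∉ wKer 2 T H) : False := by
  haveI : Fact (Nat.Prime 2) := ⟨Nat.prime_two⟩
  haveI : Fact (Nat.Prime 3) := ⟨Nat.prime_three⟩
  have hne := hS.wAut_ne_one hE hgT hgH hodd htrans
  set σP := T.normalizerMonoidHom ⟨g, hgT⟩ with hσP
  set s := wAut 2 T H g hgT hgH with hs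
  have hss : ∀ x : T, s (x : WQuot 2 T H) = ((σP x : T) : WQuot 2 T H) := fun x => wAut_mk hgT hgH x
  obtain ⟨a3, ha3⟩ := h3
  have hs3 : s ^ (3 ^ a3) = 1 := MulEquiv.ext fun w => by
    induction w using QuotientGroup.induction_on with
    | _ x =>
      have hk : ∀ k : ℕ, (s ^ k) (x : WQuot 2 T H) = (((σP ^ k) x : T) : WQuot 2 T H) := by
        intro k
        induction k with
        | zero => rfl
        | succ k ih => rw [pow_succ', MulAut.mul_apply, ih, hss, pow_succ', MulAut.mul_apply]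
      rw [hk, orderOf_dvd_iff_pow_eq_one.1 ((orderOf_normalizerMonoidHom_dvd hgT).trans ha3)]
      rfl
  -- no fixed points on `W`
  have hfixW : ∀ w, s w = w → w = 1 := by
    intro w hw
    by_contra hw1
    refine hne (MulEquiv.ext fun v => ?_)
    by_contra hv
    change s v ≠ v at hv
    have hv1 : v ≠ 1 := fun e => hv (by rw [e, map_one])
    have hwv : w ≠ v := fun e => hv (e ▸ hw)
    have hsv1 : s v ≠ 1 := fun e => hv1 ((map_eq_one_iff s s.injective).1 e)
    have hwsv : w ≠ s v := fun e => hwv (s.injective (hw.trans e))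
    have hsv : s v = w * v := four_elements hW (wQuot_pow 2 T H) hw1 hsv1 hwv (Ne.symm hv) hwsv hv1
    have hs2 : s (s v) = v := by
      rw [hsv, map_mul, hw, hsv, ← mul_assoc, ← pow_two, wQuot_pow, one_mul]
    obtain ⟨q, hq⟩ : Odd (3 ^ a3) := Odd.pow (by decide)
    have hk : ∀ k : ℕ, (s ^ (2 * k)) v = v := by
      intro k
      induction k with
      | zero => rfl
      | succ k ih => rw [mul_add, mul_one, pow_add, MulAut.mul_apply, pow_two, MulAut.mul_apply, hs2, ih]
    have := MulEquiv.congr_fun hs3 v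
    rw [hq, pow_succ', MulAut.mul_apply, hk] at this
    exact hv this
  have hHc : ∀ z ∈ H, ∀ x ∈ T, z * x = x * z := hc.comm
  set eT : T := ⟨e, hS.le_T hS.mem⟩ with heT
  set a : WQuot 2 T H := (eT : WQuot 2 T H) with ha
  have ha1 : a ≠ 1 := fun h => he ((QuotientGroup.eq_one_iff eT).1 h)
  have hsa : s a ≠ a := fun h => ha1 (hfixW a h)
  have hsa1 : s a ≠ 1 := fun h => ha1 ((map_eq_one_iff s s.injective).1 h)
  have hsq : ∀ x : T, x * x = 1 → σP x * σP x = 1 := fun x hx => by rw [← map_mul, hx, map_one]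
  set e1 : T := σP eT with he1
  set f : T := σP e1 with hf
  have heT2 : eT * eT = 1 := Subtype.ext (show e * e = 1 by rw [← pow_two]; exact hE.sq e hS.mem)
  have he12 : e1 * e1 = 1 := hsq _ heT2
  have hf2 : f * f = 1 := hsq _ he12
  have hb : ((e1 : T) : WQuot 2 T H) = s a := (hss eT).symm
  have hfW : ((f : T) : WQuot 2 T H) = a * s a := by
    rw [hf, ← hss, hb]
    refine four_elements hW (wQuot_pow 2 T H) ha1 ?_ hsa.symm ?_ ?_ hsa1
    · exact fun h => hsa1 ((map_eq_one_iff s s.injective).1 h)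
    · exact fun h => hsa1 (hfixW _ h.symm)
    · intro h
      -- `s² a = a` and `s` has 3-power order
      obtain ⟨q, hq⟩ : Odd (3 ^ a3) := Odd.pow (by decide)
      have hk : ∀ k : ℕ, (s ^ (2 * k)) a = a := by
        intro k
        induction k with
        | zero => rfl
        | succ k ih => rw [mul_add, mul_one, pow_add, MulAut.mul_apply, pow_two, MulAut.mul_apply, ← h, ih]
      have := MulEquiv.congr_fun hs3 a
      rw [hq, pow_succ', MulAut.mul_apply, hk] at this
      exact hsa this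
  -- the dihedral quotient
  haveI hHn : (H.subgroupOf T).Normal := ⟨fun n hn x => by
    rw [mem_subgroupOf] at hn ⊢
    rw [Subgroup.coe_mul, Subgroup.coe_mul, Subgroup.coe_inv, ← hHc _ hn _ x.2, mul_inv_cancel_right]
    exact hn⟩
  set π := QuotientGroup.mk' (H.subgroupOf T) with hπ
  set ρ := π eT * π e1 with hρ
  have hgen : closure ({eT, e1} : Set T) ⊔ H.subgroupOf T = ⊤ := by
    refine frattini_nongenerating (eq_top_iff.2 fun x _ => ?_)
    have hx : (x : WQuot 2 T H) ∈ ({1, a, s a, a * s a} : Set (WQuot 2 T H)) := by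
      by_contra hx
      simp only [Set.mem_insert_iff, Set.mem_singleton_iff, not_or] at hx
      obtain ⟨h1, h2, h3, h4⟩ := hx
      exact h4 (four_elements hW (wQuot_pow 2 T H) ha1 h1 hsa.symm (Ne.symm h3) (Ne.symm h2) hsa1)
    have hw : wKer 2 T H ≤ (closure ({eT, e1} : Set T) ⊔ H.subgroupOf T) ⊔ frattini T := by
      rw [wKer, sup_assoc, ← PGroup.frattini_eq hS.sylow.isP]
      exact sup_le_sup_right le_sup_right _
    have key : ∀ y ∈ closure ({eT, e1} : Set T), (y : WQuot 2 T H) = (x : WQuot 2 T H) →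
        x ∈ (closure ({eT, e1} : Set T) ⊔ H.subgroupOf T) ⊔ frattini T := fun y hy hyx => by
      rw [show x = y * (y⁻¹ * x) by group]
      exact mul_mem (mem_sup_left (mem_sup_left hy)) (hw (QuotientGroup.eq.1 hyx))
    simp only [Set.mem_insert_iff, Set.mem_singleton_iff] at hx
    rcases hx with h | h | h | h
    · exact key 1 (one_mem _) (h.trans rfl).symm
    · exact key eT (subset_closure (by simp)) h.symm
    · exact key e1 (subset_closure (by simp)) (hb.trans h.symm)
    · refine key (eT * e1) (mul_mem (subset_closure (by simp)) (subset_closure (by simp))) ?_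
      rw [QuotientGroup.mk_mul, hb, h]
  have hπe : π eT * π eT = 1 := by rw [← map_mul, heT2, map_one]
  have hπe1 : π e1 * π e1 = 1 := by rw [← map_mul, he12, map_one]
  have hconj : ∀ k : ℤ, π eT * ρ ^ k = ρ ^ (-k) * π eT := by
    intro k
    have h0 : π eT * ρ * π eT = ρ⁻¹ := by
      rw [hρ, mul_inv_rev, inv_eq_of_mul_eq_one_right hπe, inv_eq_of_mul_eq_one_right hπe1]
      calc π eT * (π eT * π e1) * π eT = (π eT * π eT) * π e1 * π eT := by group
        _ = π e1 * π eT := by rw [hπe, one_mul]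
    have h1 : π eT * ρ * (π eT)⁻¹ = ρ⁻¹ := by rw [inv_eq_of_mul_eq_one_right hπe, h0]
    have h2 : π eT * ρ ^ k * (π eT)⁻¹ = ρ ^ (-k) := by
      rw [← MulAut.conj_apply, map_zpow, MulAut.conj_apply, h1, inv_zpow, zpow_neg]
    rw [← h2, inv_mul_cancel_right]
  -- every element of the quotient is `ρ^k` or `ρ^k ē`
  let D : Subgroup (T ⧸ H.subgroupOf T) :=
    { carrier := {x | ∃ k : ℤ, x = ρ ^ k ∨ x = ρ ^ k * π eT}
      one_mem' := ⟨0, Or.inl (zpow_zero ρ).symm⟩
      mul_mem' := by
        rintro x y ⟨k, rfl | rfl⟩ ⟨l, rfl | rfl⟩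
        · exact ⟨k + l, Or.inl (zpow_add ρ k l).symm⟩
        · exact ⟨k + l, Or.inr (by rw [zpow_add, mul_assoc])⟩
        · exact ⟨k - l, Or.inr (by rw [mul_assoc, hconj, ← mul_assoc, ← zpow_add, sub_eq_add_neg])⟩
        · refine ⟨k - l, Or.inl ?_⟩
          rw [mul_assoc, ← mul_assoc (π eT), hconj, mul_assoc (ρ ^ (-l)), hπe, mul_one, ← zpow_add,
            sub_eq_add_neg]
      inv_mem' := by
        rintro x ⟨k, rfl | rfl⟩
        · exact ⟨-k, Or.inl (zpow_neg ρ k).symm⟩
        · refine ⟨k, Or.inr ?_⟩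
          rw [mul_inv_rev, ← zpow_neg, inv_eq_of_mul_eq_one_right hπe, hconj, neg_neg] }
  obtain ⟨k, hk⟩ : π f ∈ D := by
    have hle : (closure ({eT, e1} : Set T) ⊔ H.subgroupOf T).map π ≤ D := by
      rw [Subgroup.map_sup, MonoidHom.map_closure, hπ, QuotientGroup.map_mk'_self, sup_bot_eq, closure_le,
        Set.image_insert_eq, Set.image_singleton]
      rintro x (rfl | rfl)
      · exact ⟨0, Or.inr (by rw [zpow_zero, one_mul])⟩
      · refine ⟨-1, Or.inr ?_⟩
        rw [zpow_neg_one]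
        show π e1 = ρ⁻¹ * π eT
        rw [hρ, mul_inv_rev, inv_eq_of_mul_eq_one_right hπe, inv_eq_of_mul_eq_one_right hπe1, mul_assoc,
          hπe, mul_one]
    exact hle ⟨f, hgen ▸ mem_top f, rfl⟩
  -- project to `W`
  have hK : H.subgroupOf T ≤ (QuotientGroup.mk' (wKer 2 T H)).ker := by
    rw [QuotientGroup.ker_mk']
    exact le_sup_left.trans le_sup_left
  set q := QuotientGroup.lift (H.subgroupOf T) (QuotientGroup.mk' (wKer 2 T H)) hK with hq
  have hqπ : ∀ x : T, q (π x) = (x : WQuot 2 T H) := fun x => rfl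
  have hqρ : q ρ = a * s a := by rw [hρ, map_mul, hqπ, hqπ, hb]
  have hpowk : ∀ w : WQuot 2 T H, ∀ j : ℤ, w ^ j = if Even j then 1 else w := by
    intro w j
    have h2 : w ^ (2 : ℤ) = 1 := by exact_mod_cast wQuot_pow 2 T H w
    rcases Int.even_or_odd j with ⟨i, rfl⟩ | ⟨i, rfl⟩
    · rw [if_pos ⟨i, rfl⟩, ← two_mul, zpow_mul, h2, one_zpow]
    · rw [if_neg (Int.not_even_two_mul_add_one i), zpow_add, zpow_mul, h2, one_zpow, one_mul, zpow_one]
  have hρ2 : ρ ^ (2 : ℤ) = 1 := by
    rcases hk with hk | hk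
    · have h1 := congrArg q hk
      rw [hqπ, map_zpow, hqρ, hfW, hpowk] at h1
      have hkodd : ¬ Even k := by
        intro hev
        rw [if_pos hev] at h1
        exact hsa (mul_left_cancel (a := a) (by rw [h1, ← pow_two, wQuot_pow]))
      have h2 : ρ ^ (2 * k) = 1 := by
        rw [mul_comm, zpow_mul, ← hk, show ((2 : ℤ)) = ((2 : ℕ) : ℤ) from rfl, zpow_natCast, pow_two,
          ← map_mul, hf2, map_one]
      obtain ⟨j, hj⟩ := hS.sylow.isP.to_quotient (H.subgroupOf T) ρ
      obtain ⟨i, -, hi⟩ := (Nat.dvd_prime_pow Nat.prime_two).1 (orderOf_dvd_of_pow_eq_one hj)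
      have hd : orderOf ρ ∣ (2 * k).natAbs := Int.natCast_dvd.1 (orderOf_dvd_iff_zpow_eq_one.2 h2)
      rw [Int.natAbs_mul, hi] at hd
      have hco : (2 ^ i).Coprime k.natAbs :=
        Nat.Coprime.pow_left i (Nat.coprime_two_left.2 (Int.natAbs_odd.2 (Int.not_even_iff_odd.1 hkodd)))
      have hd2 : orderOf ρ ∣ 2 := hi ▸ hco.dvd_of_dvd_mul_right hd
      exact_mod_cast orderOf_dvd_iff_pow_eq_one.1 hd2
    · exfalso
      have h1 := congrArg q hk
      rw [map_mul, hqπ, hqπ, map_zpow, hqρ, hfW, hpowk] at h1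
      split_ifs at h1 with hev
      · rw [one_mul] at h1
        exact hsa1 (mul_eq_left.1 h1)
      · exact ha1 (mul_eq_left.1 h1.symm)
  -- `d = [e, e₁] ∈ H` is fixed by `g`
  have hcm : π eT * π e1 = π e1 * π eT := by
    have h1 : π eT * π e1 * (π eT * π e1) = 1 := by rw [← hρ2, zpow_two, hρ]
    calc π eT * π e1 = (π eT * π e1)⁻¹ := (inv_eq_of_mul_eq_one_right h1).symm
      _ = π e1 * π eT := by
        rw [mul_inv_rev, inv_eq_of_mul_eq_one_right hπe, inv_eq_of_mul_eq_one_right hπe1]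
  set d : G := ⁅(eT : G), (e1 : G)⁆ with hd
  have hdH : d ∈ H := by
    have h1 : π ⁅eT, e1⁆ = 1 := by
      rw [map_commutatorElement]; exact commutatorElement_eq_one_iff_mul_comm.2 hcm
    exact mem_subgroupOf.1 ((QuotientGroup.eq_one_iff _).1 h1)
  have hY : ∀ y : T, y ∈ ySub hc := by
    have hgenY : ∀ u v : T, ⁅(u : G), (v : G)⁆ ∈ H → ⁅(v : G), (u : G)⁆ ∈ H := fun u v h => by
      rw [← commutatorElement_inv]; exact inv_mem h
    intro y x
    have hgens : ∀ u ∈ ({eT, e1} : Set T), ∀ v ∈ ({eT, e1} : Set T), ⁅(u : G), (v : G)⁆ ∈ H := by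
      rintro u (rfl | rfl) v (rfl | rfl)
      · rw [commutatorElement_self]; exact H.one_mem
      · exact hdH
      · exact hgenY _ _ hdH
      · rw [commutatorElement_self]; exact H.one_mem
    -- commutators of generators lie in `H`, so all do
    have h1 : ∀ u v : T, π u * π v = π v * π u := by
      intro u v
      have hcen : ∀ z : T, π z ∈ closure ({π eT, π e1} : Set (T ⧸ H.subgroupOf T)) := by
        intro z
        have : π z ∈ (closure ({eT, e1} : Set T) ⊔ H.subgroupOf T).map π := ⟨z, hgen ▸ mem_top z, rfl⟩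
        rwa [Subgroup.map_sup, MonoidHom.map_closure, hπ, QuotientGroup.map_mk'_self, sup_bot_eq,
          Set.image_insert_eq, Set.image_singleton] at this
      have h3 : closure ({π eT, π e1} : Set (T ⧸ H.subgroupOf T)) ≤
          centralizer (closure ({π eT, π e1} : Set (T ⧸ H.subgroupOf T)) : Set (T ⧸ H.subgroupOf T)) := by
        rw [centralizer_closure, closure_le]
        rintro p (rfl | rfl) <;> rw [SetLike.mem_coe, mem_centralizer_iff] <;> rintro r (rfl | rfl)
        · rfl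
        · exact hcm.symm
        · exact hcm
        · rfl
      exact mem_centralizer_iff.1 (h3 (hcen v)) _ (hcen u)
    have h2 : π ⁅y, x⁆ = 1 := by
      rw [map_commutatorElement]; exact commutatorElement_eq_one_iff_mul_comm.2 (h1 y x)
    exact mem_subgroupOf.1 ((QuotientGroup.eq_one_iff _).1 h2)
  set y1 : ySub hc := ⟨e1, hY e1⟩ with hy1
  have hfix : σP ⟨d, hc.le hdH⟩ = ⟨d, hc.le hdH⟩ := by
    have h1 : (σP ⟨d, hc.le hdH⟩ : G) = ⁅(e1 : G), (f : G)⁆ := by
      show g * ⁅e, g * e * g⁻¹⁆ * g⁻¹ = ⁅g * e * g⁻¹, g * (g * e * g⁻¹) * g⁻¹⁆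
      simp only [commutatorElement_def]; group
    have h2 : dChar hc y1 f = dChar hc y1 (eT * e1) := by
      have hw : (eT * e1)⁻¹ * f ∈ wKer 2 T H := QuotientGroup.eq.1 (by
        rw [QuotientGroup.mk_mul, hb, hfW])
      calc dChar hc y1 f = dChar hc y1 ((eT * e1) * ((eT * e1)⁻¹ * f)) := by rw [mul_inv_cancel_left]
        _ = dChar hc y1 (eT * e1) := by
          rw [map_mul]
          exact mul_eq_left.2 (dHom_apply_eq_one hc y1 hw)
    refine Subtype.ext (h1.trans ?_)
    rw [show ⁅(e1 : G), (f : G)⁆ = (dChar hc y1 f : G) from rfl, h2, map_mul, Subgroup.coe_mul]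
    show ⁅(e1 : G), (eT : G)⁆ * ⁅(e1 : G), (e1 : G)⁆ = d
    rw [commutatorElement_self, mul_one, ← commutatorElement_inv]
    exact inv_eq_of_mul_eq_one_right (by rw [← hd, ← pow_two]; exact hc.pow d hdH)
  have hd1 : d = 1 := by
    by_contra hne1
    set u : H := ⟨d, hdH⟩ with hu
    have hu1 : u ≠ 1 := fun e => hne1 (congrArg Subtype.val e)
    have hufix : H.normalizerMonoidHom ⟨g, hgH⟩ u = u := Subtype.ext (congrArg Subtype.val hfix :)
    have hall : ∀ b : H, b ≠ 1 → b = u := fun b hb => by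
      obtain ⟨k, rfl⟩ := htrans u b hu1 hb
      clear hb
      induction k with
      | zero => rfl
      | succ k ih => rw [pow_succ, MulAut.mul_apply, hufix, ih]
    classical
    letI := Fintype.ofFinite H
    have hle : (Finset.univ : Finset H) ⊆ {1, u} := fun b _ => by
      rcases eq_or_ne b 1 with rfl | hb
      · simp
      · simp [hall b hb]
    have := (Finset.card_le_card hle).trans Finset.card_le_two
    rw [Finset.card_univ, ← Nat.card_eq_fintype_card, hS.card] at this
    omega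
  have he1E : (e1 : G) ∈ E := hS.cent _ e1.2 (commutatorElement_eq_one_iff_mul_comm.1 hd1).symm
  refine hS.ne_T (le_antisymm (fun t ht => ?_) hS.le_T)
  have hle : closure ({eT, e1} : Set T) ⊔ H.subgroupOf T ≤ E.subgroupOf T := by
    refine sup_le ((closure_le _).2 ?_) (fun x hx => hS.le hx)
    rintro x (rfl | rfl)
    · exact hS.mem
    · exact he1E
  exact hle (hgen ▸ mem_top (⟨t, ht⟩ : T))

/-- The main contradiction. -/
theorem IsMaxElem.not_autN_top (h : IsoExt 2 G) {N E : Subgroup G} (hN : N.Characteristic)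
    (hE : IsMaxElem N E) {n : ℕ} (hn : Nat.card E = 2 ^ n) (h3 : 3 ≤ n) : autN N E ≠ ⊤ := by
  intro hfull
  haveI : Fact (Nat.Prime 2) := ⟨Nat.prime_two⟩
  haveI := hE.comm
  haveI := hN
  have hsq' : ∀ x : E, x ^ 2 = 1 := fun x => Subtype.ext (hE.sq x x.2)
  obtain ⟨σ₁, htr₁, hord₁⟩ := exists_singer hsq' (n := n) (by omega) hn
  have hodd₁ : Odd (orderOf σ₁) := Odd.of_dvd_nat (Nat.Even.sub_odd (Nat.one_le_two_pow)
    ((Nat.even_pow).2 ⟨even_two, by omega⟩) odd_one) (orderOf_dvd_of_pow_eq_one hord₁)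
  obtain ⟨m, rfl⟩ : ∃ m, n = m + 1 := ⟨n - 1, by omega⟩
  obtain ⟨H', e', σ, hH'c, he', hσe, hσH, htr, hord⟩ := exists_split_singer hsq' (m := m) (by omega) hn
  set H := H'.map E.subtype with hH
  have hHE : H ≤ E := map_subtype_le H'
  have hHc : Nat.card H = 2 ^ m := by rw [hH, card_map_of_injective E.subtype_injective, hH'c]
  haveI : IsMulCommutative H :=
    ⟨⟨fun a b => Subtype.ext (congrArg (fun z : E => (z : G)) (mul_comm (⟨a, hHE a.2⟩ : E) ⟨b, hHE b.2⟩) :)⟩⟩
  have hH'i : H'.index = 2 := by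
    have := H'.card_mul_index
    rw [hH'c, hn, pow_succ] at this
    exact Nat.eq_of_mul_eq_mul_left (pow_pos two_pos m) this
  have hdec : ∀ x : E, x ∈ H' ∨ x * e' ∈ H' := by
    intro x
    by_cases hx : x ∈ H'
    · exact Or.inl hx
    · exact Or.inr ((Subgroup.mul_mem_iff_of_index_two hH'i).2 (iff_of_false hx he'))
  -- a transvection
  obtain ⟨τ, hτH, hτe⟩ : ∃ τ : MulAut E, (∀ x ∈ H', τ x = x) ∧ τ e' ≠ e' := by
    classical
    haveI : Nontrivial H' := Finite.one_lt_card_iff_nontrivial.1 (by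
      rw [hH'c]; exact Nat.one_lt_pow (by omega) one_lt_two)
    obtain ⟨⟨h₀, hh₀⟩, hh₀1⟩ := exists_ne (1 : H')
    let f : E → E := fun x => if x ∈ H' then x else x * h₀
    have hf : ∀ x y, f (x * y) = f x * f y := by
      intro x y
      have hiff := Subgroup.mul_mem_iff_of_index_two hH'i (a := x) (b := y)
      by_cases hx : x ∈ H' <;> by_cases hy : y ∈ H'
      · simp [f, hx, hy, hiff]
      · simp [f, hx, hy, hiff, mul_assoc]
      · simp [f, hx, hy, hiff, mul_right_comm]
      · have h2 : h₀ * h₀ = 1 := by rw [← pow_two, hsq']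
        simp [f, hx, hy, hiff]
        rw [mul_mul_mul_comm, h2, mul_one]
    have hinv : ∀ x, f (f x) = x := by
      intro x
      by_cases hx : x ∈ H'
      · simp [f, hx]
      · have h2 : x * h₀ ∉ H' := fun h => hx (by simpa using mul_mem h (inv_mem hh₀))
        simp only [f, if_neg hx, if_neg h2]
        rw [mul_assoc, ← pow_two, hsq', mul_one]
    refine ⟨{ toFun := f, invFun := f, left_inv := hinv, right_inv := hinv, map_mul' := hf },
      fun x hx => if_pos hx, fun h => hh₀1 (Subtype.ext ?_)⟩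
    have h' : e' * h₀ = e' := (if_neg he').symm.trans h
    exact mul_eq_left.1 h'
  have hEC : E ≤ N ⊓ centralizer (H : Set G) :=
    le_inf hE.le ((le_centralizer E).trans (centralizer_le hHE))
  have hEp : IsPGroup 2 E := fun x => ⟨1, by rw [pow_one]; exact hsq' x⟩
  obtain ⟨T, hT, hET⟩ := exists_isSylowIn_ge (p := 2) _ E hEC hEp
  have hTE : T ≠ E := by
    intro hTE
    obtain ⟨t, htN, htE, htτ⟩ := mem_autN.1 (hfull ▸ mem_top τ)
    obtain ⟨t', htU, ht'N, -, hto, hte⟩ := exists_lift_prime (r := 2) Nat.prime_two (X := E) htE htN htE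
      ⟨1, by
        refine orderOf_dvd_of_pow_eq_one (MulEquiv.ext fun u => ?_)
        have hτ' : E.normalizerMonoidHom ⟨t, htE⟩ = τ := MulEquiv.ext fun v => Subtype.ext (htτ v).symm
        rw [hτ', pow_one, pow_two, MulAut.mul_apply]
        rcases hdec u with hu | hu
        · rw [hτH _ hu, hτH _ hu]; rfl
        · have hu' : u = u * e' * e' := by rw [mul_assoc, ← pow_two, hsq', mul_one]
          have hee : τ (τ e') = e' := by
            rcases hdec (τ e') with h | h
            · exact absurd (τ.injective (hτH _ h) ▸ h) he'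
            · have h1 := hτH _ h
              rw [map_mul] at h1
              have h2 : τ e' * e' * τ e' = τ (τ e') := by
                rw [← h1, mul_assoc, ← pow_two, hsq', mul_one]
              rw [← h2, mul_comm, ← mul_assoc, ← pow_two, hsq', one_mul]
          rw [hu', map_mul, map_mul, hτH _ hu, hτH _ hu, hee]
          rfl⟩
    obtain ⟨a, ha⟩ := hto
    obtain ⟨b, -, hb⟩ := (Nat.dvd_prime_pow Nat.prime_two).1 ha
    have htH : t' ∈ centralizer (H : Set G) := by
      rw [mem_centralizer_iff]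
      rintro _ ⟨x, hx, rfl⟩
      have h1 := congrArg (fun φ : MulAut E => ((φ x : E) : G)) hte
      simp only [coe_normalizerMonoidHom] at h1
      rw [← htτ, hτH x hx] at h1
      exact ((mul_inv_eq_iff_eq_mul.1 h1).symm :)
    have hsup : IsPGroup 2 (E ⊔ zpowers t' : Subgroup G) :=
      hEp.to_sup_of_normal_left' (IsPGroup.of_card (n := b) (by rw [Nat.card_zpowers, hb])) (zpowers_le.2 htU)
    have h2 := hT.max _ hsup (hTE.le.trans le_sup_left) (sup_le hEC (zpowers_le.2 ⟨ht'N, htH⟩))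
    have ht'E : t' ∈ E := hTE ▸ h2 ▸ mem_sup_right (mem_zpowers t')
    refine hτe ?_
    have h1 := congrArg (fun φ : MulAut E => ((φ e' : E) : G)) hte
    simp only [coe_normalizerMonoidHom] at h1
    rw [← htτ] at h1
    refine Subtype.ext (h1.symm.trans ?_)
    rw [show t' * (e' : G) = e' * t' from congrArg Subtype.val (mul_comm (⟨t', ht'E⟩ : E) e'),
      mul_inv_cancel_right]
  have hcent : ∀ t ∈ T, t * (e' : G) = e' * t → t ∈ E := by
    intro t ht hte
    have htC : t ∈ centralizer (E : Set G) := by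
      rw [mem_centralizer_iff]
      intro x hx
      rcases hdec ⟨x, hx⟩ with h | h
      · exact mem_centralizer_iff.1 (hT.le ht).2 x ⟨_, h, rfl⟩
      · have h1 : x * (e' : G) * t = t * (x * e') := mem_centralizer_iff.1 (hT.le ht).2 _ ⟨_, h, rfl⟩
        calc x * t = x * e' * (e' * t) := by
              rw [mul_assoc x, ← mul_assoc (e' : G), ← pow_two, hE.sq _ e'.2, one_mul]
          _ = x * e' * (t * e') := by rw [hte]
          _ = (x * e' * t) * e' := by group
          _ = t * x * (e' * e') := by rw [h1]; group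
          _ = t * x := by rw [← pow_two, hE.sq _ e'.2, mul_one]
    have hpt : IsPGroup 2 (E ⊔ zpowers t : Subgroup G) :=
      hT.isP.to_le (sup_le hET (zpowers_le.2 ht))
    obtain ⟨X, hX, hXge⟩ := exists_isSylowIn_ge (p := 2) (N ⊓ centralizer (E : Set G)) (E ⊔ zpowers t)
      (sup_le (le_inf hE.le (le_centralizer E)) (zpowers_le.2 ⟨(hT.le ht).1, htC⟩)) hpt
    have := hE.sylow_eq h hN hn h3 (hfull ▸ mem_top σ₁) hodd₁ htr₁ hX
    exact this ▸ hXge (mem_sup_right (mem_zpowers t))
  have hS : HyperplaneSetting N E H T (e' : G) m := by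
    refine ⟨hHE, hHc, by omega, e'.2, ?_, fun x hx => ?_, hT, hET, hTE, hcent⟩
    · rintro ⟨x, hx, hxe⟩
      exact he' (Subtype.ext hxe ▸ hx)
    · exact (hdec ⟨x, hx⟩).imp (fun hh => ⟨_, hh, rfl⟩) fun hh => ⟨_, hh, rfl⟩
  have hc : CentralSub 2 T H := hS.centralSub hE.sq
  -- restrict `σ` to `H`
  obtain ⟨g₀, hg₀N, hg₀E, hσg⟩ := mem_autN.1 (hfull ▸ mem_top σ)
  have hg₀H : g₀ ∈ normalizer (H : Set G) := mem_normalizer_fintype fun x hx => by
    obtain ⟨x', hx', rfl⟩ := hx
    exact ⟨σ x', hσH _ hx', hσg x'⟩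
  have hσk : ∀ (k : ℕ) (x : E), ((σ ^ k) x : G) = g₀ ^ k * x * (g₀ ^ k)⁻¹ := by
    intro k x
    induction k with
    | zero => simp
    | succ k ih => rw [pow_succ', MulAut.mul_apply, hσg, ih]; group
  have htrH : ∀ a b : H, a ≠ 1 → b ≠ 1 → ∃ k : ℕ, ((H.normalizerMonoidHom ⟨g₀, hg₀H⟩) ^ k) a = b := by
    rintro ⟨_, a, ha, rfl⟩ ⟨_, b, hb, rfl⟩ ha1 hb1
    obtain ⟨k, hk⟩ := htr a ha b hb (fun e => ha1 (Subtype.ext ((congrArg E.subtype e).trans (map_one _))))
      (fun e => hb1 (Subtype.ext ((congrArg E.subtype e).trans (map_one _))))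
    refine ⟨k, Subtype.ext ?_⟩
    rw [coe_normalizerMonoidHom_pow]
    show g₀ ^ k * (a : G) * (g₀ ^ k)⁻¹ = _
    rw [← hσk, hk]
    rfl
  set τH := H.normalizerMonoidHom ⟨g₀, hg₀H⟩ with hτHdef
  have hτord : τH ^ (2 ^ m - 1) = 1 := MulEquiv.ext fun x => Subtype.ext (by
    obtain ⟨_, a, -, rfl⟩ := x
    rw [coe_normalizerMonoidHom_pow]
    show g₀ ^ (2 ^ m - 1) * (a : G) * (g₀ ^ (2 ^ m - 1))⁻¹ = _
    rw [← hσk, hord]
    rfl)
  obtain ⟨g₁, hg₁H, hg₁N, hg₁T, hg₁σ⟩ := exists_lift_normalizing (inferInstance : N.Normal) hT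
    (σ := τH) (mem_autN.2 ⟨g₀, hg₀N, hg₀H, fun u => rfl⟩)
  have hoddτ : Odd (orderOf τH) := Odd.of_dvd_nat (Nat.Even.sub_odd (Nat.one_le_two_pow)
    ((Nat.even_pow).2 ⟨even_two, by omega⟩) odd_one) (orderOf_dvd_of_pow_eq_one hτord)
  rcases Nat.lt_or_ge m 4 with hm4 | hm4
  · -- `m = 2, 3`: use an element of prime power order
    obtain ⟨r, hr, hrm⟩ : ∃ r : ℕ, r.Prime ∧ 2 ^ m - 1 = r := by
      have : m = 2 ∨ m = 3 := by omega
      rcases this with rfl | rfl <;> exact ⟨_, by norm_num, rfl⟩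
    obtain ⟨g, hgH, hgN, hgT, ⟨a, ha⟩, hgσ⟩ := exists_lift_prime hr hg₁H hg₁N hg₁T
      ⟨1, by rw [hg₁σ, pow_one, ← hrm]; exact orderOf_dvd_of_pow_eq_one hτord⟩
    rw [hg₁σ] at hgσ
    have hr2 : r ≠ 2 := by
      have : m = 2 ∨ m = 3 := by omega
      rcases this with rfl | rfl <;> (norm_num at hrm; omega)
    have hgodd : Odd (orderOf g) := Odd.of_dvd_nat (Odd.pow (hr.odd_of_ne_two hr2)) ha
    have htr' : ∀ a b : H, a ≠ 1 → b ≠ 1 → ∃ k : ℕ, ((H.normalizerMonoidHom ⟨g, hgH⟩) ^ k) a = b :=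
      hgσ ▸ htrH
    obtain ⟨hcnt, hW4⟩ := hS.count hE hgN hgT hgH hgodd h hN htr' hc
    set W := Nat.card (WQuot 2 T H) with hW
    set F := Nat.card (fixSub (wAut 2 T H g hgT hgH)) with hF
    have hF1 : 1 ≤ F := Nat.card_pos
    have hne := hS.wAut_ne_one hE hgT hgH hgodd htr'
    have hsord : ∃ b, orderOf (wAut 2 T H g hgT hgH) ∣ r ^ b := by
      refine ⟨a, orderOf_dvd_of_pow_eq_one (MulEquiv.ext fun w => ?_)⟩
      induction w using QuotientGroup.induction_on with
      | _ x =>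
        have hk : ∀ k : ℕ, ((wAut 2 T H g hgT hgH) ^ k) (x : WQuot 2 T H) =
            (((T.normalizerMonoidHom ⟨g, hgT⟩) ^ k) x : T) := by
          intro k
          induction k with
          | zero => rfl
          | succ k ih => rw [pow_succ', MulAut.mul_apply, ih, pow_succ', MulAut.mul_apply]; rfl
        rw [hk, orderOf_dvd_iff_pow_eq_one.1 ((orderOf_normalizerMonoidHom_dvd hgT).trans ha)]
        rfl
    rcases (show m = 2 ∨ m = 3 by omega) with rfl | rfl
    · norm_num at hcnt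
      obtain rfl : r = 3 := by norm_num at hrm; omega
      obtain ⟨k, hk⟩ := IsPGroup.iff_card.1 (hT.isP.to_quotient (wKer 2 T H))
      have hW8 : W ≤ 8 := by nlinarith
      have hk23 : k = 2 ∨ k = 3 := by
        rw [hW, hk] at hW4 hW8
        have h1 : k ≤ 3 := (Nat.pow_le_pow_iff_right (le_refl 2)).1 (show 2 ^ k ≤ 2 ^ 3 from hW8)
        have h2 : 2 ≤ k := (Nat.pow_le_pow_iff_right (le_refl 2)).1 (show 2 ^ 2 ≤ 2 ^ k from hW4)
        omega
      rcases hk23 with rfl | rfl
      · refine hS.false_of_four hE hc hgT hgH hgodd ⟨a, ha⟩ htr' hk fun he => ?_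
        have h1 := card_wQuot_pow_le h hN hT.isP hc hgN hgT hgH hT.innerHyp hHc htr'
          (by rw [hHc]; norm_num)
        rw [← hW, ← hF] at h1
        have hk' : W = 4 := hk
        rw [hk'] at h1
        have := (hS.card_range_dHom_le hE hc).2 he
        nlinarith
      · have hk' : W = 8 := hk
        rw [hk'] at hcnt
        -- an automorphism of 3-power order of a group of order 8 has a fixed point
        have hFle : F ≤ 1 := by nlinarith
        haveI : Fact (Nat.Prime 3) := ⟨Nat.prime_three⟩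
        obtain ⟨b, hb⟩ := hsord
        set s := wAut 2 T H g hgT hgH
        let A : Subgroup (MulAut (WQuot 2 T H)) := zpowers s
        have hA : IsPGroup 3 A := by
          obtain ⟨j, -, hj⟩ := (Nat.dvd_prime_pow Nat.prime_three).1 hb
          exact IsPGroup.of_card (n := j) (by rw [Nat.card_zpowers, hj])
        letI : MulAction A (WQuot 2 T H) := MulAction.compHom _ A.subtype
        have hmod := hA.card_modEq_card_fixedPoints (α := WQuot 2 T H)
        rw [← hW, hk'] at hmod
        have hfp : Nat.card (MulAction.fixedPoints A (WQuot 2 T H)) ≤ F :=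
          Nat.card_le_card_of_injective
            (fun w => (⟨w.1, w.2 ⟨s, mem_zpowers s⟩⟩ : fixSub s))
            fun u v huv => Subtype.ext (congrArg (fun z : fixSub s => (z : WQuot 2 T H)) huv)
        have hpos : 0 < Nat.card (MulAction.fixedPoints A (WQuot 2 T H)) := by
          haveI : Nonempty (MulAction.fixedPoints A (WQuot 2 T H)) :=
            ⟨⟨1, fun a => map_one (a : MulAut (WQuot 2 T H))⟩⟩
          exact Nat.card_pos
        unfold Nat.ModEq at hmod
        omega
    · norm_num at hcnt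
      obtain rfl : r = 7 := by norm_num at hrm; omega
      have hW4' : W ≤ 4 := by
        by_contra hlt
        have h25 : 25 ≤ W ^ 2 := by nlinarith
        have h3' : W ^ 3 * 1 ≤ W ^ 3 * F := Nat.mul_le_mul_left _ hF1
        have h4' : W * 25 ≤ W ^ 3 := by
          calc W * 25 ≤ W * W ^ 2 := Nat.mul_le_mul_left _ h25
            _ = W ^ 3 := by ring
        nlinarith
      exact hne (eq_one_of_card_four hW4' hr (by norm_num) hsord)
  · obtain ⟨g, hgH, hgN, hgT, hgo, hgσ⟩ := exists_lift_prime' Nat.prime_two hg₁H hg₁N hg₁T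
      (by rw [hg₁σ]; exact fun h => Nat.not_even_iff_odd.2 hoddτ (even_iff_two_dvd.2 h))
    rw [hg₁σ] at hgσ
    obtain ⟨hcnt, hW4⟩ := hS.count hE hgN hgT hgH (Nat.not_even_iff_odd.1 fun he => hgo he.two_dvd) h hN
      (hgσ ▸ htrH) hc
    set W := Nat.card (WQuot 2 T H) with hW
    have h1 : W ^ m ≤ W * (2 ^ m * 2) := le_trans (Nat.le_mul_of_pos_right _ Nat.card_pos) hcnt
    obtain ⟨i, rfl⟩ : ∃ i, m = i + 4 := ⟨m - 4, by omega⟩
    have h2 : W * (W ^ (i + 3)) ≤ W * (2 ^ (i + 4) * 2) := by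
      rw [← pow_succ']
      exact h1
    have h3' := Nat.le_of_mul_le_mul_left h2 (by omega)
    have h4 : 4 ^ (i + 3) ≤ W ^ (i + 3) := Nat.pow_le_pow_left hW4 _
    have h5 : 2 ^ (i + 4) * 2 < 4 ^ (i + 3) := by
      rw [show (4 : ℕ) = 2 ^ 2 by norm_num, ← pow_mul, ← pow_succ]
      exact Nat.pow_lt_pow_right (by norm_num) (by omega)
    omega

/-- Maximal elementary abelian 2-subgroups of rank at least 3 have trivial automizer. -/
theorem IsMaxElem.autN_eq_bot (h : IsoExt 2 G) {N E : Subgroup G} (hN : N.Characteristic)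
    (hE : IsMaxElem N E) {n : ℕ} (hn : Nat.card E = 2 ^ n) (h3 : 3 ≤ n) : autN N E = ⊥ := by
  haveI : Fact (Nat.Prime 2) := ⟨Nat.prime_two⟩
  haveI := hE.comm
  obtain ⟨Φ, -⟩ := exists_mulEquiv_GL (p := 2) (E := E) (fun x => Subtype.ext (hE.sq x x.2)) hn
  haveI := autN_normal h hN (U := E) (fun x => ⟨1, Subtype.ext (by simpa using hE.sq x x.2)⟩)
  haveI : ((autN N E).map Φ.toMonoidHom).Normal := Subgroup.Normal.map inferInstance _ Φ.surjective
  rcases normal_GL_two h3 ((autN N E).map Φ.toMonoidHom) with hb | ht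
  · exact (Subgroup.map_eq_bot_iff_of_injective _ Φ.injective).1 hb
  · refine absurd ?_ (hE.not_autN_top h hN hn h3)
    exact (Subgroup.map_injective Φ.injective (ht.trans (Subgroup.map_top_of_surjective _ Φ.surjective).symm))

end Cfsg.Agent.Homogeneous
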