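import Cfsg.Agent.Lib.Homogeneous.SylowCore
import Cfsg.Agent.Lib.Homogeneous.NoGL
import Cfsg.Agent.Lib.Homogeneous.Four
import Cfsg.Agent.Lib.SylL34.U34
import Cfsg.Agent.S0205
import Cfsg.Agent.S0215
import Cfsg.Agent.S0516

/-!
# The prime 2 for a simple characteristic subgroup
-/

set_option autoImplicit false
set_option linter.style.haveILetI false

namespace Cfsg.Agent.Homogeneous

open Subgroup Cfsg
open scoped IsMulCommutative

universe u
variable {G : Type u} [Group G] [Finite G] {K : Subgroup G}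

theorem two_dvd_of_simple (hs : IsSimpleGroup K) (hnc : ¬ IsMulCommutative K) : 2 ∣ Nat.card K := by
  by_contra h
  haveI := hs
  exact hnc ⟨⟨IsSimpleGroup.comm_iff_isSolvable.2
    (S0205.result (Nat.not_even_iff_odd.1 fun he => h he.two_dvd))⟩⟩

/-- A simple group has no elementary abelian 2-subgroup of maximal order with trivial automizer. -/
theorem false_of_autN_two (hs : IsSimpleGroup K) (hnc : ¬ IsMulCommutative K) {E : Subgroup G}
    (hE : MaxElemIn 2 K E) (hA : autN K E = ⊥) : False := by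
  haveI : Fact (Nat.Prime 2) := ⟨Nat.prime_two⟩
  haveI := hs
  have h2 := two_dvd_of_simple hs hnc
  obtain ⟨X, hX, hEX⟩ := exists_isSylowIn_ge K E hE.le hE.isPGroup
  obtain ⟨S', rfl⟩ := hX.exists_sylow
  -- an involution in `E`
  obtain ⟨u, hu, huS⟩ : ∃ u : K, orderOf u = 2 ∧ u ∈ (S' : Subgroup K) := by
    obtain ⟨t, ht⟩ := exists_prime_orderOf_dvd_card' (G := (S' : Subgroup K)) 2 (S'.dvd_card_of_dvd_card h2)
    exact ⟨(t : K), by rw [Subgroup.orderOf_coe, ht], t.2⟩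
  have hu2 : u ^ 2 = 1 := by rw [← hu, pow_orderOf_eq_one]
  obtain ⟨N, hN, hNodd, hcomm⟩ := S0215.result S' u hu huS fun g hg =>
    hE.fusion_trivial hA S' hEX u g huS hu2 hg
  have hu1 : u ≠ 1 := fun e => by rw [e, orderOf_one] at hu; exact absurd hu (by norm_num)
  rcases hN.eq_bot_or_eq_top with rfl | rfl
  · have hc : u ∈ Subgroup.center K := Subgroup.mem_center_iff.2 fun g => by
      have := Subgroup.mem_bot.1 (hcomm g)
      exact (mul_inv_eq_iff_eq_mul.1 (mul_inv_eq_one.1 this)).symm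
    rcases (inferInstance : (Subgroup.center K).Normal).eq_bot_or_eq_top with hb | ht
    · exact hu1 (Subgroup.mem_bot.1 (hb ▸ hc))
    · exact hnc ⟨⟨fun a b => (Subgroup.mem_center_iff.1 (ht ▸ mem_top b) a)⟩⟩
  · rw [Subgroup.card_top] at hNodd
    exact Nat.not_even_iff_odd.2 hNodd (even_iff_two_dvd.2 h2)

/-- The 2-rank is at most 2. -/
theorem card_elementary_le_four (h : IsoExt 2 G) (hK : K.Characteristic) (hs : IsSimpleGroup K)
    (hnc : ¬ IsMulCommutative K) (A : Subgroup G) (hA : A ≤ K) (hAc : IsMulCommutative A)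
    (hA2 : ∀ a ∈ A, a ^ 2 = 1) : Nat.card A ≤ 4 := by
  haveI : Fact (Nat.Prime 2) := ⟨Nat.prime_two⟩
  obtain ⟨E, hE, hmax⟩ := exists_maxCard 2 K
  refine (hmax A hA hAc hA2).trans ?_
  obtain ⟨n, hn⟩ := hE.exists_card
  by_contra h4
  have h3 : 3 ≤ n := by
    by_contra h3
    exact h4 (hn ▸ (Nat.pow_le_pow_right (by norm_num) (show n ≤ 2 by omega)).trans (by norm_num))
  exact false_of_autN_two hs hnc hE (hE.isMaxElem.autN_eq_bot h hK hn h3)

theorem mem_of_involution (h : IsoExt 2 G) (hK : K.Characteristic) (hs : IsSimpleGroup K)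
    (hnc : ¬ IsMulCommutative K) {x : G} (hx : x ^ 2 = 1) : x ∈ K := by
  haveI : Fact (Nat.Prime 2) := ⟨Nat.prime_two⟩
  by_cases hx1 : x = 1
  · rw [hx1]; exact one_mem K
  obtain ⟨t, ht⟩ := exists_prime_orderOf_dvd_card' (G := K) 2 (two_dvd_of_simple hs hnc)
  exact h.mem_of_orderOf_eq hK (k := 1) t.2 (by rw [pow_one, Subgroup.orderOf_coe, ht])
    (by rw [pow_one, orderOf_eq_prime hx hx1])

/-- All involutions of a Sylow subgroup are central and there are three of them. -/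
theorem sylow_le_of_central_involutions (h : IsoExt 2 G) (hK : K.Characteristic) (hs : IsSimpleGroup K)
    (hnc : ¬ IsMulCommutative K) (P : Sylow 2 G) (S : Subgroup G) (hS : (P : Subgroup G) ⊓ K = S)
    (hcen : ∀ w ∈ S, w * w = 1 → ∀ s ∈ S, s * w = w * s)
    (hcard : Nat.card {w : S // w * w = 1} = 4) : (P : Subgroup G) ≤ K := by
  haveI : Fact (Nat.Prime 2) := ⟨Nat.prime_two⟩
  haveI := hK
  have hSyl : IsSylowIn 2 K S := hS ▸ isSylowIn_inf P K
  let E : Subgroup G :=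
    { carrier := {w | w ∈ S ∧ w * w = 1}
      one_mem' := ⟨one_mem S, mul_one 1⟩
      mul_mem' := fun {a b} ha hb => ⟨mul_mem ha.1 hb.1, by
        rw [mul_assoc, ← mul_assoc b a b, hcen a ha.1 ha.2 b hb.1, mul_assoc a b b, hb.2, mul_one, ha.2]⟩
      inv_mem' := fun {a} ha => ⟨inv_mem ha.1, by rw [← mul_inv_rev, ha.2, inv_one]⟩ }
  have hES : E ≤ S := fun w hw => hw.1
  have hEK : E ≤ K := hES.trans hSyl.le
  have hE4 : Nat.card E = 4 := by
    rw [← hcard]
    exact Nat.card_congr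
      { toFun := fun w => ⟨⟨w.1, w.2.1⟩, Subtype.ext w.2.2⟩
        invFun := fun w => ⟨w.1.1, w.1.2, congrArg Subtype.val w.2⟩
        left_inv := fun w => rfl
        right_inv := fun w => rfl }
  haveI hEc : IsMulCommutative E := ⟨⟨fun a b => Subtype.ext (hcen _ b.2.1 b.2.2 _ a.2.1)⟩⟩
  have hEsq : ∀ u : E, u ^ 2 = 1 := fun u => Subtype.ext (by rw [Subgroup.coe_pow, pow_two]; exact u.2.2)
  have hE : MaxElemIn 2 K E := maxElemIn_of_card_max hEK hEc
    (fun y hy => by rw [pow_two]; exact hy.2)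
    fun A h1 h2 h3 => hE4 ▸ card_elementary_le_four h hK hs hnc A h1 h2 h3
  have hSC : S ≤ K ⊓ centralizer (E : Set G) :=
    le_inf hSyl.le fun s hs' => mem_centralizer_iff.2 fun w hw => (hcen w hw.1 hw.2 s hs').symm
  have hSylC : IsSylowIn 2 (K ⊓ centralizer (E : Set G)) S :=
    ⟨hSC, hSyl.isP, fun Q hQ hle hQC => hSyl.max Q hQ hle (hQC.trans inf_le_left)⟩
  -- 2-elements of `N_K(S)` lie in `S`
  have h2mem : ∀ {y : G}, y ∈ K → y ∈ normalizer (S : Set G) → (∃ k : ℕ, y ^ 2 ^ k = 1) → y ∈ S := by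
    intro y hyK hyS ⟨k, hk⟩
    have hp : IsPGroup 2 (zpowers y) := by
      obtain ⟨b, -, hb⟩ := (Nat.dvd_prime_pow Nat.prime_two).1 (orderOf_dvd_of_pow_eq_one hk)
      exact IsPGroup.of_card (n := b) (by rw [Nat.card_zpowers, hb])
    have := hSyl.max (zpowers y ⊔ S) (hp.to_sup_of_normal_right' hSyl.isP (zpowers_le.2 hyS)) le_sup_right
      (sup_le (zpowers_le.2 hyK) hSyl.le)
    exact this.le (mem_sup_left (mem_zpowers y))
  have hA2 : ∀ σ ∈ autN K E, orderOf σ ∣ 2 → σ = 1 := by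
    intro σ hσ hσ2
    obtain ⟨g, hgE, hgK, hgS, rfl⟩ := exists_lift_normalizing (p := 2) inferInstance hSylC hσ
    obtain ⟨g', hg'E, hg'K, hg'S, ⟨a, ha⟩, he⟩ :=
      exists_lift_prime Nat.prime_two hgE hgK hgS ⟨1, by rw [pow_one]; exact hσ2⟩
    rw [← he]
    have hmem := h2mem hg'K hg'S ⟨a, orderOf_dvd_iff_pow_eq_one.1 ha⟩
    refine MulEquiv.ext fun u => Subtype.ext ?_
    show g' * u * g'⁻¹ = u
    rw [← mem_centralizer_iff.1 (hSC hmem).2 u u.2, mul_inv_cancel_right]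
  -- a fixed-point-free element of odd prime power order
  obtain ⟨r, hr, σ, hσA, hσr⟩ : ∃ r : ℕ, r.Prime ∧ ∃ σ ∈ autN K E, orderOf σ = r := by
    obtain ⟨r, hr, hrd⟩ := Nat.exists_prime_and_dvd (n := Nat.card (autN K E))
      fun e => false_of_autN_two hs hnc hE (Subgroup.card_eq_one.1 e)
    haveI : Fact r.Prime := ⟨hr⟩
    obtain ⟨τ, hτ⟩ := exists_prime_orderOf_dvd_card' (G := autN K E) r hrd
    exact ⟨r, hr, τ, τ.2, by rw [Subgroup.orderOf_coe, hτ]⟩
  haveI : Fact r.Prime := ⟨hr⟩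
  have hσ1 : σ ≠ 1 := fun e => by rw [e, orderOf_one] at hσr; exact hr.ne_one hσr.symm
  have hr2 : r ≠ 2 := fun e => hσ1 (hA2 σ hσA (e ▸ hσr.dvd))
  obtain ⟨g₀, hg₀E, hg₀K, hg₀S, hσg₀⟩ := exists_lift_normalizing (p := 2) inferInstance hSylC hσA
  obtain ⟨g, hgE, hgK, hgS, ⟨a, hga⟩, hgσ⟩ :=
    exists_lift_prime hr hg₀E hg₀K hg₀S ⟨1, by rw [pow_one, hσg₀, hσr]⟩
  rw [hσg₀] at hgσ
  have hfree : ∀ w ∈ S, g * w * g⁻¹ = w → w = 1 := by
    intro w hw hgw
    by_contra hw1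
    obtain ⟨k, hk⟩ := hSyl.isP ⟨w, hw⟩
    obtain ⟨b, hb2, hb1⟩ := exists_involution_pow (congrArg Subtype.val hk : w ^ 2 ^ k = 1) hw1
    have hbE : w ^ b ∈ E := ⟨pow_mem hw b, by rw [← pow_two]; exact hb2⟩
    refine hb1 (congrArg Subtype.val (four_eq_one_of_fix hE4 hEsq hσ1 (hσr ▸ hr.odd_of_ne_two hr2)
      (u := ⟨_, hbE⟩) (Subtype.ext ?_)))
    rw [← hgσ, coe_normalizerMonoidHom]
    show g * w ^ b * g⁻¹ = w ^ b
    rw [← conj_pow, hgw]
  by_contra hPK
  obtain ⟨x₀, hx₀, hx₀K⟩ := SetLike.not_le_iff_exists.1 hPK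
  obtain ⟨x, hx, hxK, hxp⟩ : ∃ x ∈ (P : Subgroup G), x ∉ K ∧ x ^ 2 ∈ K := by
    obtain ⟨k, hk⟩ := P.2 ⟨x₀, hx₀⟩
    have hk' : x₀ ^ 2 ^ k ∈ K := by
      rw [show x₀ ^ 2 ^ k = 1 from congrArg Subtype.val hk]
      exact one_mem K
    clear hk
    induction k with
    | zero => exact absurd (by simpa using hk') hx₀K
    | succ k ih =>
      by_cases hmem : x₀ ^ 2 ^ k ∈ K
      · exact ih hmem
      · exact ⟨x₀ ^ 2 ^ k, pow_mem hx₀ _, hmem, by rwa [← pow_mul, ← pow_succ]⟩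
  have hxS : x ∈ normalizer (S : Set G) := by
    rw [← hS]
    exact mem_normalizer_fintype fun z hz =>
      ⟨(P : Subgroup G).mul_mem ((P : Subgroup G).mul_mem hx hz.1) ((P : Subgroup G).inv_mem hx),
        (inferInstance : K.Normal).conj_mem z hz.2 x⟩
  set L := K ⊓ normalizer (S : Set G) with hL
  have hxL : x ∈ normalizer (L : Set G) :=
    inf_normalizer_le_normalizer_inf ⟨by rw [normalizer_eq_top]; exact mem_top x, le_normalizer hxS⟩
  have hgp : IsPGroup r (zpowers g) := by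
    obtain ⟨b, -, hb⟩ := (Nat.dvd_prime_pow hr).1 hga
    exact IsPGroup.of_card (n := b) (by rw [Nat.card_zpowers, hb])
  obtain ⟨D, hD, hgD⟩ := exists_isSylowIn_ge L (zpowers g) (zpowers_le.2 ⟨hgK, hgS⟩) hgp
  obtain ⟨l, hl, hlx⟩ := hD.exists_mul_mem_normalizer hxL
  obtain ⟨j, ⟨b, hb⟩, hj⟩ := exists_prime_power Nat.prime_two (l * x)
  set y := (l * x) ^ j with hy
  set π := QuotientGroup.mk' K with hπ
  have hπlx : π (l * x) = π x := by
    rw [map_mul, show π l = 1 from (QuotientGroup.eq_one_iff l).2 hl.1, one_mul]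
  have hπx2 : π x ^ 2 = 1 := by
    rw [← map_pow]
    exact (QuotientGroup.eq_one_iff _).2 hxp
  have hπy : π y = π x := by
    rw [hy, map_pow, hπlx]
    exact hj (π x) (hπlx ▸ orderOf_map_dvd π (l * x)) ⟨1, by rw [pow_one]; exact orderOf_dvd_of_pow_eq_one hπx2⟩
  have hyK : y ∉ K := fun hyK => hxK ((QuotientGroup.eq_one_iff x).1 (show π x = 1 from
    hπy ▸ (QuotientGroup.eq_one_iff y).2 hyK))
  have hyS : y ∈ normalizer (S : Set G) := pow_mem (mul_mem hl.2 hxS) j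
  have hyD : y ∈ normalizer (D : Set G) := pow_mem hlx j
  have hy2S : y ^ 2 ∈ S := h2mem ((QuotientGroup.eq_one_iff _).1 (show π (y ^ 2) = 1 by
    rw [map_pow, hπy, hπx2])) (pow_mem hyS 2) ⟨b, by
      rw [← pow_mul, mul_comm, pow_mul, orderOf_dvd_iff_pow_eq_one.1 hb, one_pow]⟩
  have hc : y ^ 2 * g * (y ^ 2)⁻¹ * g⁻¹ = 1 := by
    have h1 : y ^ 2 * g * (y ^ 2)⁻¹ * g⁻¹ ∈ D :=
      mul_mem ((mem_normalizer_iff.1 (pow_mem hyD 2) g).1 (hgD (mem_zpowers g)))
        (inv_mem (hgD (mem_zpowers g)))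
    have h2 : y ^ 2 * g * (y ^ 2)⁻¹ * g⁻¹ ∈ S := by
      rw [show y ^ 2 * g * (y ^ 2)⁻¹ * g⁻¹ = y ^ 2 * (g * (y ^ 2)⁻¹ * g⁻¹) by group]
      exact mul_mem hy2S ((mem_normalizer_iff.1 hgS _).1 (inv_mem hy2S))
    obtain ⟨k1, hk1⟩ := hD.isP ⟨_, h1⟩
    obtain ⟨k2, hk2⟩ := hSyl.isP ⟨_, h2⟩
    exact orderOf_eq_one_iff.1 (Nat.eq_one_of_dvd_coprimes
      ((((Nat.coprime_primes hr Nat.prime_two).2 hr2).pow_left k1).pow_right k2)
      (orderOf_dvd_of_pow_eq_one (congrArg Subtype.val hk1))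
      (orderOf_dvd_of_pow_eq_one (congrArg Subtype.val hk2)))
  have hy21 : y ^ 2 = 1 := hfree _ hy2S (by
    rw [mul_inv_eq_one, mul_inv_eq_iff_eq_mul] at hc
    rw [mul_inv_eq_iff_eq_mul]
    exact hc.symm)
  exact hyK (mem_of_involution h hK hs hnc hy21)

/-- A cyclic subgroup of index 2 with dihedral or semidihedral action. -/
theorem sylow_le_of_cyclic_index_two (h : IsoExt 2 G) (hK : K.Characteristic) (P : Sylow 2 G)
    (S : Subgroup G) (hS : (P : Subgroup G) ⊓ K = S) {a b : G} (ha : a ∈ S) (hb : b ∈ S) {m : ℕ} (hm : 2 ≤ m)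
    (hao : orderOf a = 2 ^ m) (hb2 : b ^ 2 = 1) (hba : b ∉ zpowers a) {j : ℤ} (hconj : b * a * b⁻¹ = a ^ j)
    (hgen : ∀ w ∈ S, w ∈ zpowers a ∨ b * w ∈ zpowers a)
    (hj : (2 : ℤ) ^ m ∣ j + 1 ∨ (3 ≤ m ∧ (2 : ℤ) ^ m ∣ j + 1 - 2 ^ (m - 1))) : (P : Subgroup G) ≤ K := by
  haveI : Fact (Nat.Prime 2) := ⟨Nat.prime_two⟩
  haveI := hK
  haveI := (P : Subgroup G)
  have hbinv : b⁻¹ = b := inv_eq_of_mul_eq_one_left (by rw [← pow_two]; exact hb2)
  have hao' : ∀ i : ℤ, a ^ i = 1 ↔ (2 : ℤ) ^ m ∣ i := fun i => by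
    rw [← orderOf_dvd_iff_zpow_eq_one, hao]
    push_cast
    rfl
  have hallK : ∀ y : G, ∀ i ≤ m, orderOf y = 2 ^ i → y ∈ K := by
    intro y i hi hy
    have haK : a ^ 2 ^ (m - i) ∈ K := pow_mem ((hS.ge ha).2) _
    refine h.mem_of_orderOf_eq hK (k := i) haK ?_ hy
    rw [orderOf_pow' _ (pow_ne_zero _ two_ne_zero), hao, Nat.gcd_eq_right (pow_dvd_pow 2 (Nat.sub_le m i)),
      Nat.pow_div (Nat.sub_le m i) two_pos, show m - (m - i) = i by omega]
  -- orders in `S`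
  have hexp : ∀ w ∈ S, w ^ 2 ^ m = 1 ∧ (orderOf w = 2 ^ m → w ∈ zpowers a) := by
    intro w hw
    rcases hgen w hw with hwa | hwa
    · obtain ⟨i, rfl⟩ := mem_zpowers_iff.1 hwa
      refine ⟨?_, fun _ => hwa⟩
      rw [← zpow_natCast, ← zpow_mul, mul_comm, zpow_mul, zpow_natCast, ← hao, pow_orderOf_eq_one, one_zpow]
    · obtain ⟨i, hi⟩ := mem_zpowers_iff.1 hwa
      have hwe : w = b * a ^ i := by rw [hi, ← mul_assoc, ← pow_two, hb2, one_mul]
      have hsq : w ^ 2 = a ^ (i * (j + 1)) := by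
        rw [hwe, pow_two, show b * a ^ i * (b * a ^ i) = (b * a * b⁻¹) ^ i * (b ^ 2) * a ^ i by
          rw [conj_zpow, pow_two]; group, hb2, mul_one, hconj, ← zpow_mul, ← zpow_add]
        congr 1
        ring
      have h4 : orderOf w ∣ 2 ^ (m - 1) ∨ (m = 2 ∧ orderOf w ∣ 2) := by
        rcases hj with hj | ⟨h3, hj⟩
        · have hw2 : w ^ 2 = 1 := by rw [hsq, hao']; exact hj.mul_left i
          exact Or.inl ((orderOf_dvd_of_pow_eq_one hw2).trans (dvd_pow_self 2 (by omega)))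
        · refine Or.inl ((orderOf_dvd_of_pow_eq_one (n := 4) ?_).trans ?_)
          · rw [show (4 : ℕ) = 2 * 2 from rfl, pow_mul, hsq, ← zpow_natCast, ← zpow_mul, hao']
            have hd : (2 : ℤ) ^ (m - 1) ∣ j + 1 :=
              (dvd_sub_left dvd_rfl).1 ((pow_dvd_pow (2 : ℤ) (Nat.sub_le m 1)).trans hj)
            obtain ⟨c, hc⟩ := hd
            refine ⟨i * c, ?_⟩
            rw [hc]
            conv_rhs => rw [show m = m - 1 + 1 by omega, pow_succ]
            push_cast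
            ring
          · rw [show (4 : ℕ) = 2 ^ 2 from rfl]
            exact pow_dvd_pow 2 (by omega)
      rcases h4 with h4 | ⟨-, h4⟩
      · refine ⟨orderOf_dvd_iff_pow_eq_one.1 (h4.trans (pow_dvd_pow 2 (Nat.sub_le m 1))), fun ho => ?_⟩
        rw [ho, Nat.pow_dvd_pow_iff_le_right (by norm_num)] at h4
        omega
      · refine ⟨orderOf_dvd_iff_pow_eq_one.1 (h4.trans (dvd_pow_self 2 (by omega))), fun ho => ?_⟩
        rw [ho] at h4
        have := Nat.le_of_dvd two_pos h4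
        have : 2 ^ 2 ≤ 2 ^ m := Nat.pow_le_pow_right two_pos hm
        omega
  by_contra hPK
  obtain ⟨x₀, hx₀, hx₀K⟩ := SetLike.not_le_iff_exists.1 hPK
  obtain ⟨x, hx, hxK, hxp⟩ : ∃ x ∈ (P : Subgroup G), x ∉ K ∧ x ^ 2 ∈ K := by
    obtain ⟨k, hk⟩ := P.2 ⟨x₀, hx₀⟩
    have hk' : x₀ ^ 2 ^ k ∈ K := by
      rw [show x₀ ^ 2 ^ k = 1 from congrArg Subtype.val hk]
      exact one_mem K
    clear hk
    induction k with
    | zero => exact absurd (by simpa using hk') hx₀K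
    | succ k ih =>
      by_cases hmem : x₀ ^ 2 ^ k ∈ K
      · exact ih hmem
      · exact ⟨x₀ ^ 2 ^ k, pow_mem hx₀ _, hmem, by rwa [← pow_mul, ← pow_succ]⟩
  have hx2S : x ^ 2 ∈ S := hS ▸ ⟨pow_mem hx 2, hxp⟩
  -- the order of `x`
  have hxo : orderOf x = 2 ^ (m + 1) := by
    have h1 : x ^ 2 ^ (m + 1) = 1 := by rw [pow_succ', pow_mul]; exact (hexp _ hx2S).1
    obtain ⟨i, hi, hxi⟩ := (Nat.dvd_prime_pow Nat.prime_two).1 (orderOf_dvd_of_pow_eq_one h1)
    rcases Nat.lt_or_ge i (m + 1) with hlt | hge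
    · exact absurd (hallK x i (by omega) hxi) hxK
    · rw [hxi, show i = m + 1 by omega]
  have hx2o : orderOf (x ^ 2) = 2 ^ m := by
    rw [orderOf_pow' x two_ne_zero, hxo, Nat.gcd_eq_right (dvd_pow_self 2 (by omega)), pow_succ,
      Nat.mul_div_cancel _ two_pos]
  have hx2a := (hexp _ hx2S).2 hx2o
  have hzeq : zpowers (x ^ 2) = zpowers a :=
    Subgroup.eq_of_le_of_card_ge (zpowers_le.2 hx2a) (by rw [Nat.card_zpowers, Nat.card_zpowers, hx2o, hao])
  have hax : ∀ w ∈ zpowers a, x * w = w * x := by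
    intro w hw
    rw [← hzeq] at hw
    obtain ⟨i, rfl⟩ := mem_zpowers_iff.1 hw
    exact ((Commute.self_pow x 2).zpow_right i).eq
  have hPn : ∀ z ∈ S, x * z * x⁻¹ ∈ S := fun z hz => by
    rw [← hS] at hz ⊢
    exact ⟨(P : Subgroup G).mul_mem ((P : Subgroup G).mul_mem hx hz.1) ((P : Subgroup G).inv_mem hx),
      (inferInstance : K.Normal).conj_mem z hz.2 x⟩
  -- `b x b⁻¹ = x ^ k`
  set s := b * (x * b⁻¹ * x⁻¹) with hs
  have hsS : s ∈ S := mul_mem hb (hPn _ (inv_mem hb))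
  have hsa : s ∈ zpowers a := by
    rcases hgen s hsS with h1 | h1
    · exact h1
    · exfalso
      rw [hs, ← mul_assoc, ← pow_two, hb2, one_mul] at h1
      have h2 := hax _ h1
      refine hba ?_
      have h3 : x⁻¹ * (x * b⁻¹ * x⁻¹) * x = x * b⁻¹ * x⁻¹ := by
        rw [mul_assoc, ← h2, inv_mul_cancel_left]
      rw [show x⁻¹ * (x * b⁻¹ * x⁻¹) * x = b⁻¹ by group] at h3
      rw [← h3, hbinv] at h1
      exact h1
  obtain ⟨e, he⟩ := mem_zpowers_iff.1 (hzeq.ge hsa)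
  have hbx : b * x * b⁻¹ = x ^ (2 * e + 1) := by
    rw [zpow_add, zpow_one, zpow_mul, zpow_ofNat, he, hs]
    group
  set k : ℤ := 2 * e + 1 with hk
  have hxo' : ∀ i : ℤ, x ^ i = 1 ↔ (2 : ℤ) ^ (m + 1) ∣ i := fun i => by
    rw [← orderOf_dvd_iff_zpow_eq_one, hxo]
    push_cast
    rfl
  have hkj : (2 : ℤ) ^ m ∣ k - j := by
    obtain ⟨c, hc⟩ := mem_zpowers_iff.1 hx2a
    have h1 : b * x ^ (2 : ℕ) * b⁻¹ = (x ^ (2 : ℕ)) ^ j := by
      rw [← hc, ← conj_zpow, hconj, ← zpow_mul, ← zpow_mul, mul_comm]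
    rw [← conj_pow, hbx, ← zpow_natCast, ← zpow_natCast, ← zpow_mul, ← zpow_mul, ← mul_inv_eq_one, ← zpow_sub,
      hxo', pow_succ, show (k * ((2 : ℕ) : ℤ) - ((2 : ℕ) : ℤ) * j) = (k - j) * 2 by push_cast; ring] at h1
    exact Int.dvd_of_mul_dvd_mul_right two_ne_zero h1
  have hk2 : (2 : ℤ) ^ (m + 1) ∣ k * k - 1 := by
    rw [← hxo', zpow_sub, zpow_one, mul_inv_eq_one, zpow_mul, ← hbx, conj_zpow, ← hbx, hbinv]
    rw [show b * (b * x * b) * b = (b * b) * x * (b * b) by group, ← pow_two, hb2, one_mul, mul_one]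
  rcases hj with hj | ⟨h3, hj⟩
  · -- dihedral
    have hk1 : (2 : ℤ) ^ m ∣ k + 1 := by
      have := dvd_add hkj hj
      rwa [show k - j + (j + 1) = k + 1 by ring] at this
    have h4 : (b * x) ^ 4 = 1 := by
      have h2 : (b * x) ^ 2 = x ^ (k + 1) := by
        rw [zpow_add, zpow_one, ← hbx, pow_two, hbinv]
        group
      rw [show (4 : ℕ) = 2 * 2 from rfl, pow_mul, h2, ← zpow_natCast, ← zpow_mul, hxo', pow_succ]
      exact mul_dvd_mul hk1 (by norm_num)
    obtain ⟨i, hi, hio⟩ := (Nat.dvd_prime_pow Nat.prime_two).1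
      (orderOf_dvd_of_pow_eq_one (show (b * x) ^ 2 ^ 2 = 1 by norm_num; exact h4))
    have hbxK := hallK (b * x) i (hi.trans hm) hio
    refine hxK ?_
    have := K.mul_mem (K.inv_mem ((hS.ge hb).2)) hbxK
    rwa [inv_mul_cancel_left] at this
  · -- semidihedral
    have h1 : (2 : ℤ) ^ m ∣ k + 1 - 2 ^ (m - 1) := by
      have := dvd_add hkj hj
      rwa [show k - j + (j + 1 - 2 ^ (m - 1)) = k + 1 - 2 ^ (m - 1) by ring] at this
    obtain ⟨c, hc⟩ := h1
    obtain ⟨l, rfl⟩ : ∃ l, m = l + 3 := ⟨m - 3, by omega⟩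
    rw [show l + 3 - 1 = l + 2 by omega] at hc
    have hkv : k = 2 ^ (l + 2) * (2 * c + 1) - 1 := by
      rw [pow_succ 2 (l + 2)] at hc
      linarith
    obtain ⟨d, hd⟩ := hk2
    rw [hkv] at hd
    have hpos : (2 : ℤ) ^ (l + 2) ≠ 0 := pow_ne_zero _ two_ne_zero
    have h4 : (2 * c + 1) * (2 ^ (l + 2) * (2 * c + 1) - 2) = 4 * d := by
      refine mul_left_cancel₀ hpos ?_
      rw [show (2 : ℤ) ^ (l + 3 + 1) = 2 ^ (l + 2) * 4 by ring] at hd
      linear_combination hd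
    have h5 : (4 : ℤ) ∣ 2 * (2 * c + 1) := ⟨2 ^ l * (2 * c + 1) * (2 * c + 1) - d, by
      rw [show (2 : ℤ) ^ (l + 2) = 4 * 2 ^ l by ring] at h4
      linear_combination -h4⟩
    omega

/-- Wreathed Sylow subgroups do not occur. -/
theorem not_isWreathed (h : IsoExt 2 G) (hK : K.Characteristic) (hs : IsSimpleGroup K)
    (hnc : ¬ IsMulCommutative K) (S' : Sylow 2 K) : ¬ IsWreathed (S' : Subgroup K) := by
  rintro ⟨n, hn, hcard, x, y, z, hx, hxy, hdisj, hz, hzx⟩
  haveI : Fact (Nat.Prime 2) := ⟨Nat.prime_two⟩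
  haveI := hK
  let ι : (S' : Subgroup K) →* G := K.subtype.comp (S' : Subgroup K).subtype
  have hι : Function.Injective ι := K.subtype_injective.comp (S' : Subgroup K).subtype_injective
  have hyo : orderOf y = 2 ^ n := by
    rw [← hzx, show z * x * z⁻¹ = MulAut.conj z x from rfl, MulEquiv.orderOf_eq, hx]
  have hz2 : z ^ 2 = 1 := by
    have h2 := pow_orderOf_eq_one z
    rwa [hz] at h2
  have hzy : z * y * z⁻¹ = x := by
    rw [← hzx, show z * (z * x * z⁻¹) * z⁻¹ = (z * z) * x * (z * z)⁻¹ by group, ← pow_two, hz2]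
    simp
  have hcxy : Commute x y := hxy
  let f : zpowers x × zpowers y →* (S' : Subgroup K) :=
    MonoidHom.noncommCoprod (zpowers x).subtype (zpowers y).subtype fun a b => by
      obtain ⟨i, hi⟩ := mem_zpowers_iff.1 a.2
      obtain ⟨k, hk⟩ := mem_zpowers_iff.1 b.2
      show Commute (a : (S' : Subgroup K)) b
      rw [← hi, ← hk]
      exact hcxy.zpow_zpow i k
  have hfeq : ∀ a b, f (a, b) = (a : (S' : Subgroup K)) * b := fun a b => rfl
  have hf : Function.Injective f := (injective_iff_map_eq_one f).2 fun ⟨a, b⟩ hab => by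
    rw [hfeq] at hab
    have hb : (b : (S' : Subgroup K)) ∈ zpowers x ⊓ zpowers y :=
      ⟨by rw [eq_inv_of_mul_eq_one_right hab]; exact (zpowers x).inv_mem a.2, b.2⟩
    rw [hdisj, Subgroup.mem_bot] at hb
    rw [hb, mul_one] at hab
    exact Prod.ext (Subtype.ext hab) (Subtype.ext hb)
  set B := f.range with hB
  have hxB : x ∈ B := ⟨(⟨x, mem_zpowers x⟩, 1), by rw [hfeq]; simp⟩
  have hyB : y ∈ B := ⟨(1, ⟨y, mem_zpowers y⟩), by rw [hfeq]; simp⟩
  have hBcard : Nat.card B = 2 ^ (2 * n) := by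
    rw [hB, ← Nat.card_congr (MonoidHom.ofInjective hf).toEquiv, Nat.card_prod, Nat.card_zpowers,
      Nat.card_zpowers, hx, hyo, ← pow_add, two_mul]
  have hBmem : ∀ {w : (S' : Subgroup K)}, w ∈ B → ∃ i k : ℤ, w = x ^ i * y ^ k := by
    rintro _ ⟨⟨a, b⟩, rfl⟩
    obtain ⟨i, hi⟩ := mem_zpowers_iff.1 a.2
    obtain ⟨k, hk⟩ := mem_zpowers_iff.1 b.2
    exact ⟨i, k, by rw [hfeq, hi, hk]⟩
  have hBc : ∀ {w v : (S' : Subgroup K)}, w ∈ B → v ∈ B → w * v = v * w := by
    rintro _ _ ⟨a, rfl⟩ ⟨b, rfl⟩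
    rw [← map_mul, ← map_mul, mul_comm]
  have hBi : B.index = 2 := by
    have h1 := B.card_mul_index
    rw [hBcard, hcard, pow_succ] at h1
    exact Nat.eq_of_mul_eq_mul_left (by positivity) h1
  have hne : x ≠ y := fun e => by
    rw [← e, inf_idem, zpowers_eq_bot] at hdisj
    rw [hdisj, orderOf_one] at hx
    have := Nat.one_lt_two_pow (n := n) (by omega)
    omega
  have hzB : z ∉ B := fun hzB => hne (by rw [← hzx, hBc hzB hxB, mul_inv_cancel_right])
  -- the four-group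
  set x₀ := x ^ 2 ^ (n - 1) with hx₀
  set y₀ := y ^ 2 ^ (n - 1) with hy₀
  have hord : ∀ {w : (S' : Subgroup K)}, orderOf w = 2 ^ n → orderOf (w ^ 2 ^ (n - 1)) = 2 := by
    intro w hw
    rw [orderOf_pow' _ (pow_ne_zero _ two_ne_zero), hw, Nat.gcd_eq_right (pow_dvd_pow 2 (Nat.sub_le n 1)),
      Nat.pow_div (Nat.sub_le n 1) two_pos, show n - (n - 1) = 1 by omega, pow_one]
  let g : zpowers x₀ × zpowers y₀ →* (S' : Subgroup K) :=
    f.comp (MonoidHom.prodMap (inclusion (zpowers_le.2 (pow_mem (mem_zpowers x) _)))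
      (inclusion (zpowers_le.2 (pow_mem (mem_zpowers y) _))))
  have hgi : Function.Injective g := by
    refine hf.comp ?_
    intro a b hab
    have h1 := congrArg Prod.fst hab
    have h2 := congrArg Prod.snd hab
    have h3 := congrArg (fun v : zpowers x => (v : (S' : Subgroup K))) h1
    have h4 := congrArg (fun v : zpowers y => (v : (S' : Subgroup K))) h2
    exact Prod.ext (Subtype.ext h3) (Subtype.ext h4)
  have hgB : g.range ≤ B := by rintro _ ⟨a, rfl⟩; exact ⟨_, rfl⟩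
  set E := g.range.map ι with hE_def
  have hE4 : Nat.card E = 4 := by
    rw [hE_def, card_map_of_injective hι, ← Nat.card_congr (MonoidHom.ofInjective hgi).toEquiv, Nat.card_prod,
      Nat.card_zpowers, Nat.card_zpowers, hord hx, hord hyo]
  have hEK : E ≤ K := by
    rintro _ ⟨w, -, rfl⟩
    exact (w : K).2
  haveI hgc : IsMulCommutative g.range := ⟨⟨fun a b => Subtype.ext (hBc (hgB a.2) (hgB b.2))⟩⟩
  haveI hEc : IsMulCommutative E := inferInstanceAs (IsMulCommutative (g.range.map ι))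
  have hE2 : ∀ w ∈ E, w ^ 2 = 1 := by
    rintro _ ⟨_, ⟨⟨a, b⟩, rfl⟩, rfl⟩
    rw [← map_pow, ← map_pow, show ((a, b) ^ 2 : zpowers x₀ × zpowers y₀) = 1 from Prod.ext
      (orderOf_dvd_iff_pow_eq_one.1 ((orderOf_dvd_natCard a).trans (by rw [Nat.card_zpowers, hord hx])))
      (orderOf_dvd_iff_pow_eq_one.1 ((orderOf_dvd_natCard b).trans (by rw [Nat.card_zpowers, hord hyo]))),
      map_one, map_one]
  have hE : MaxElemIn 2 K E := maxElemIn_of_card_max hEK hEc hE2
    fun A h1 h2 h3 => hE4 ▸ card_elementary_le_four h hK hs hnc A h1 h2 h3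
  have hEsq : ∀ u : E, u ^ 2 = 1 := fun u => Subtype.ext (by simpa using hE2 u u.2)
  have hx₀g : x₀ ∈ g.range := ⟨(⟨x₀, mem_zpowers x₀⟩, 1), by
    show f (_, _) = x₀
    rw [hfeq]
    simp⟩
  have hy₀g : y₀ ∈ g.range := ⟨(1, ⟨y₀, mem_zpowers y₀⟩), by
    show f (_, _) = y₀
    rw [hfeq]
    simp⟩
  have hx₀E : ι x₀ ∈ E := ⟨x₀, hx₀g, rfl⟩
  have hzx₀ : z * x₀ * z⁻¹ = y₀ := by rw [hx₀, ← conj_pow, hzx]
  have hzy₀ : z * y₀ * z⁻¹ = x₀ := by rw [hy₀, ← conj_pow, hzy]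
  have hzE : ι z ∈ normalizer (E : Set G) := by
    refine mem_normalizer_fintype ?_
    rintro _ ⟨_, ⟨⟨a, b⟩, rfl⟩, rfl⟩
    obtain ⟨i, hi⟩ := mem_zpowers_iff.1 a.2
    obtain ⟨k, hk⟩ := mem_zpowers_iff.1 b.2
    refine ⟨z * g (a, b) * z⁻¹, ?_, by rw [map_mul, map_mul, map_inv]⟩
    rw [show g (a, b) = x₀ ^ i * y₀ ^ k by
      show f (_, _) = _
      rw [hfeq]
      exact congrArg₂ (· * ·) hi.symm hk.symm]
    rw [show z * (x₀ ^ i * y₀ ^ k) * z⁻¹ = (z * x₀ ^ i * z⁻¹) * (z * y₀ ^ k * z⁻¹) by group, ← conj_zpow,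
      ← conj_zpow, hzx₀, hzy₀]
    exact mul_mem (zpow_mem hy₀g i) (zpow_mem hx₀g k)
  have hne₀ : x₀ ≠ y₀ := fun e => by
    have hmem : x₀ ∈ zpowers x ⊓ zpowers y :=
      ⟨pow_mem (mem_zpowers x) _, e ▸ pow_mem (mem_zpowers y) _⟩
    rw [hdisj, Subgroup.mem_bot] at hmem
    have := hord hx
    rw [← hx₀, hmem, orderOf_one] at this
    omega
  have hAne : autN K E ≠ ⊥ := fun hb => by
    have h1 := mem_centralizer_iff.1 (autN_eq_bot_iff.1 hb ⟨(z : K).2, hzE⟩) _ hx₀E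
    change ι x₀ * ι z = ι z * ι x₀ at h1
    rw [← map_mul, ← map_mul] at h1
    have h2 := hι h1
    exact hne₀ (by rw [← hzx₀, ← h2, mul_inv_cancel_right])
  haveI := autN_normal h hK (U := E) hE.isPGroup
  haveI : Fact (Nat.Prime 3) := ⟨Nat.prime_three⟩
  obtain ⟨⟨σ, hσA⟩, hσ⟩ := exists_prime_orderOf_dvd_card' (G := autN K E) 3
    (three_dvd_of_normal hE4 hEsq _ hAne)
  rw [Subgroup.orderOf_mk] at hσ
  set BG := B.map ι with hBG
  have hBGC : BG ≤ K ⊓ centralizer (E : Set G) := by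
    rintro _ ⟨w, hw, rfl⟩
    refine ⟨(w : K).2, mem_centralizer_iff.2 ?_⟩
    rintro _ ⟨v, hv, rfl⟩
    rw [← map_mul, ← map_mul, hBc (hgB hv) hw]
  obtain ⟨X, hX, hBX⟩ := exists_isSylowIn_ge (K ⊓ centralizer (E : Set G)) BG hBGC
    ((S'.2.to_subgroup B).map ι)
  have hBGcard : Nat.card BG = 2 ^ (2 * n) := by rw [hBG, card_map_of_injective hι, hBcard]
  by_cases hXB : X = BG
  · have hXc : ∀ a ∈ X, ∀ b ∈ X, a * b = b * a := by
      rw [hXB]
      rintro _ ⟨a, ha, rfl⟩ _ ⟨b, hb, rfl⟩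
      rw [← map_mul, ← map_mul, hBc ha hb]
    have h2 := hE.isMaxElem.sylow_eq_of_comm h hK (n := 2) (by rw [hE4]; rfl) le_rfl hσA
      (by rw [hσ]; decide) (four_transitive hE4 hEsq hσ) hX hXc
    rw [h2] at hXB
    rw [← hXB, hE4, show (4 : ℕ) = 2 ^ 2 from rfl] at hBGcard
    have := Nat.pow_right_injective le_rfl hBGcard
    omega
  · -- a Sylow subgroup of `K` centralising `E`
    have hlt : BG < X := lt_of_le_of_ne hBX (Ne.symm hXB)
    obtain ⟨c, hc⟩ := hX.isP.exists_card_eq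
    have hcgt : 2 * n < c := by
      have h1 : Nat.card BG < Nat.card X := by
        by_contra h1
        exact hlt.ne (Subgroup.eq_of_le_of_card_ge hlt.le (Nat.le_of_not_lt h1))
      rw [hBGcard, hc] at h1
      exact (Nat.pow_lt_pow_iff_right (by norm_num)).1 h1
    obtain ⟨S₁, hS₁⟩ := (hX.isP.of_equiv (subgroupOfEquivOfLe (hX.le.trans inf_le_left)).symm).exists_le_sylow
    have hXK : X.subgroupOf K = (S₁ : Subgroup K) := by
      refine Subgroup.eq_of_le_of_card_ge hS₁ ?_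
      rw [Nat.card_congr (subgroupOfEquivOfLe (hX.le.trans inf_le_left)).toEquiv, S₁.card_eq_multiplicity,
        ← S'.card_eq_multiplicity, hcard, hc]
      exact Nat.pow_le_pow_right two_pos (by omega)
    obtain ⟨v, hv⟩ := MulAction.exists_smul_eq K S₁ S'
    -- central elements of `S'` are powers of `x * y`
    have hcenter : ∀ w : (S' : Subgroup K), (∀ s, w * s = s * w) → w ∈ zpowers (x * y) := by
      intro w hw
      have hwB : w ∈ B := by
        by_contra hwB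
        obtain ⟨b, hb⟩ : ∃ b : B, w = z * b := ⟨⟨z⁻¹ * w,
          (Subgroup.mul_mem_iff_of_index_two hBi).2 (iff_of_false (fun hh => hzB ((inv_mem_iff).1 hh)) hwB)⟩,
          by simp⟩
        refine hne ?_
        have h1 := hw x
        rw [hb, mul_assoc, hBc b.2 hxB, ← mul_assoc, ← mul_assoc] at h1
        rw [← hzx, mul_right_cancel h1, mul_inv_cancel_right]
      obtain ⟨i, k, rfl⟩ := hBmem hwB
      have h1 := hw z
      have h2 : z * (x ^ i * y ^ k) * z⁻¹ = x ^ i * y ^ k := by rw [← h1, mul_inv_cancel_right]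
      rw [show z * (x ^ i * y ^ k) * z⁻¹ = (z * x ^ i * z⁻¹) * (z * y ^ k * z⁻¹) by group, ← conj_zpow,
        ← conj_zpow, hzx, hzy] at h2
      have h3 : x ^ (k - i) = y ^ (k - i) := by
        rw [zpow_sub, zpow_sub, ← mul_inv_eq_one]
        have h4 : x ^ k * y ^ i = x ^ i * y ^ k := by rw [(hcxy.zpow_zpow k i).eq]; exact h2
        calc x ^ k * (x ^ i)⁻¹ * (y ^ k * (y ^ i)⁻¹)⁻¹
            = x ^ k * ((x ^ i)⁻¹ * y ^ i) * (y ^ k)⁻¹ := by group
          _ = x ^ k * (y ^ i * (x ^ i)⁻¹) * (y ^ k)⁻¹ := by rw [((hcxy.zpow_zpow i i).inv_left).eq]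
          _ = (x ^ k * y ^ i) * (y ^ k * x ^ i)⁻¹ := by group
          _ = 1 := by rw [h4, (hcxy.zpow_zpow i k).eq, mul_inv_cancel]
      have h5 : x ^ (k - i) ∈ zpowers x ⊓ zpowers y :=
        ⟨zpow_mem (mem_zpowers x) _, h3.symm ▸ zpow_mem (mem_zpowers y) _⟩
      rw [hdisj, Subgroup.mem_bot] at h5
      have h6 : y ^ k = y ^ i := by
        rw [← sub_add_cancel k i, zpow_add, ← h3, h5, one_mul]
      exact ⟨i, by show (x * y) ^ i = _; rw [hcxy.mul_zpow, h6]⟩
    -- the conjugate of `E` is central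
    have hmemv : ∀ u : E, v * ⟨(u : G), hEK u.2⟩ * v⁻¹ ∈ (S' : Subgroup K) := by
      intro u
      rw [← hv, Sylow.smul_def]
      refine ⟨⟨(u : G), hEK u.2⟩, hXK ▸ ?_, rfl⟩
      exact hE.isMaxElem.le_of_isSylowIn hX u.2
    let ψ : E → (S' : Subgroup K) := fun u => ⟨_, hmemv u⟩
    have hψmem : ∀ u : E, ψ u ∈ zpowers (x * y) ∧ ψ u ^ 2 = 1 := by
      intro u
      refine ⟨hcenter _ fun s => ?_, Subtype.ext ?_⟩
      · obtain ⟨s₁, hs₁, hs₁s⟩ : ∃ s₁ ∈ (S₁ : Subgroup K), v * s₁ * v⁻¹ = (s : K) := by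
          have hmem : (s : K) ∈ ((v • S₁ : Sylow 2 K) : Subgroup K) := hv.symm ▸ s.2
          rw [Sylow.smul_def] at hmem
          obtain ⟨s₁, hs₁, he⟩ := hmem
          exact ⟨s₁, hs₁, he⟩
        have hsX : (s₁ : G) ∈ X := by
          rw [← hXK] at hs₁
          exact hs₁
        have hcomm : (⟨(u : G), hEK u.2⟩ : K) * s₁ = s₁ * ⟨(u : G), hEK u.2⟩ :=
          Subtype.ext (mem_centralizer_iff.1 (hX.le hsX).2 u u.2)
        refine Subtype.ext ?_
        show v * ⟨(u : G), hEK u.2⟩ * v⁻¹ * (s : K) = (s : K) * (v * ⟨(u : G), hEK u.2⟩ * v⁻¹)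
        rw [← hs₁s]
        calc v * ⟨(u : G), hEK u.2⟩ * v⁻¹ * (v * s₁ * v⁻¹) = v * (⟨(u : G), hEK u.2⟩ * s₁) * v⁻¹ := by group
          _ = v * s₁ * v⁻¹ * (v * ⟨(u : G), hEK u.2⟩ * v⁻¹) := by rw [hcomm]; group
      · show (v * ⟨(u : G), hEK u.2⟩ * v⁻¹) ^ 2 = 1
        rw [conj_pow, show (⟨(u : G), hEK u.2⟩ : K) ^ 2 = 1 from Subtype.ext (hE2 u u.2), mul_one, mul_inv_cancel]
    have hψinj : Function.Injective ψ := fun u w e => by
      have h1 := congrArg (fun s : (S' : Subgroup K) => (s : K)) e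
      exact Subtype.ext (congrArg (fun t : K => (t : G)) (mul_left_cancel (mul_right_cancel h1)))
    have h2 : Nat.card E ≤ Nat.card {c : zpowers (x * y) // c ^ 2 = 1} :=
      Nat.card_le_card_of_injective (fun u => (⟨⟨ψ u, (hψmem u).1⟩, Subtype.ext (hψmem u).2⟩ :
        {c : zpowers (x * y) // c ^ 2 = 1})) fun u w e => hψinj (congrArg (fun c => c.1.1) e)
    have h3 : Nat.card {c : zpowers (x * y) // c ^ 2 = 1} ≤ 2 := by
      classical
      letI := Fintype.ofFinite (zpowers (x * y))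
      rw [Nat.card_eq_fintype_card, Fintype.card_subtype]
      exact IsCyclic.card_pow_eq_one_le two_pos
    omega

theorem dihedral_two_comm : ∀ a b : DihedralGroup 2, a * b = b * a := by decide

theorem dihedral_two_card : Nat.card {v : DihedralGroup 2 // v * v = 1} = 4 := by
  rw [Nat.card_eq_fintype_card]
  decide

/-- All 2-elements lie in a simple characteristic subgroup. -/
theorem mem_of_two_pow_simple (h : IsoExt 2 G) (hK : K.Characteristic) (hs : IsSimpleGroup K)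
    (hnc : ¬ IsMulCommutative K) {x : G} (hx : ∃ k : ℕ, x ^ 2 ^ k = 1) : x ∈ K := by
  haveI : Fact (Nat.Prime 2) := ⟨Nat.prime_two⟩
  haveI := hK
  obtain ⟨k, hk⟩ := hx
  have hpx : IsPGroup 2 (zpowers x) := by
    obtain ⟨b, -, hb⟩ := (Nat.dvd_prime_pow Nat.prime_two).1 (orderOf_dvd_of_pow_eq_one hk)
    exact IsPGroup.of_card (n := b) (by rw [Nat.card_zpowers, hb])
  obtain ⟨P, hxP⟩ := hpx.exists_le_sylow
  suffices hPK : (P : Subgroup G) ≤ K from hPK (hxP (mem_zpowers x))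
  obtain ⟨S', hS'⟩ := (isSylowIn_inf P K).exists_sylow
  haveI := hs
  have hrk : PRankLE 2 2 K := fun A hA hA2 => by
    haveI := hA
    have := card_elementary_le_four h hK hs hnc (A.map K.subtype) (map_subtype_le _) inferInstance
      (by rintro _ ⟨a, ha, rfl⟩; rw [← map_pow, hA2 a ha, map_one])
    rwa [card_map_of_injective K.subtype_injective] at this
  let ι : (S' : Subgroup K) →* G := K.subtype.comp (S' : Subgroup K).subtype
  have hι : Function.Injective ι := K.subtype_injective.comp (S' : Subgroup K).subtype_injective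
  have hιS : ∀ {w : G}, w ∈ (P : Subgroup G) ⊓ K ↔ ∃ s, ι s = w := by
    intro w
    rw [← hS']
    exact ⟨fun ⟨a, ha, hw⟩ => ⟨⟨a, ha⟩, hw⟩, fun ⟨s, hs⟩ => ⟨s, s.2, hs⟩⟩
  let F := GaloisField 2 4
  letI : Fintype F := Fintype.ofFinite F
  have hF : Fintype.card F = 16 := by
    rw [← Nat.card_eq_fintype_card, GaloisField.card 2 4 (by norm_num)]
    norm_num
  have hA : (∀ w : (S' : Subgroup K), w * w = 1 → ∀ s, s * w = w * s) →
      Nat.card {w : (S' : Subgroup K) // w * w = 1} = 4 → (P : Subgroup G) ≤ K := by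
    intro hcen hcard
    refine sylow_le_of_central_involutions h hK hs hnc P _ rfl ?_ ?_
    · intro w hw hw2 s hs'
      obtain ⟨w, rfl⟩ := hιS.1 hw
      obtain ⟨s, rfl⟩ := hιS.1 hs'
      rw [← map_mul, ← map_mul, hcen w (hι (by rw [map_mul, map_one]; exact hw2)) s]
    · rw [← hcard]
      let e : (S' : Subgroup K) ≃* ((P : Subgroup G) ⊓ K : Subgroup G) :=
        ((S' : Subgroup K).equivMapOfInjective K.subtype K.subtype_injective).trans
          (MulEquiv.subgroupCongr hS')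
      refine (Nat.card_congr (e.toEquiv.subtypeEquiv fun w => ?_)).symm
      show w * w = 1 ↔ e w * e w = 1
      rw [← map_mul, map_eq_one_iff e e.injective]
  rcases S0516.result hnc hrk S' hF (default : Sylow 2 (Cfsg.PSU 3 F 4)) with
    ⟨n, hn, ⟨e⟩⟩ | hq | hw | ⟨⟨e⟩⟩
  · -- dihedral
    haveI : NeZero n := ⟨by omega⟩
    obtain ⟨m, hm⟩ : ∃ m, n = 2 ^ m := by
      obtain ⟨c, hc⟩ := (IsPGroup.iff_card.1 S'.2)
      rw [Nat.card_congr e.toEquiv, DihedralGroup.nat_card] at hc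
      obtain ⟨d, -, hd⟩ := (Nat.dvd_prime_pow Nat.prime_two).1 (⟨2, by rw [← hc, mul_comm]⟩ : n ∣ 2 ^ c)
      exact ⟨d, hd⟩
    have hm1 : 1 ≤ m := by
      by_contra h0
      rw [show m = 0 by omega] at hm
      omega
    rcases Nat.eq_or_lt_of_le hm1 with hm1' | hm2
    · obtain rfl : n = 2 := by rw [hm, ← hm1']; rfl
      refine hA (fun w _ s => e.injective ?_) ?_
      · rw [map_mul, map_mul]
        exact dihedral_two_comm _ _
      · rw [← Nat.card_congr (e.symm.toEquiv.subtypeEquiv (p := fun v => v * v = 1) fun v => by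
          show v * v = 1 ↔ e.symm v * e.symm v = 1
          rw [← map_mul, map_eq_one_iff e.symm e.symm.injective])]
        exact dihedral_two_card
    · set a := ι (e.symm (DihedralGroup.r 1)) with ha
      set b := ι (e.symm (DihedralGroup.sr 0)) with hb
      have hιe : ∀ v, ι (e.symm v) = (ι.comp e.symm.toMonoidHom) v := fun v => rfl
      have hιi : Function.Injective (ι.comp e.symm.toMonoidHom) := fun p q hpq => e.symm.injective (hι hpq)
      refine sylow_le_of_cyclic_index_two h hK P _ rfl (hιS.2 ⟨_, rfl⟩) (hιS.2 ⟨_, rfl⟩) (a := a) (b := b) hm2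
        ?_ ?_ ?_ (j := -1) ?_ ?_ (Or.inl (by simp))
      · rw [ha, hιe, orderOf_injective _ hιi, DihedralGroup.orderOf_r_one, hm]
      · rw [hb, hιe, ← map_pow]
        have : (DihedralGroup.sr 0 : DihedralGroup n) ^ 2 = 1 := by
          rw [← DihedralGroup.orderOf_sr (0 : ZMod n), pow_orderOf_eq_one]
        rw [this, map_one]
      · intro hmem
        obtain ⟨i, hi⟩ := mem_zpowers_iff.1 hmem
        rw [ha, hb, hιe, hιe, ← map_zpow] at hi
        have := hιi hi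
        rw [DihedralGroup.r_one_zpow] at this
        exact absurd this (by simp)
      · rw [ha, hb, hιe, hιe, ← map_inv, ← map_mul, ← map_mul, ← map_zpow]
        congr 1
        simp
      · intro w hw
        obtain ⟨s, rfl⟩ := hιS.1 hw
        obtain ⟨v, rfl⟩ := e.symm.surjective s
        have hr : ∀ i : ZMod n, ι (e.symm (DihedralGroup.r i)) ∈ zpowers a := fun i => by
          refine ⟨(i.val : ℤ), ?_⟩
          show a ^ ((i.val : ℕ) : ℤ) = _
          rw [zpow_natCast, ha, hιe, ← map_pow, DihedralGroup.r_one_pow, ZMod.natCast_zmod_val]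
          rfl
        cases v with
        | r i => exact Or.inl (hr i)
        | sr i =>
          right
          rw [hb, hιe, hιe, ← map_mul, DihedralGroup.sr_mul_sr]
          exact hr _
  · -- semidihedral
    obtain ⟨n, hn, hcard, x', y', hx', hy', hyx⟩ := hq
    set j : ℕ := 2 ^ (n - 1) - 1 with hj
    have hy2 : y' ^ 2 = 1 := by
      have h2 := pow_orderOf_eq_one y'
      rwa [hy'] at h2
    have hyA : y' ∉ zpowers x' := by
      intro hmem
      obtain ⟨i, hi⟩ := mem_zpowers_iff.1 hmem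
      have hc : Commute y' x' := hi ▸ ((Commute.refl x').zpow_left i)
      rw [hc.eq, mul_inv_cancel_right] at hyx
      have h4 : 4 ≤ 2 ^ (n - 1) :=
        le_trans (by norm_num : 4 ≤ 2 ^ 2) (Nat.pow_le_pow_right two_pos (by omega))
      have h1 : x' ^ (j - 1) = 1 := by
        have h2 : x' ^ (j - 1) * x' = 1 * x' := by
          rw [← pow_succ, show j - 1 + 1 = j by omega, ← hyx, one_mul]
        exact mul_right_cancel h2
      have h2 := Nat.le_of_dvd (by omega) (hx' ▸ orderOf_dvd_of_pow_eq_one h1)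
      have h3 : 2 ^ (n - 1) < 2 ^ n := Nat.pow_lt_pow_right (by norm_num) (by omega)
      omega
    have hidx : (zpowers x').index = 2 := by
      have h1 := (zpowers x').card_mul_index
      rw [Nat.card_zpowers, hx', hcard, pow_succ] at h1
      exact Nat.eq_of_mul_eq_mul_left (by positivity) h1
    refine sylow_le_of_cyclic_index_two h hK P _ rfl (hιS.2 ⟨x', rfl⟩) (hιS.2 ⟨y', rfl⟩)
      (a := ι x') (b := ι y') (m := n) (by omega) ?_ ?_ ?_ (j := (j : ℤ)) ?_ ?_ (Or.inr ⟨hn, ?_⟩)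
    · rw [orderOf_injective _ hι, hx']
    · rw [← map_pow, hy2, map_one]
    · intro hmem
      obtain ⟨i, hi⟩ := mem_zpowers_iff.1 hmem
      rw [← map_zpow] at hi
      exact hyA ⟨i, hι hi⟩
    · rw [← map_inv, ← map_mul, ← map_mul, zpow_natCast, ← map_pow]
      exact congrArg ι hyx
    · intro w hw
      obtain ⟨s, rfl⟩ := hιS.1 hw
      by_cases hs' : s ∈ zpowers x'
      · exact Or.inl (by
          obtain ⟨i, rfl⟩ := mem_zpowers_iff.1 hs'
          rw [map_zpow]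
          exact zpow_mem (mem_zpowers _) i)
      · right
        obtain ⟨i, hi⟩ := mem_zpowers_iff.1
          ((Subgroup.mul_mem_iff_of_index_two hidx).2 (iff_of_false hyA hs'))
        rw [← map_mul, ← hi, map_zpow]
        exact zpow_mem (mem_zpowers _) i
    · have h4 : 1 ≤ 2 ^ (n - 1) := Nat.one_le_two_pow
      rw [hj, Nat.cast_sub h4]
      push_cast
      ring_nf
      exact dvd_zero _
  · exact absurd hw (not_isWreathed h hK hs hnc S')
  · -- the Sylow subgroup of `U₃(4)`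
    have hp := (SylL34.props_of_sylow hF (default : Sylow 2 (Cfsg.PSU 3 F 4))).of_equiv e
    exact hA (fun w hw s => Subgroup.mem_center_iff.1 (hp.central w hw) s) hp.card_inv

end Cfsg.Agent.Homogeneous
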