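import Cfsg.Agent.Lib.Homogeneous.OuterTwoQuaternion
import Cfsg.Agent.Lib.Homogeneous.OuterTwoSimple
import Cfsg.Agent.Lib.Homogeneous.OuterOdd
import Cfsg.Agent.Lib.Homogeneous.CoprimeOut

/-!
# The structure of homogeneous finite groups
-/

set_option autoImplicit false
set_option linter.style.haveILetI false

namespace Cfsg.Agent.Homogeneous

open Subgroup Cfsg
open scoped IsMulCommutative

universe u
variable {G : Type u} [Group G] [Finite G]

theorem CoreData.nontrivial_quotient (d : CoreData G) : Nontrivial (d.K ⧸ Subgroup.center d.K) :=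
  d.quasi.2.toNontrivial

theorem CoreData.simple (d : CoreData G) (hodd : ¬ 2 ∣ Nat.card (solvableRadical G)) :
    IsSimpleGroup d.K ∧ ¬ IsMulCommutative d.K := by
  have hb := d.inf_eq_bot_iff.2 hodd
  haveI := d.char
  set K := d.K with hKdef
  have hZ : Subgroup.center K = ⊥ := by
    have hle : (Subgroup.center K).map K.subtype ≤ solvableRadical G := by
      refine le_solvableRadical inferInstance ?_
      haveI : IsMulCommutative (Subgroup.center K) := ⟨⟨fun a b => Subtype.ext (mem_center_iff.1 b.2 a)⟩⟩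
      exact Group.isSolvable_of_surjective (K.subtype.subgroupMap_surjective (Subgroup.center K))
    refine (Subgroup.map_eq_bot_iff_of_injective _ K.subtype_injective).1 (eq_bot_iff.2 ?_)
    rw [← hb]
    exact le_inf (map_subtype_le _) hle
  have hnc : ¬ IsMulCommutative K := fun hc => d.not_isSolvable (by haveI := hc; infer_instance)
  refine ⟨?_, hnc⟩
  haveI := d.quasi.2
  let e : K ≃* K ⧸ Subgroup.center K :=
    (QuotientGroup.quotientBot.symm.trans (QuotientGroup.quotientMulEquivOfEq hZ.symm))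
  haveI := e.symm.injective.nontrivial
  exact IsSimpleGroup.isSimpleGroup_of_surjective (f := e.symm.toMonoidHom) e.symm.surjective

theorem CoreData.mem_of_two_pow (d : CoreData G) (h : IsoExt 2 G) (hns : ¬ Group.IsSolvable G) {x : G}
    (hx : ∃ k : ℕ, x ^ 2 ^ k = 1) : x ∈ d.K := by
  by_cases hd : 2 ∣ Nat.card (solvableRadical G)
  · exact d.mem_of_two_pow_even h hns hd hx
  · obtain ⟨hs, hnc⟩ := d.simple hd
    exact mem_of_two_pow_simple h d.char hs hnc hx

/-- Every element of prime power order lies in `K` or in the radical. -/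
theorem CoreData.mem_or_mem (d : CoreData G) (h : ∀ p : ℕ, IsoExt p G) (hns : ¬ Group.IsSolvable G) {q : ℕ}
    (hq : q.Prime) {x : G} (hx : ∃ k : ℕ, x ^ q ^ k = 1) :
    (q = 2 ∧ x ∈ d.K) ∨ (q ≠ 2 ∧ q ∣ Nat.card d.K ∧ x ∈ d.K) ∨
      (q ≠ 2 ∧ ¬ q ∣ Nat.card d.K ∧ x ∈ solvableRadical G) := by
  haveI : Fact q.Prime := ⟨hq⟩
  by_cases hq2 : q = 2
  · subst hq2
    exact Or.inl ⟨rfl, d.mem_of_two_pow (h 2) hns hx⟩
  · by_cases hqK : q ∣ Nat.card d.K
    · exact Or.inr (Or.inl ⟨hq2, hqK, mem_of_odd_prime_pow hq2 (h q) d.char d.perfect hqK hx⟩)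
    · exact Or.inr (Or.inr ⟨hq2, hqK,
        d.centralizer_le (mem_centralizer_of_coprime h d.char d.quasi hq2 hqK hx)⟩)

theorem CoreData.sup_eq_top (d : CoreData G) (h : ∀ p : ℕ, IsoExt p G) (hns : ¬ Group.IsSolvable G) :
    solvableRadical G ⊔ d.K = ⊤ :=
  eq_top_of_primePow_mem _ fun _ hq _ hx => by
    rcases d.mem_or_mem h hns hq hx with ⟨-, h1⟩ | ⟨-, -, h1⟩ | ⟨-, -, h1⟩
    · exact mem_sup_right h1
    · exact mem_sup_right h1
    · exact mem_sup_left h1

theorem CoreData.coprime_of_odd (d : CoreData G) (h : ∀ p : ℕ, IsoExt p G) {H : Subgroup G}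
    (hH : H ≤ solvableRadical G) (hodd : ¬ 2 ∣ Nat.card H) : (Nat.card H).Coprime (Nat.card d.K) := by
  refine Nat.coprime_of_dvd fun q hq hqH hqK => ?_
  haveI : Fact q.Prime := ⟨hq⟩
  exact not_dvd_perfectCore (fun e => hodd (e ▸ hqH)) (h q) (hqH.trans (card_dvd_of_le hH))
    (hqK.trans (card_dvd_of_le d.le_core))

/-- In the even case the odd-order elements of the radical lie in its odd core. -/
theorem CoreData.radical_le_sup (d : CoreData G) (h : ∀ p : ℕ, IsoExt p G) (hns : ¬ Group.IsSolvable G)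
    {x : G} (hx : x ∈ solvableRadical G) (hxodd : Odd (orderOf x)) : x ∈ solvPrime 2 G := by
  haveI : Fact (Nat.Prime 2) := ⟨Nat.prime_two⟩
  obtain ⟨hRn, hRs⟩ := solvableRadical_spec (G := G)
  haveI := hRn
  haveI := d.char
  set R := solvableRadical G with hR
  set M := (d.K ⊓ R).subgroupOf R with hM
  haveI : M.Normal := inferInstance
  obtain ⟨c, hc⟩ := IsPGroup.iff_card.1 d.two_group
  have hMcard : Nat.card M = 2 ^ c := by
    rw [hM, Nat.card_congr (subgroupOfEquivOfLe inf_le_right).toEquiv, hc]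
  have hMindex : ¬ 2 ∣ M.index := fun hd => by
    obtain ⟨Q⟩ : Nonempty (Sylow 2 R) := inferInstance
    have hQM : (Q : Subgroup R) ≤ M := fun w hw => by
      obtain ⟨i, hi⟩ := Q.2 ⟨w, hw⟩
      have hw' : (w : G) ^ 2 ^ i = 1 := by
        simpa using congrArg (fun v : (Q : Subgroup R) => ((v : R) : G)) hi
      exact ⟨d.mem_of_two_pow (h 2) hns ⟨i, hw'⟩, w.2⟩
    exact Q.not_dvd_index (hd.trans (index_dvd_of_le hQM))
  have hcop : (Nat.card M).Coprime M.index := by
    rw [hMcard]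
    exact (Nat.prime_two.coprime_iff_not_dvd.2 hMindex).pow_left c
  obtain ⟨C, hC⟩ := Subgroup.exists_right_complement'_of_coprime hcop
  have hCcard : Nat.card C = M.index := (hC.symm.index_eq_card).symm
  -- `M` is central in `R`
  have hMcen : ∀ m ∈ M, ∀ w : R, m * w = w * m := fun m hm w => Subtype.ext
    (mem_centralizer_iff.1 (d.radical_le w.2) _ (hm.1 : (m : G) ∈ d.K))
  have hCmem : ∀ w : R, Odd (orderOf w) → w ∈ C := by
    intro w hw
    obtain ⟨⟨⟨m, hm⟩, ⟨v, hv⟩⟩, hmv⟩ := hC.2 w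
    simp only at hmv
    have hcop' : (2 ^ c).Coprime (orderOf w * Nat.card C) :=
      (Nat.Coprime.mul_right (Nat.coprime_two_left.2 hw)
        (hCcard ▸ Nat.prime_two.coprime_iff_not_dvd.2 hMindex)).pow_left c
    obtain ⟨N, hN⟩ : ∃ N, N = orderOf w * Nat.card C := ⟨_, rfl⟩
    have hwN : w ^ N = 1 := by rw [hN, pow_mul, pow_orderOf_eq_one, one_pow]
    have hvN : v ^ N = 1 := orderOf_dvd_iff_pow_eq_one.1 (hN ▸ dvd_mul_of_dvd_right (by
      have := orderOf_dvd_natCard (⟨v, hv⟩ : C)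
      rwa [Subgroup.orderOf_mk] at this) _)
    have h1 : m ^ N = 1 := by
      rw [← hmv, (show Commute m v from hMcen m hm v).mul_pow, hvN, mul_one] at hwN
      exact hwN
    have hmc : orderOf m ∣ 2 ^ c := by
      have := orderOf_dvd_natCard (⟨m, hm⟩ : M)
      rwa [Subgroup.orderOf_mk, hMcard] at this
    have hm1 : m = 1 := orderOf_eq_one_iff.1
      (Nat.eq_one_of_dvd_coprimes hcop' hmc (hN ▸ orderOf_dvd_of_pow_eq_one h1))
    rw [hm1, one_mul] at hmv
    exact hmv ▸ hv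
  have hCodd : ∀ w ∈ C, Odd (orderOf w) := fun w hw => by
    have h1 := orderOf_dvd_natCard (⟨w, hw⟩ : C)
    rw [Subgroup.orderOf_mk, hCcard] at h1
    exact Nat.not_even_iff_odd.1 fun he => hMindex (he.two_dvd.trans h1)
  set H := C.map R.subtype with hH
  have hHn : H.Normal := ⟨fun y hy g => by
    obtain ⟨w, hw, rfl⟩ := hy
    refine ⟨⟨g * w * g⁻¹, hRn.conj_mem _ w.2 g⟩, hCmem _ ?_, rfl⟩
    rw [Subgroup.orderOf_mk, show g * (w : G) * g⁻¹ = MulAut.conj g (w : G) from rfl, MulEquiv.orderOf_eq,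
      Subgroup.orderOf_coe]
    exact hCodd w hw⟩
  have hHle : H ≤ solvPrime 2 G := le_sSup ⟨hHn,
    (haveI := hRs; Group.isSolvable_of_isSolvable_injective (f := inclusion (map_subtype_le C))
      (inclusion_injective _)),
    by rw [hH, card_map_of_injective R.subtype_injective, hCcard]; exact hMindex⟩
  exact hHle ⟨⟨x, hx⟩, hCmem _ (by rwa [Subgroup.orderOf_mk]), rfl⟩

/-- The structure theorem. -/
theorem exists_decomposition (hG : IsHomogeneous G) :
    ∃ H K : Subgroup G, H.Normal ∧ K.Normal ∧ H ⊓ K = ⊥ ∧ H ⊔ K = ⊤ ∧ (Nat.card H).Coprime (Nat.card K) ∧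
      Group.IsSolvable H ∧ (K = ⊥ ∨ IsQuasisimple K) ∧ IsHomogeneous H ∧ IsHomogeneous K := by
  by_cases hs : Group.IsSolvable G
  · refine ⟨⊤, ⊥, inferInstance, inferInstance, inf_bot_eq ⊤, sup_bot_eq ⊤, ?_, inferInstance, Or.inl rfl,
      hG.subgroup ⊤ inferInstance, hG.subgroup ⊥ inferInstance⟩
    rw [Subgroup.card_bot]
    exact Nat.coprime_one_right _
  have h : ∀ p : ℕ, IsoExt p G := hG.isoExt
  obtain ⟨d⟩ := exists_coreData h hs
  obtain ⟨hRn, hRs⟩ := solvableRadical_spec (G := G)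
  haveI := d.char
  by_cases hd : 2 ∣ Nat.card (solvableRadical G)
  · obtain ⟨hSn, hSs, hS2⟩ := solvPrime_spec (G := G) Nat.prime_two
    refine ⟨solvPrime 2 G, d.K, hSn, inferInstance, ?_, ?_, ?_, hSs, Or.inr d.quasi,
      hG.subgroup _ (solvPrime_characteristic 2), hG.subgroup _ d.char⟩
    · refine eq_bot_iff.2 fun x hx => ?_
      have hxM : x ∈ d.K ⊓ solvableRadical G := ⟨hx.2, solvPrime_le_solvableRadical 2 hx.1⟩
      obtain ⟨k, hk⟩ := d.two_group ⟨x, hxM⟩
      exact Subgroup.mem_bot.2 (eq_one_of_two_pow_mem hS2 hx.1 (congrArg Subtype.val hk))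
    · refine eq_top_of_primePow_mem _ fun q hq x hx => ?_
      rcases d.mem_or_mem h hs hq hx with ⟨-, h1⟩ | ⟨-, -, h1⟩ | ⟨hq2, -, h1⟩
      · exact mem_sup_right h1
      · exact mem_sup_right h1
      · obtain ⟨k, hk⟩ := hx
        exact mem_sup_left (d.radical_le_sup h hs h1
          (Odd.of_dvd_nat (Odd.pow (hq.odd_of_ne_two hq2)) (orderOf_dvd_of_pow_eq_one hk)))
    · exact d.coprime_of_odd h (solvPrime_le_solvableRadical 2) hS2
  · refine ⟨solvableRadical G, d.K, hRn, inferInstance, ?_, d.sup_eq_top h hs,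
      d.coprime_of_odd h le_rfl hd, hRs, Or.inr d.quasi, hG.subgroup _ solvableRadical_characteristic,
      hG.subgroup _ d.char⟩
    rw [inf_comm]
    exact d.inf_eq_bot_iff.2 hd

end Cfsg.Agent.Homogeneous
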