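import Cfsg.Agent.Lib.Homogeneous.IsoExt
import Cfsg.Agent.Lib.Homogeneous.Automizer
import Cfsg.Agent.Lib.PGroup.SCN
import Cfsg.Agent.S1946

/-!
# Elementary abelian subgroups of maximal order in a normal subgroup, and its Sylow subgroups
-/

set_option autoImplicit false
set_option linter.style.haveILetI false

namespace Cfsg.Agent.Homogeneous

open Subgroup

universe u
variable {G : Type u} [Group G] [Finite G] {p : ℕ}

/-- A subgroup containing all elements of prime power order is everything. -/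
theorem eq_top_of_primePow_mem (L : Subgroup G)
    (h : ∀ q : ℕ, q.Prime → ∀ x : G, (∃ k : ℕ, x ^ q ^ k = 1) → x ∈ L) : L = ⊤ := by
  refine eq_top_of_card_eq L (Nat.dvd_antisymm (card_subgroup_dvd_card L) ?_)
  refine (Nat.dvd_iff_prime_pow_dvd_dvd _ _).2 fun q k hq hdvd => ?_
  haveI : Fact q.Prime := ⟨hq⟩
  obtain ⟨Q, hQ⟩ := Sylow.exists_subgroup_card_pow_prime q hdvd
  have hQL : Q ≤ L := fun x hx => h q hq x ⟨k, by
    have := pow_card_eq_one' (G := Q) (x := ⟨x, hx⟩)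
    rw [hQ] at this
    exact congrArg Subtype.val this⟩
  exact hQ ▸ card_dvd_of_le hQL

/-- `p`-elements of `R ⊔ K` lie in `K` if `p` does not divide `|R|`. -/
theorem mem_of_mem_sup [hp : Fact p.Prime] {R K : Subgroup G} [K.Normal] (hR : ¬ p ∣ Nat.card R) {x : G}
    (hx : x ∈ R ⊔ K) {k : ℕ} (hk : x ^ p ^ k = 1) : x ∈ K := by
  set π := QuotientGroup.mk' K
  have hmem : π x ∈ R.map π := by
    have h1 : (R ⊔ K).map π = R.map π := by
      rw [Subgroup.map_sup, sup_eq_left]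
      rintro _ ⟨y, hy, rfl⟩
      rw [show π y = 1 from (QuotientGroup.eq_one_iff y).2 hy]
      exact one_mem _
    exact h1 ▸ mem_map_of_mem π hx
  have h2 : orderOf (π x) ∣ Nat.card R := by
    have := orderOf_dvd_natCard (⟨π x, hmem⟩ : R.map π)
    rw [Subgroup.orderOf_mk] at this
    exact this.trans (R.card_map_dvd π)
  have h3 : orderOf (π x) ∣ p ^ k := orderOf_dvd_of_pow_eq_one (by rw [← map_pow, hk, map_one])
  refine (QuotientGroup.eq_one_iff x).1 (orderOf_eq_one_iff.1 (show orderOf (π x) = 1 from ?_))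
  exact Nat.eq_one_of_dvd_coprimes ((hp.out.coprime_iff_not_dvd.2 hR).pow_left k) h3 h2

/-- A Sylow subgroup meets a normal subgroup in a Sylow subgroup of it. -/
theorem isSylowIn_inf [Fact p.Prime] (P : Sylow p G) (K : Subgroup G) [hK : K.Normal] :
    IsSylowIn p K ((P : Subgroup G) ⊓ K) := by
  refine ⟨inf_le_right, P.2.to_le inf_le_left, fun Q hQ hle hQK => ?_⟩
  obtain ⟨S, hS⟩ := hQ.exists_le_sylow
  obtain ⟨g, hg⟩ := MulAction.exists_smul_eq G P S
  have h1 : Q ≤ ((P : Subgroup G) ⊓ K).map (MulAut.conj g).toMonoidHom := by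
    intro x hx
    obtain ⟨y, hy, rfl⟩ : ∃ y ∈ (P : Subgroup G), g * y * g⁻¹ = x := by
      have h2 : x ∈ ((g • P : Sylow p G) : Subgroup G) := hg.symm ▸ hS hx
      rw [Sylow.smul_def] at h2
      obtain ⟨y, hy, hyx⟩ := h2
      exact ⟨y, hy, hyx⟩
    refine ⟨y, ⟨hy, ?_⟩, rfl⟩
    have := hK.conj_mem _ (hQK hx) g⁻¹
    have e : g⁻¹ * (g * y * g⁻¹) * g⁻¹⁻¹ = y := by group
    exact e ▸ this
  refine (Subgroup.eq_of_le_of_card_ge hle ?_).symm
  exact (Nat.le_of_dvd Nat.card_pos (card_dvd_of_le h1)).trans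
    (le_of_eq (card_map_of_injective (MulAut.conj g).injective))

/-- `E` is an elementary abelian `p`-subgroup of `N` with all elements of order `p` of `C_N(E)`. -/
structure MaxElemIn (p : ℕ) (N E : Subgroup G) : Prop where
  le : E ≤ N
  comm : IsMulCommutative E
  pow : ∀ x ∈ E, x ^ p = 1
  max : ∀ x ∈ N, x ∈ centralizer (E : Set G) → x ^ p = 1 → x ∈ E

theorem MaxElemIn.isPGroup {N E : Subgroup G} (h : MaxElemIn p N E) : IsPGroup p E :=
  fun x => ⟨1, Subtype.ext (by simpa using h.pow x x.2)⟩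

theorem MaxElemIn.exists_card [Fact p.Prime] {N E : Subgroup G} (h : MaxElemIn p N E) :
    ∃ n : ℕ, Nat.card E = p ^ n :=
  h.isPGroup.exists_card_eq

omit [Finite G] in
/-- Adjoining a centralising element of exponent `p` to an elementary abelian group. -/
theorem elementary_sup_zpowers {E : Subgroup G} (hc : IsMulCommutative E) (hp : ∀ y ∈ E, y ^ p = 1)
    {x : G} (hx : x ∈ centralizer (E : Set G)) (hxp : x ^ p = 1) :
    IsMulCommutative ↥(E ⊔ zpowers x) ∧ ∀ y ∈ E ⊔ zpowers x, y ^ p = 1 := by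
  have hA := PGroup.isMulCommutative_sup_zpowers hc hx
  refine ⟨hA, fun y hy => ?_⟩
  let U : Subgroup G :=
    { carrier := {y | y ∈ E ⊔ zpowers x ∧ y ^ p = 1}
      one_mem' := ⟨one_mem _, one_pow p⟩
      mul_mem' := fun {a b} ha hb => ⟨mul_mem ha.1 hb.1, by
        rw [Commute.mul_pow (congrArg Subtype.val (hA.is_comm.comm ⟨a, ha.1⟩ ⟨b, hb.1⟩)), ha.2, hb.2, one_mul]⟩
      inv_mem' := fun {a} ha => ⟨inv_mem ha.1, by rw [inv_pow, ha.2, inv_one]⟩ }
  have hle : E ⊔ zpowers x ≤ U := sup_le (fun a ha => ⟨mem_sup_left ha, hp a ha⟩)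
    (zpowers_le.2 ⟨mem_sup_right (mem_zpowers x), hxp⟩)
  exact (hle hy).2

/-- An elementary abelian subgroup of maximal order is maximal. -/
theorem maxElemIn_of_card_max {N E : Subgroup G} (hle : E ≤ N) (hc : IsMulCommutative E)
    (hp : ∀ y ∈ E, y ^ p = 1)
    (hmax : ∀ A : Subgroup G, A ≤ N → IsMulCommutative A → (∀ a ∈ A, a ^ p = 1) → Nat.card A ≤ Nat.card E) :
    MaxElemIn p N E := by
  refine ⟨hle, hc, hp, fun x hxN hxC hxp => ?_⟩
  obtain ⟨h1, h2⟩ := elementary_sup_zpowers hc hp hxC hxp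
  have h3 := hmax _ (sup_le hle (zpowers_le.2 hxN)) h1 h2
  exact (Subgroup.eq_of_le_of_card_ge le_sup_left h3) ▸ mem_sup_right (mem_zpowers x)

/-- Elementary abelian subgroups of maximal order exist. -/
theorem exists_maxCard (p : ℕ) (N : Subgroup G) : ∃ E : Subgroup G, MaxElemIn p N E ∧
    ∀ A : Subgroup G, A ≤ N → IsMulCommutative A → (∀ a ∈ A, a ^ p = 1) → Nat.card A ≤ Nat.card E := by
  obtain ⟨E, ⟨hle, hc, hp⟩, hmax⟩ := Set.exists_max_image
    {A : Subgroup G | A ≤ N ∧ IsMulCommutative A ∧ ∀ a ∈ A, a ^ p = 1} (fun A => Nat.card A)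
    (Set.toFinite _) ⟨⊥, bot_le, inferInstance, fun a ha => by rw [mem_bot.1 ha, one_pow]⟩
  have hmax' : ∀ A : Subgroup G, A ≤ N → IsMulCommutative A → (∀ a ∈ A, a ^ p = 1) →
      Nat.card A ≤ Nat.card E := fun A h1 h2 h3 => hmax A ⟨h1, h2, h3⟩
  exact ⟨E, maxElemIn_of_card_max hle hc hp hmax', hmax'⟩

/-- A `p`-element normalising `E` centralises it if `p` does not divide the automizer. -/
theorem mem_centralizer_of_not_dvd [hp : Fact p.Prime] {N E : Subgroup G}
    (hA : ¬ p ∣ Nat.card (autN N E)) {x : G} (hxN : x ∈ N) (hxE : x ∈ normalizer (E : Set G))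
    {k : ℕ} (hk : x ^ p ^ k = 1) : x ∈ centralizer (E : Set G) := by
  set σ := E.normalizerMonoidHom ⟨x, hxE⟩ with hσ
  have hσA : σ ∈ autN N E := mem_autN.2 ⟨x, hxN, hxE, fun u => rfl⟩
  have h1 : orderOf σ ∣ p ^ k :=
    (orderOf_normalizerMonoidHom_dvd hxE).trans (orderOf_dvd_of_pow_eq_one hk)
  have h2 : orderOf σ ∣ Nat.card (autN N E) := by
    have := orderOf_dvd_natCard (⟨σ, hσA⟩ : autN N E)
    rwa [Subgroup.orderOf_mk] at this
  have h3 : σ = 1 := orderOf_eq_one_iff.1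
    (Nat.eq_one_of_dvd_coprimes ((hp.out.coprime_iff_not_dvd.2 hA).pow_left k) h1 h2)
  rw [mem_centralizer_iff]
  intro y hy
  have h4 : x * y * x⁻¹ = y := congrArg Subtype.val (MulEquiv.congr_fun h3 ⟨y, hy⟩)
  exact (mul_inv_eq_iff_eq_mul.1 h4).symm

section

variable [hp : Fact p.Prime] {N E S : Subgroup G}

/-- A Sylow subgroup containing `E` centralises it. -/
theorem MaxElemIn.sylow_le_centralizer (hE : MaxElemIn p N E) (hA : ¬ p ∣ Nat.card (autN N E))
    (hS : IsSylowIn p N S) (hES : E ≤ S) : S ≤ centralizer (E : Set G) := by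
  haveI := hE.comm
  set T := (S ⊓ centralizer (E : Set G)).subgroupOf S with hT
  by_contra hne
  have hTlt : T < ⊤ := lt_top_iff_ne_top.2 fun e => hne fun x hx =>
    (subgroupOf_eq_top.1 e hx).2
  haveI : Group.IsNilpotent S := hS.isP.isNilpotent
  obtain ⟨y, hy, hyT⟩ := SetLike.exists_of_lt (Group.normalizerCondition_of_isNilpotent T hTlt)
  have hyE : (y : G) ∈ normalizer (E : Set G) := by
    refine mem_normalizer_fintype fun e he => ?_
    have heT : (⟨e, hES he⟩ : S) ∈ T := ⟨hES he, le_centralizer E he⟩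
    have h1 : y * (⟨e, hES he⟩ : S) * y⁻¹ ∈ T := (mem_normalizer_iff.1 hy _).1 heT
    have h2 : ((y * (⟨e, hES he⟩ : S) * y⁻¹ : S) : G) ∈ centralizer (E : Set G) := h1.2
    refine hE.max _ (hS.le (SetLike.coe_mem (y * (⟨e, hES he⟩ : S) * y⁻¹))) h2 ?_
    show ((y : G) * e * (y : G)⁻¹) ^ p = 1
    rw [conj_pow, hE.pow e he, mul_one, mul_inv_cancel]
  obtain ⟨k, hk⟩ := hS.isP y
  exact hyT ⟨y.2, mem_centralizer_of_not_dvd hA (hS.le y.2) hyE (congrArg Subtype.val hk)⟩

/-- Then `E` consists of the elements of order dividing `p` of the Sylow subgroup. -/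
theorem MaxElemIn.mem_of_sylow (hE : MaxElemIn p N E) (hA : ¬ p ∣ Nat.card (autN N E))
    (hS : IsSylowIn p N S) (hES : E ≤ S) {x : G} (hx : x ∈ S) (hxp : x ^ p = 1) : x ∈ E :=
  hE.max x (hS.le hx) (hE.sylow_le_centralizer hA hS hES hx) hxp

theorem MaxElemIn.mem_normalizer_of_sylow (hE : MaxElemIn p N E) (hA : ¬ p ∣ Nat.card (autN N E))
    (hS : IsSylowIn p N S) (hES : E ≤ S) {g : G} (hg : g ∈ normalizer (S : Set G)) :
    g ∈ normalizer (E : Set G) :=
  mem_normalizer_fintype fun e he => hE.mem_of_sylow hA hS hES ((mem_normalizer_iff.1 hg e).1 (hES he))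
    (show (g * e * g⁻¹) ^ p = 1 by rw [conj_pow, hE.pow e he, mul_one, mul_inv_cancel])

/-- With trivial automizer, fusion of the elements of order `p` of the Sylow subgroup is trivial. -/
theorem MaxElemIn.fusion_trivial (hE : MaxElemIn p N E) (hA : autN N E = ⊥) (S' : Sylow p N)
    (hES : E ≤ (S' : Subgroup N).map N.subtype) (a g : N) (ha : a ∈ (S' : Subgroup N)) (hap : a ^ p = 1)
    (hga : g * a * g⁻¹ ∈ (S' : Subgroup N)) : g * a * g⁻¹ = a := by
  have hA' : ¬ p ∣ Nat.card (autN N E) := by rw [hA, Subgroup.card_bot]; exact hp.out.not_dvd_one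
  have hS := isSylowIn_map N S'
  have hE' : ∀ b : N, b ∈ (S' : Subgroup N) → b ^ p = 1 → b ∈ centralizer ((S' : Subgroup N) : Set N) :=
    fun b hb hbp => mem_centralizer_iff.2 fun s hs => Subtype.ext
      (mem_centralizer_iff.1 (hE.sylow_le_centralizer hA' hS hES ⟨s, hs, rfl⟩) b
        (hE.mem_of_sylow hA' hS hES ⟨b, hb, rfl⟩ (by rw [← Subgroup.coe_pow, hbp, Subgroup.coe_one]))).symm
  have hy : g⁻¹⁻¹ * a * g⁻¹ ∈ centralizer ((S' : Subgroup N) : Set N) := by
    rw [inv_inv]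
    exact hE' _ hga (by rw [conj_pow, hap, mul_one, mul_inv_cancel])
  obtain ⟨n, hn, hna⟩ := Sylow.conj_eq_normalizer_conj_of_mem_centralizer S' a g⁻¹ (hE' a ha hap) hy
  rw [inv_inv] at hna
  have hnS : ((n⁻¹ : N) : G) ∈ normalizer (((S' : Subgroup N).map N.subtype : Subgroup G) : Set G) := by
    refine mem_normalizer_fintype ?_
    rintro _ ⟨s, hs, rfl⟩
    exact ⟨n⁻¹ * s * n⁻¹⁻¹, (mem_normalizer_iff.1 (inv_mem hn) s).1 hs, by simp⟩
  have hnC : ((n⁻¹ : N) : G) ∈ centralizer (E : Set G) :=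
    autN_eq_bot_iff.1 hA ⟨(n⁻¹ : N).2, hE.mem_normalizer_of_sylow hA' hS hES hnS⟩
  rw [hna]
  refine Subtype.ext ?_
  have h1 := mem_centralizer_iff.1 hnC a
    (hE.mem_of_sylow hA' hS hES ⟨a, ha, rfl⟩ (by rw [← Subgroup.coe_pow, hap, Subgroup.coe_one]))
  show ((n : G))⁻¹ * a * n = a
  rw [Subgroup.coe_inv] at h1
  rw [← h1, inv_mul_cancel_right]

/-- For odd `p` a trivial automizer gives a normal `p`-complement. -/
theorem MaxElemIn.hasNormalPComplement (hp2 : p ≠ 2) (hE : MaxElemIn p N E) (hA : autN N E = ⊥) :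
    Cfsg.HasNormalPComplement p N := by
  obtain ⟨X, hX, hEX⟩ := exists_isSylowIn_ge N E hE.le hE.isPGroup
  obtain ⟨S', rfl⟩ := hX.exists_sylow
  refine (S1946.result S').2 fun a ha ha' g hga => ⟨1, one_mem _, ?_⟩
  have hap : a ^ p = 1 := ha'.resolve_right fun h => hp2 h.1
  rw [hE.fusion_trivial hA S' hEX a g ha hap hga]
  simp

end

/-- A perfect group of order divisible by `p` has no normal `p`-complement. -/
theorem not_hasNormalPComplement_of_isPerfect {H : Type*} [Group H] [Finite H] [hp : Fact p.Prime]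
    (hperf : Group.IsPerfect H) (hdvd : p ∣ Nat.card H) : ¬ Cfsg.HasNormalPComplement p H := by
  rintro ⟨P, M, hM, hc⟩
  haveI := hM
  have hcard : Nat.card (H ⧸ M) = Nat.card (P : Subgroup H) := by
    rw [← Subgroup.index_eq_card]
    exact hc.symm.index_eq_card
  have hpP : IsPGroup p (H ⧸ M) := IsPGroup.of_card (n := (Nat.card H).factorization p)
    (by rw [hcard, P.card_eq_multiplicity])
  haveI := hpP.isNilpotent
  haveI := hperf
  have h1 : p ∣ Nat.card (H ⧸ M) := by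
    rw [hcard]
    exact P.dvd_card_of_dvd_card hdvd
  haveI : Nontrivial (H ⧸ M) :=
    Finite.one_lt_card_iff_nontrivial.1 (lt_of_lt_of_le hp.out.one_lt (Nat.le_of_dvd Nat.card_pos h1))
  exact Group.IsPerfect.not_isSolvable (H ⧸ M) inferInstance

end Cfsg.Agent.Homogeneous
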