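import Cfsg.Agent.Lib.Homogeneous.Component
import Cfsg.Agent.Lib.Homogeneous.SylowCore
import Cfsg.Agent.S1947

/-!
# The prime 2 when the radical has even order
-/

set_option autoImplicit false
set_option linter.style.haveILetI false

namespace Cfsg.Agent.Homogeneous

open Subgroup Cfsg
open scoped IsMulCommutative

universe u
variable {G : Type u} [Group G] [Finite G]

theorem CoreData.perfect (d : CoreData G) : Group.IsPerfect d.K := d.quasi.1

theorem CoreData.not_isSolvable (d : CoreData G) : ¬ Group.IsSolvable d.K := by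
  intro hs
  haveI := d.perfect
  haveI := d.quasi.2
  haveI : Nontrivial d.K := by
    by_contra hn
    rw [not_nontrivial_iff_subsingleton] at hn
    exact not_subsingleton (d.K ⧸ center d.K) inferInstance
  exact Group.IsPerfect.not_isSolvable d.K hs

theorem CoreData.ne_bot (d : CoreData G) : d.K ≠ ⊥ := fun e => d.not_isSolvable (by rw [e]; infer_instance)

theorem CoreData.two_dvd (d : CoreData G) : 2 ∣ Nat.card d.K := by
  by_contra h
  exact d.not_isSolvable (S0205.result (Nat.not_even_iff_odd.1 fun he => h he.two_dvd))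

/-- Involutions of a 2-subgroup coincide when the radical has even order. -/
theorem eq_of_involutions (h : IsoExt 2 G) (hns : ¬ Group.IsSolvable G) (hd : 2 ∣ Nat.card (solvableRadical G))
    {S : Subgroup G} (hS : IsPGroup 2 S) {x y : G} (hxS : x ∈ S) (hyS : y ∈ S) (hx : orderOf x = 2)
    (hy : orderOf y = 2) : x = y := by
  obtain ⟨hSn, -, hSp⟩ := solvPrime_spec (G := G) Nat.prime_two
  haveI := hSn
  obtain ⟨z, -, huz⟩ := exists_unique_involution_quotient h hns hd
  have himg : ∀ g : G, orderOf g = 2 → QuotientGroup.mk' (solvPrime 2 G) g = z := by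
    intro g hg
    refine huz _ (orderOf_eq_prime ?_ fun e => ?_)
    · have h2 := pow_orderOf_eq_one g
      rw [hg] at h2
      rw [← map_pow, h2, map_one]
    · have h1 := (QuotientGroup.eq_one_iff _).1 e
      refine hSp ?_
      have h2 := orderOf_dvd_natCard (⟨g, h1⟩ : solvPrime 2 G)
      rwa [Subgroup.orderOf_mk, hg] at h2
  have h1 : x⁻¹ * y ∈ solvPrime 2 G := QuotientGroup.eq.1 ((himg x hx).trans (himg y hy).symm)
  obtain ⟨k, hk⟩ := hS ⟨x⁻¹ * y, mul_mem (inv_mem hxS) hyS⟩
  exact inv_mul_eq_one.1 (eq_one_of_two_pow_mem hSp h1 (k := k) (congrArg Subtype.val hk))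

/-- A perfect group of even order has no cyclic Sylow 2-subgroup. -/
theorem not_isCyclic_sylow_two {H : Type*} [Group H] [Finite H] (hperf : Group.IsPerfect H)
    (h2 : 2 ∣ Nat.card H) (P : Sylow 2 H) : ¬ IsCyclic (P : Subgroup H) := fun hP => by
  haveI : Fact (Nat.Prime 2) := ⟨Nat.prime_two⟩
  exact not_hasNormalPComplement_of_isPerfect hperf h2
    ⟨P, _, inferInstance, hP.isComplement' (hp := Nat.minFac_eq_two_iff _ |>.2 h2)⟩

theorem CoreData.mem_of_two_pow_even (d : CoreData G) (h : IsoExt 2 G) (hns : ¬ Group.IsSolvable G)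
    (hd : 2 ∣ Nat.card (solvableRadical G)) {x : G} (hx : ∃ k : ℕ, x ^ 2 ^ k = 1) : x ∈ d.K := by
  haveI : Fact (Nat.Prime 2) := ⟨Nat.prime_two⟩
  haveI := d.char
  set K := d.K with hKdef
  obtain ⟨k, hk⟩ := hx
  have hpx : IsPGroup 2 (zpowers x) := by
    obtain ⟨b, -, hb⟩ := (Nat.dvd_prime_pow Nat.prime_two).1 (orderOf_dvd_of_pow_eq_one hk)
    exact IsPGroup.of_card (n := b) (by rw [Nat.card_zpowers, hb])
  obtain ⟨P, hxP⟩ := hpx.exists_le_sylow
  suffices hPK : (P : Subgroup G) ≤ K from hPK (hxP (mem_zpowers x))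
  have huniq : ∀ a b : G, a ∈ (P : Subgroup G) → b ∈ (P : Subgroup G) → orderOf a = 2 → orderOf b = 2 → a = b :=
    fun a b ha hb => eq_of_involutions h hns hd P.2 ha hb
  obtain ⟨S', hS'⟩ := (isSylowIn_inf P K).exists_sylow
  -- an element of order 4 in `K`
  have hS'mem : ∀ {a : K}, a ∈ (S' : Subgroup K) → (a : G) ∈ (P : Subgroup G) := fun {a} ha => by
    have h1 : (a : G) ∈ (P : Subgroup G) ⊓ K := hS' ▸ ⟨a, ha, rfl⟩
    exact h1.1
  have hex4 : ∃ a : G, a ∈ K ∧ orderOf a = 4 := by
    by_contra hno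
    push Not at hno
    refine not_isCyclic_sylow_two d.perfect d.two_dvd S' ?_
    have hsq : ∀ a : (S' : Subgroup K), (((a : K) : G)) ^ 2 = 1 := by
      intro a
      by_contra hne
      obtain ⟨j, hj⟩ := S'.2 a
      have hj' : ((a : K) : G) ^ 2 ^ j = 1 := by simpa using congrArg (fun v : (S' : Subgroup K) => ((v : K) : G)) hj
      obtain ⟨i, -, hi⟩ := (Nat.dvd_prime_pow Nat.prime_two).1 (orderOf_dvd_of_pow_eq_one hj')
      have hi2 : 2 ≤ i := by
        by_contra h2
        refine hne (orderOf_dvd_iff_pow_eq_one.1 ?_)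
        rw [hi]
        exact (pow_dvd_pow 2 (show i ≤ 1 by omega)).trans (pow_one 2).dvd
      refine hno (((a : K) : G) ^ 2 ^ (i - 2)) (pow_mem (a : K).2 _) ?_
      rw [orderOf_pow' _ (pow_ne_zero _ two_ne_zero), hi, Nat.gcd_eq_right (pow_dvd_pow 2 (Nat.sub_le i 2)),
        Nat.pow_div (Nat.sub_le i 2) two_pos, show i - (i - 2) = 2 by omega]
      rfl
    obtain ⟨t, ht⟩ := exists_prime_orderOf_dvd_card' (G := (S' : Subgroup K)) 2 (S'.dvd_card_of_dvd_card d.two_dvd)
    refine ⟨t, fun a => ?_⟩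
    by_cases ha : a = 1
    · exact ⟨0, by simp [ha]⟩
    have hao : orderOf a = 2 := orderOf_eq_prime (Subtype.ext (Subtype.ext (by simpa using hsq a))) ha
    have : a = t := Subtype.ext (Subtype.ext (huniq _ _ (hS'mem a.2) (hS'mem t.2)
      (by rw [Subgroup.orderOf_coe, Subgroup.orderOf_coe, hao]) (by rw [Subgroup.orderOf_coe, Subgroup.orderOf_coe, ht])))
    exact this ▸ mem_zpowers t
  obtain ⟨a₀, ha₀, ha₀o⟩ := hex4
  have hall4 : ∀ y : G, orderOf y = 4 → y ∈ K := fun y hy =>
    h.mem_of_orderOf_eq d.char (k := 2) ha₀ (by rw [ha₀o]; rfl) (by rw [hy]; rfl)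
  by_cases hc : IsMulCommutative (P : Subgroup G)
  · exfalso
    refine not_isCyclic_sylow_two d.perfect d.two_dvd S' ?_
    haveI := hc
    have hsub : ∀ H₁ H₂ : Subgroup (P : Subgroup G), Nat.card H₁ = 2 → Nat.card H₂ = 2 → H₁ = H₂ := by
      intro H₁ H₂ hH₁ hH₂
      obtain ⟨y₁, hy₁⟩ := exists_prime_orderOf_dvd_card' (G := H₁) 2 (by rw [hH₁])
      obtain ⟨y₂, hy₂⟩ := exists_prime_orderOf_dvd_card' (G := H₂) 2 (by rw [hH₂])
      rw [← Subgroup.orderOf_coe] at hy₁ hy₂
      have h1 : zpowers (y₁ : (P : Subgroup G)) = H₁ :=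
        Subgroup.eq_of_le_of_card_ge (zpowers_le.2 y₁.2) (by rw [Nat.card_zpowers, hy₁, hH₁])
      have h2 : zpowers (y₂ : (P : Subgroup G)) = H₂ :=
        Subgroup.eq_of_le_of_card_ge (zpowers_le.2 y₂.2) (by rw [Nat.card_zpowers, hy₂, hH₂])
      have h3 : (y₁ : (P : Subgroup G)) = y₂ := Subtype.ext (huniq _ _ (y₁ : (P : Subgroup G)).2
        (y₂ : (P : Subgroup G)).2 (by rw [Subgroup.orderOf_coe, hy₁]) (by rw [Subgroup.orderOf_coe, hy₂]))
      rw [← h1, ← h2, h3]
    haveI := PGroup.isCyclic_of_unique_of_isMulCommutative P.2 hsub hc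
    let f : (S' : Subgroup K) →* (P : Subgroup G) :=
      (K.subtype.comp (S' : Subgroup K).subtype).codRestrict _ fun a => hS'mem a.2
    exact isCyclic_of_injective f fun a b hab =>
      Subtype.ext (Subtype.ext (congrArg (fun v : (P : Subgroup G) => (v : G)) hab))
  · have hex : ∃! y : (P : Subgroup G), orderOf y = 2 := by
      obtain ⟨y, hy⟩ := exists_prime_orderOf_dvd_card' (G := (P : Subgroup G)) 2
        (P.dvd_card_of_dvd_card (d.two_dvd.trans (card_subgroup_dvd_card K)))
      exact ⟨y, hy, fun w hw => Subtype.ext (huniq _ _ w.2 y.2 (by rw [Subgroup.orderOf_coe, hw])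
        (by rw [Subgroup.orderOf_coe, hy]))⟩
    obtain ⟨n, a, b, hn, ha, hba, hb2, -, hgen⟩ := PGroup.exists_quaternion_generators P.2 hc hex
    have hord : ∀ w : (P : Subgroup G), w ^ 2 = a ^ 2 ^ n → orderOf w = 4 := by
      intro w hw
      have h2n : a ^ 2 ^ n ≠ 1 := fun e => by
        have := orderOf_dvd_of_pow_eq_one e
        rw [ha, Nat.pow_dvd_pow_iff_le_right (by norm_num)] at this
        omega
      show orderOf w = 2 ^ (1 + 1)
      refine orderOf_eq_prime_pow ?_ ?_
      · rw [pow_one, hw]; exact h2n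
      · rw [pow_succ, pow_one, pow_mul, hw, ← pow_mul, ← pow_succ, ← ha, pow_orderOf_eq_one]
    have hbK : (b : G) ∈ K := hall4 _ (by rw [Subgroup.orderOf_coe, hord b hb2])
    have hbaK : ((b * a : (P : Subgroup G)) : G) ∈ K := hall4 _ (by
      rw [Subgroup.orderOf_coe, hord (b * a) ?_]
      rw [pow_two]
      calc b * a * (b * a) = (b * a * b⁻¹) * (b ^ 2) * a := by rw [pow_two]; group
        _ = a ^ 2 ^ n := by
          rw [hba, hb2, mul_assoc, (Commute.pow_self a _).eq, inv_mul_cancel_left])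
    have haK : (a : G) ∈ K := by
      have := mul_mem (inv_mem hbK) hbaK
      simpa using this
    intro y hy
    obtain ⟨i, hi | hi⟩ := hgen ⟨y, hy⟩
    · rw [show y = (a : G) ^ i by simpa using congrArg Subtype.val hi]
      exact pow_mem haK i
    · rw [show y = (b : G) * (a : G) ^ i by simpa using congrArg Subtype.val hi]
      exact mul_mem hbK (pow_mem haK i)

end Cfsg.Agent.Homogeneous
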