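import Cfsg.Agent.Lib.Homogeneous.Central
import Cfsg.Agent.Lib.Homogeneous.NoGL
import Cfsg.Agent.S2910
import Cfsg.Agent.S0205

/-!
# Primes dividing the solvable radical

For odd `p` dividing the solvable radical, `p` does not divide the perfect core. If the radical has even
order and `G` is not solvable, `G / O(R)` has exactly one involution.
-/

set_option autoImplicit false
set_option linter.style.haveILetI false

namespace Cfsg.Agent.Homogeneous

open Subgroup Cfsg
open scoped IsMulCommutative commutatorElement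

universe u
variable {G : Type u} [Group G] [Finite G] {p : ℕ} [hp : Fact p.Prime]

/-- All elements of order `p` form a characteristic elementary abelian subgroup. -/
theorem exists_elementary_char (h : IsoExt p G) (hM : solvPrime p G = ⊥)
    (hdiv : p ∣ Nat.card (solvableRadical G)) :
    ∃ V : Subgroup G, V.Characteristic ∧ IsMulCommutative V ∧ V ≠ ⊥ ∧ ∀ x, x ∈ V ↔ x ^ p = 1 := by
  obtain ⟨-, hRs⟩ := solvableRadical_spec (G := G)
  have hRne : solvableRadical G ≠ ⊥ := fun e => by
    rw [e, Subgroup.card_bot] at hdiv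
    exact hp.out.not_dvd_one hdiv
  obtain ⟨A, ⟨hAc, hAne, hAR⟩, hmin⟩ := (Set.toFinite {A : Subgroup G | A.Characteristic ∧ A ≠ ⊥ ∧
      A ≤ solvableRadical G}).exists_minimal ⟨_, solvableRadical_characteristic, hRne, le_rfl⟩
  haveI := hAc
  haveI := hRs
  haveI hAs : Group.IsSolvable A :=
    Group.isSolvable_of_isSolvable_injective (f := inclusion hAR) (inclusion_injective hAR)
  have hAA : ⁅A, A⁆ = ⊥ := by
    by_contra hne
    haveI : (⁅A, A⁆).Characteristic := inferInstance
    have hle := hmin ⟨inferInstance, hne, (commutator_le_self A).trans hAR⟩ (commutator_le_self A)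
    exact hAne (eq_bot_of_perfect_of_solvable (le_antisymm (commutator_le_self A) hle) hAs)
  have hAcomm : ∀ a ∈ A, ∀ b ∈ A, a * b = b * a := fun a ha b hb =>
    mem_centralizer_iff.1 ((commutator_eq_bot_iff_le_centralizer.1 hAA) hb) a ha
  have hpA : p ∣ Nat.card A := by
    by_contra hn
    have : A ≤ solvPrime p G := le_sSup ⟨inferInstance, hAs, hn⟩
    exact hAne (le_bot_iff.1 (hM ▸ this))
  let V : Subgroup G :=
    { carrier := {x | x ∈ A ∧ x ^ p = 1}
      one_mem' := ⟨A.one_mem, one_pow p⟩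
      mul_mem' := fun {a b} ha hb => ⟨mul_mem ha.1 hb.1, by
        rw [(show Commute a b from hAcomm a ha.1 b hb.1).mul_pow, ha.2, hb.2, one_mul]⟩
      inv_mem' := fun {a} ha => ⟨inv_mem ha.1, by rw [inv_pow, ha.2, inv_one]⟩ }
  have hVc : V.Characteristic := characteristic_iff_map_le.2 fun φ => by
    rintro _ ⟨x, hx, rfl⟩
    exact ⟨apply_mem_of_characteristic hAc φ hx.1, by
      show φ x ^ p = 1
      rw [← map_pow, hx.2, map_one]⟩
  obtain ⟨⟨v, hv⟩, hvo⟩ := exists_prime_orderOf_dvd_card' (G := A) p hpA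
  rw [Subgroup.orderOf_mk] at hvo
  have hvV : v ∈ V := ⟨hv, by rw [← hvo]; exact pow_orderOf_eq_one v⟩
  refine ⟨V, hVc, ⟨⟨fun a b => Subtype.ext (hAcomm a a.2.1 b b.2.1)⟩⟩, fun e => ?_, fun x => ⟨fun hx => hx.2, ?_⟩⟩
  · rw [e, Subgroup.mem_bot] at hvV
    rw [hvV, orderOf_one] at hvo
    exact hp.out.one_lt.ne hvo
  · intro hx
    by_cases hx1 : x = 1
    · exact hx1 ▸ V.one_mem
    · exact h.mem_of_orderOf_eq (k := 1) hVc hvV (by rw [pow_one, hvo])
        (by rw [pow_one]; exact orderOf_eq_prime hx hx1)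

/-- No element of order `p` in `G / C(V)` when `C(V)` is a `p`-group. -/
theorem mem_centralizer_of_pow_mem_aux (hp2 : p ≠ 2) (h : IsoExt p G) {V : Subgroup G}
    (hVc : V.Characteristic) [IsMulCommutative V] (hiff : ∀ x, x ∈ V ↔ x ^ p = 1)
    (hC : IsPGroup p (centralizer (V : Set G))) {u : G} (hu : u ^ p ∈ centralizer (V : Set G)) :
    u ∈ centralizer (V : Set G) := by
  haveI := hVc
  set C := centralizer (V : Set G) with hCdef
  by_contra huC
  have hVp : IsPGroup p V := fun v => ⟨1, Subtype.ext (by simpa using (hiff v).1 v.2)⟩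
  obtain ⟨φ, hφ⟩ := h.exists_ext V hVp (MulEquiv.inv V)
  have hφV : ∀ v ∈ V, φ v = v⁻¹ := fun v hv => hφ ⟨v, hv⟩
  -- an odd power of order a power of 2
  obtain ⟨j, ⟨b, hb⟩, hjx⟩ := exists_prime_power (T := MulAut G) Nat.prime_two φ
  set ψ : MulAut G := φ ^ j with hψ
  have hψV : ∀ v ∈ V, ψ v = v⁻¹ := by
    haveI : Fact (Nat.Prime 2) := ⟨Nat.prime_two⟩
    -- the restriction to `V`
    let r : MulAut G →* MulAut V := MonoidHom.mk' (fun θ => restrictChar hVc θ)
      fun a b => MulEquiv.ext fun x => Subtype.ext rfl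
    have hr : r φ = MulEquiv.inv V := MulEquiv.ext fun x => Subtype.ext (hφV x x.2)
    have h2 : orderOf (r φ) ∣ 2 := by
      refine orderOf_dvd_of_pow_eq_one ?_
      rw [hr, pow_two]
      exact MulEquiv.ext fun x => inv_inv x
    have h3 := hjx (r φ) (orderOf_map_dvd r φ) ⟨1, by rwa [pow_one]⟩
    intro v hv
    have h4 : r ψ = r φ := by rw [hψ, map_pow, h3]
    have := congrArg Subtype.val (MulEquiv.congr_fun h4 ⟨v, hv⟩)
    exact this.trans (congrArg Subtype.val (MulEquiv.congr_fun hr ⟨v, hv⟩))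
  have hψC : ∀ c ∈ C, ψ c ∈ C := fun c hc => apply_mem_of_characteristic inferInstance ψ hc
  have hψu : u⁻¹ * ψ u ∈ C := by
    rw [hCdef, mem_centralizer_iff]
    intro v hv
    have hun : ψ u * v⁻¹ * (ψ u)⁻¹ = (u * v * u⁻¹)⁻¹ := by
      rw [← hψV v hv, ← map_inv, ← map_mul, ← map_mul]
      exact hψV _ ((inferInstance : V.Normal).conj_mem v hv u)
    have h' : ψ u * v * (ψ u)⁻¹ = u * v * u⁻¹ := by
      have := congrArg (·⁻¹) hun
      simpa [mul_assoc] using this
    calc v * (u⁻¹ * ψ u) = u⁻¹ * (u * v * u⁻¹) * ψ u := by group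
      _ = u⁻¹ * (ψ u * v * (ψ u)⁻¹) * ψ u := by rw [h']
      _ = u⁻¹ * ψ u * v := by group
  haveI : C.Normal := inferInstance
  set L := C ⊔ zpowers u with hL
  have hLp : IsPGroup p L := by
    intro x
    obtain ⟨y, hy, z, hz, hxy⟩ := mem_sup_of_normal_left.1 x.2
    obtain ⟨k, rfl⟩ := mem_zpowers_iff.1 hz
    have hq : ((x : G) : G ⧸ C) ^ p = 1 := by
      rw [← hxy, QuotientGroup.mk_mul, (QuotientGroup.eq_one_iff y).2 hy, one_mul, QuotientGroup.mk_zpow,
        ← zpow_natCast, ← zpow_mul, mul_comm, zpow_mul, zpow_natCast, ← QuotientGroup.mk_pow,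
        (QuotientGroup.eq_one_iff _).2 hu, one_zpow]
    rw [← QuotientGroup.mk_pow, QuotientGroup.eq_one_iff] at hq
    obtain ⟨a, ha⟩ := hC ⟨_, hq⟩
    refine ⟨a + 1, Subtype.ext ?_⟩
    rw [pow_succ', pow_mul]
    simpa using congrArg Subtype.val ha
  have hψL : ∀ x ∈ L, ψ x ∈ L := by
    intro x hx
    have hle : L.map ψ.toMonoidHom ≤ L := by
      rw [hL, Subgroup.map_sup, MonoidHom.map_zpowers]
      refine sup_le ?_ (zpowers_le.2 ?_)
      · rintro _ ⟨c, hc, rfl⟩
        exact mem_sup_left (hψC c hc)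
      · show ψ u ∈ C ⊔ zpowers u
        rw [show ψ u = u * (u⁻¹ * ψ u) by group]
        exact mul_mem (mem_sup_right (mem_zpowers u)) (mem_sup_left hψu)
    exact hle ⟨x, hx, rfl⟩
  let f : L →* L := (ψ.toMonoidHom.comp L.subtype).codRestrict L fun x => hψL x x.2
  have hf : Function.Injective f := fun a b e => Subtype.ext (ψ.injective (congrArg Subtype.val e))
  let σ : MulAut L := MulEquiv.ofBijective f (Finite.injective_iff_bijective.1 hf)
  have hσk : ∀ (k : ℕ) (x : L), ((σ ^ k) x : G) = (ψ ^ k) x := by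
    intro k x
    induction k with
    | zero => rfl
    | succ k ih => rw [pow_succ', MulAut.mul_apply, pow_succ', MulAut.mul_apply, ← ih]; rfl
  have hσo : ¬ p ∣ orderOf σ := by
    intro hd
    have h1 : orderOf σ ∣ 2 ^ b := by
      refine (orderOf_dvd_of_pow_eq_one (MulEquiv.ext fun x => Subtype.ext ?_)).trans hb
      rw [hσk, pow_orderOf_eq_one]
      rfl
    exact hp2 ((Nat.prime_dvd_prime_iff_eq hp.out Nat.prime_two).1 (hp.out.dvd_of_dvd_pow (hd.trans h1)))
  obtain ⟨k, hk, hfix⟩ := exists_fixed_lift hLp σ hσo (K := C.subgroupOf L) (fun y hy => hψC _ hy)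
    (x := ⟨u, mem_sup_right (mem_zpowers u)⟩) hψu
  set t : G := u * (k : G) with ht
  have htfix : ψ t = t := congrArg Subtype.val hfix
  have htC : t ∉ C := fun hc => huC (by
    rw [show u = t * (k : G)⁻¹ by rw [ht, mul_inv_cancel_right]]
    exact mul_mem hc (inv_mem hk))
  -- fixed points in `C` are trivial
  have hfixC : ∀ c ∈ C, ψ c = c → c = 1 := by
    intro c hc hψc
    by_contra hc1
    obtain ⟨a, ha⟩ := IsPGroup.iff_orderOf.1 hC ⟨c, hc⟩
    rw [Subgroup.orderOf_mk] at ha
    have ha0 : a ≠ 0 := fun e => hc1 (orderOf_eq_one_iff.1 (by rw [ha, e, pow_zero]))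
    obtain ⟨a, rfl⟩ := Nat.exists_eq_succ_of_ne_zero ha0
    set v := c ^ p ^ a with hv
    have hvo : orderOf v = p := by
      rw [hv, orderOf_pow, ha, pow_succ, Nat.gcd_eq_right (dvd_mul_right _ _),
        Nat.mul_div_cancel_left _ (pow_pos hp.out.pos a)]
    have hvV : v ∈ V := (hiff v).2 (by rw [← hvo]; exact pow_orderOf_eq_one v)
    have hvi : v⁻¹ = v := by rw [← hψV v hvV, hv, map_pow, hψc]
    have h2 : orderOf v ∣ 2 := orderOf_dvd_of_pow_eq_one (by
      rw [pow_two]
      conv_lhs => arg 1; rw [← hvi]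
      rw [inv_mul_cancel])
    rw [hvo] at h2
    exact hp2 ((Nat.prime_dvd_prime_iff_eq hp.out Nat.prime_two).1 h2)
  have htp : t ^ p ∈ C := by
    rw [← QuotientGroup.eq_one_iff, QuotientGroup.mk_pow, ht, QuotientGroup.mk_mul,
      (QuotientGroup.eq_one_iff (k : G)).2 hk, mul_one, ← QuotientGroup.mk_pow, QuotientGroup.eq_one_iff]
    exact hu
  have ht1 := hfixC _ htp (by rw [map_pow, htfix])
  exact htC (le_centralizer V ((hiff t).2 ht1))

/-- The centralizer of `V` has a characteristic normal `p`-complement. -/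
theorem exists_complement (hp2 : p ≠ 2) {V : Subgroup G} (hVc : V.Characteristic) [IsMulCommutative V]
    (hVne : V ≠ ⊥) (hiff : ∀ x, x ∈ V ↔ x ^ p = 1) :
    ∃ M : Subgroup G, M.Characteristic ∧ ¬ p ∣ Nat.card M ∧ M ≤ centralizer (V : Set G) ∧
      ∀ c ∈ centralizer (V : Set G), ∃ a : ℕ, c ^ p ^ a ∈ M := by
  haveI := hVc
  set C := centralizer (V : Set G) with hC
  have hVC : V ≤ C := le_centralizer V
  have hdiv : p ∣ Nat.card C := by
    haveI := (Subgroup.nontrivial_iff_ne_bot V).2 hVne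
    obtain ⟨⟨v, hv⟩, hv1⟩ := exists_ne (1 : V)
    have : orderOf (⟨v, hVC hv⟩ : C) = p := by
      rw [Subgroup.orderOf_mk]
      exact orderOf_eq_prime ((hiff v).1 hv) fun e => hv1 (Subtype.ext e)
    exact this ▸ orderOf_dvd_natCard _
  obtain ⟨P⟩ : Nonempty (Sylow p C) := inferInstance
  have hΩ : omegaOne p (P : Subgroup C) ≤ center C := by
    rw [omegaOne, closure_le]
    rintro x ⟨-, hx⟩
    rw [SetLike.mem_coe, Subgroup.mem_center_iff]
    intro y
    have hxV : (x : G) ∈ V := (hiff _).2 (by rw [← Subgroup.coe_pow, hx]; rfl)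
    exact Subtype.ext (mem_centralizer_iff.1 y.2 _ hxV).symm
  obtain ⟨⟨P', N, hN, hNP⟩, -⟩ := S2910.result hp2 hdiv P hΩ
  have hNcard : ¬ p ∣ Nat.card N := by
    intro hd
    have h1 : (P' : Subgroup C).index = Nat.card N := hNP.index_eq_card
    exact P'.not_dvd_index' (Subgroup.index_ne_zero_of_finite) (h1 ▸ hd)
  haveI := hN
  have hq : IsPGroup p (C ⧸ N) := IsPGroup.of_equiv P'.2 hNP.symm.QuotientMulEquiv.symm
  have hmem : ∀ x : C, x ∈ N ↔ ¬ p ∣ orderOf x := by
    intro x
    constructor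
    · intro hx hd
      exact hNcard (hd.trans (by
        have := orderOf_dvd_natCard (⟨x, hx⟩ : N)
        rwa [Subgroup.orderOf_mk] at this))
    · intro hx
      obtain ⟨a, ha⟩ := IsPGroup.iff_orderOf.1 hq (x : C ⧸ N)
      have h1 : orderOf (x : C ⧸ N) ∣ orderOf x := orderOf_map_dvd (QuotientGroup.mk' N) x
      have h2 : a = 0 := by
        by_contra ha0
        exact hx ((dvd_pow_self p ha0).trans (ha ▸ h1))
      rw [h2, pow_zero, orderOf_eq_one_iff, QuotientGroup.eq_one_iff] at ha
      exact ha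
  refine ⟨N.map C.subtype, ?_, by rwa [card_map_of_injective C.subtype_injective], map_subtype_le N, ?_⟩
  · refine characteristic_iff_map_le.2 fun φ => ?_
    rintro _ ⟨_, ⟨x, hx, rfl⟩, rfl⟩
    have hφC : φ (x : G) ∈ C := apply_mem_of_characteristic inferInstance φ x.2
    refine ⟨⟨_, hφC⟩, (hmem _).2 ?_, rfl⟩
    rw [Subgroup.orderOf_mk, MulEquiv.orderOf_eq, Subgroup.orderOf_coe]
    exact (hmem x).1 hx
  · intro c hc
    obtain ⟨a, ha⟩ := hq ((⟨c, hc⟩ : C) : C ⧸ N)
    rw [← QuotientGroup.mk_pow, QuotientGroup.eq_one_iff] at ha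
    exact ⟨a, ⟨_, ha, rfl⟩⟩

/-- `p` does not divide `|G : C(V)|`, and `p` does not divide the order of a perfect characteristic subgroup. -/
theorem not_dvd_of_perfect (hp2 : p ≠ 2) (h : IsoExt p G) {V : Subgroup G}
    (hVc : V.Characteristic) [IsMulCommutative V] (hVne : V ≠ ⊥) (hiff : ∀ x, x ∈ V ↔ x ^ p = 1)
    {K : Subgroup G} (hK : K.Characteristic) (hperf : ⁅K, K⁆ = K) : ¬ p ∣ Nat.card K := by
  haveI := hVc
  haveI := hK
  set C := centralizer (V : Set G) with hC
  obtain ⟨M, hMc, hMp, hMC, hCM⟩ := exists_complement hp2 hVc hVne hiff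
  haveI := hMc
  have hVp : IsPGroup p V := fun v => ⟨1, Subtype.ext (by simpa using (hiff v).1 v.2)⟩
  -- `G / C` has no element of order `p`
  have hu : ∀ u : G, u ^ p ∈ C → u ∈ C := by
    set π := QuotientGroup.mk' M with hπ
    set V' := V.map π with hV'
    haveI hV'n : V'.Normal := (inferInstance : V.Normal).map π (QuotientGroup.mk'_surjective M)
    have hiff' : ∀ x, x ∈ V' ↔ x ^ p = 1 := by
      intro x
      constructor
      · rintro ⟨v, hv, rfl⟩
        rw [← map_pow, (hiff v).1 hv, map_one]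
      · intro hx
        obtain ⟨A, hA, hAmap, hAtriv⟩ := IsoExt.exists_lift M hMp (zpowers x)
          (isPGroup_zpowers_of_pow (k := 1) (by rwa [pow_one]))
        obtain ⟨a, ha, hax⟩ : x ∈ A.map π := hAmap ▸ mem_zpowers x
        exact ⟨a, (hiff a).2 (hAtriv _ (pow_mem ha p) (by rw [map_pow]; exact hax ▸ hx)), hax⟩
    have hV'c : V'.Characteristic := characteristic_iff_map_le.2 fun φ => by
      rintro _ ⟨y, hy, rfl⟩
      exact (hiff' _).2 (by rw [← map_pow]; exact (congrArg φ ((hiff' y).1 hy)).trans (map_one φ))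
    haveI : IsMulCommutative V' := Subgroup.map_isMulCommutative V π
    have hcen : ∀ x : G, π x ∈ centralizer (V' : Set (G ⧸ M)) ↔ x ∈ C := by
      intro x
      constructor
      · intro hx
        rw [hC, mem_centralizer_iff]
        intro v hv
        have h1 : π ⁅v, x⁆ = 1 := by
          rw [map_commutatorElement]
          exact commutatorElement_eq_one_iff_mul_comm.2 (mem_centralizer_iff.1 hx _ ⟨v, hv, rfl⟩)
        have h2 : ⁅v, x⁆ ∈ V := by
          rw [commutatorElement_def, show v * x * v⁻¹ * x⁻¹ = v * (x * v⁻¹ * x⁻¹) by group]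
          exact mul_mem hv ((inferInstance : V.Normal).conj_mem _ (inv_mem hv) x)
        have h3 : V ⊓ M = ⊥ := (disjoint_of_coprime_natCard (by
          obtain ⟨k, hk⟩ := IsPGroup.iff_card.1 hVp
          rw [hk]
          exact ((hp.out.coprime_iff_not_dvd).2 hMp).pow_left k)).eq_bot
        exact commutatorElement_eq_one_iff_mul_comm.1
          (Subgroup.mem_bot.1 (h3 ▸ Subgroup.mem_inf.2 ⟨h2, (QuotientGroup.eq_one_iff _).1 h1⟩))
      · intro hx
        rw [mem_centralizer_iff]
        rintro _ ⟨v, hv, rfl⟩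
        rw [← map_mul, ← map_mul, mem_centralizer_iff.1 hx v hv]
    have hCp : IsPGroup p (centralizer (V' : Set (G ⧸ M))) := by
      rintro ⟨y, hy⟩
      obtain ⟨x, rfl⟩ := QuotientGroup.mk'_surjective M y
      obtain ⟨a, ha⟩ := hCM x ((hcen x).1 hy)
      refine ⟨a, Subtype.ext ?_⟩
      rw [Subgroup.coe_pow, ← map_pow]
      exact (QuotientGroup.eq_one_iff _).2 ha
    intro u hu
    refine (hcen u).1 (mem_centralizer_of_pow_mem_aux hp2 (h.quotient M hMc hMp) hV'c hiff' hCp ?_)
    rw [← map_pow]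
    exact (hcen _).2 hu
  -- the automizer of `V` in `K`
  have hKC : K ≤ C := by
    obtain ⟨n, hn⟩ := IsPGroup.iff_card.1 hVp
    obtain ⟨Φ, -⟩ := exists_mulEquiv_GL (p := p) (E := V) (fun x => Subtype.ext ((hiff x).1 x.2)) hn
    haveI := autN_normal h hK hVp
    set A := (autN K V).map Φ.toMonoidHom with hA
    haveI : A.Normal := Subgroup.Normal.map inferInstance _ Φ.surjective
    have hperfA : ⁅A, A⁆ = A := by
      have hKn : K ≤ normalizer (V : Set G) := by rw [normalizer_eq_top]; exact le_top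
      have h1 : autN K V = (K.subgroupOf (normalizer (V : Set G))).map V.normalizerMonoidHom := rfl
      have h2 : ⁅K.subgroupOf (normalizer (V : Set G)), K.subgroupOf (normalizer (V : Set G))⁆ =
          K.subgroupOf (normalizer (V : Set G)) := by
        refine Subgroup.map_injective (subtype_injective _) ?_
        rw [Subgroup.map_commutator, map_subgroupOf_eq_of_le hKn, hperf]
      exact commutator_map_self _ (h1 ▸ commutator_map_self _ h2)
    have hdivA : ¬ p ∣ Nat.card A := by
      intro hd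
      rw [hA, card_map_of_injective (f := Φ.toMonoidHom) Φ.injective] at hd
      obtain ⟨⟨σ, hσ⟩, hσo⟩ := exists_prime_orderOf_dvd_card' (G := autN K V) p hd
      rw [Subgroup.orderOf_mk] at hσo
      obtain ⟨g, -, hg, hgσ⟩ := mem_autN.1 hσ
      have hσ' : V.normalizerMonoidHom ⟨g, hg⟩ = σ := MulEquiv.ext fun v => Subtype.ext (hgσ v).symm
      have hgp : g ^ p ∈ C := by
        rw [hC, mem_centralizer_iff]
        intro v hv
        have h1 := congrArg Subtype.val (MulEquiv.congr_fun
          (show σ ^ p = 1 by rw [← hσo]; exact pow_orderOf_eq_one σ) ⟨v, hv⟩)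
        rw [← hσ', coe_normalizerMonoidHom_pow] at h1
        exact (mul_inv_eq_iff_eq_mul.1 (h1.trans (show ((1 : MulAut V) ⟨v, hv⟩ : G) = v from rfl))).symm
      have hgC := hu g hgp
      have h1 : σ = 1 := by
        rw [← hσ']
        refine MulEquiv.ext fun v => Subtype.ext ?_
        show g * v * g⁻¹ = v
        rw [← mem_centralizer_iff.1 hgC v v.2, mul_inv_cancel_right]
      rw [h1, orderOf_one] at hσo
      exact hp.out.one_lt.ne hσo
    have hbot : autN K V = ⊥ :=
      (Subgroup.map_eq_bot_iff_of_injective _ Φ.injective).1 (eq_bot_of_perfect hp2 A hperfA hdivA)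
    refine le_trans (le_inf le_rfl ?_) (autN_eq_bot_iff.1 hbot)
    rw [normalizer_eq_top]
    exact le_top
  -- `K ≤ M`
  have hKM : K ≤ M := by
    have h1 : K.map (QuotientGroup.mk' M) = ⊥ := by
      refine eq_bot_of_perfect_of_solvable (commutator_map_self _ hperf) ?_
      have hpg : IsPGroup p (K.map (QuotientGroup.mk' M)) := by
        rintro ⟨_, x, hx, rfl⟩
        obtain ⟨a, ha⟩ := hCM x (hKC hx)
        exact ⟨a, Subtype.ext ((QuotientGroup.eq_one_iff _).2 ha)⟩
      haveI := hpg.isNilpotent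
      infer_instance
    rwa [Subgroup.map_eq_bot_iff, QuotientGroup.ker_mk'] at h1
  exact fun hd => hMp (hd.trans (card_dvd_of_le hKM))

/-- The odd primes of the solvable radical do not divide the perfect core. -/
theorem not_dvd_perfectCore (hp2 : p ≠ 2) (h : IsoExt p G) (hdiv : p ∣ Nat.card (solvableRadical G)) :
    ¬ p ∣ Nat.card (perfectCore G) := by
  obtain ⟨hMn, hMs, hMp⟩ := solvPrime_spec (G := G) hp.out
  haveI := hMn
  set M := solvPrime p G with hMdef
  set π := QuotientGroup.mk' M with hπ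
  have hq : IsoExt p (G ⧸ M) := h.quotient M (solvPrime_characteristic p) hMp
  have hsplit : ∀ A : Subgroup G, Nat.card A ∣ Nat.card M * Nat.card (A.map π) := by
    intro A
    set f := π.comp A.subtype with hf
    have h1 := f.ker.card_mul_index
    rw [Subgroup.index_ker] at h1
    have hr : f.range = A.map π := by rw [hf, MonoidHom.range_comp, range_subtype]
    rw [← h1, hr]
    refine mul_dvd_mul_right ?_ _
    let ι : f.ker →* M := MonoidHom.codRestrict (A.subtype.comp f.ker.subtype) M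
      fun x => (QuotientGroup.eq_one_iff _).1 x.2
    exact card_dvd_of_injective ι fun a b e =>
      Subtype.ext (Subtype.ext (congrArg (fun z : M => (z : G)) e))
  obtain ⟨hRn, hRs⟩ := solvableRadical_spec (G := G)
  have hRdiv : p ∣ Nat.card (solvableRadical (G ⧸ M)) := by
    have hle : (solvableRadical G).map π ≤ solvableRadical (G ⧸ M) :=
      le_solvableRadical (hRn.map π (QuotientGroup.mk'_surjective M))
        (haveI := hRs; Group.isSolvable_of_surjective (π.subgroupMap_surjective _))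
    exact (((hp.out.dvd_mul).1 (hdiv.trans (hsplit _))).resolve_left hMp).trans (card_dvd_of_le hle)
  obtain ⟨V, hVc, hVm, hVne, hiff⟩ := exists_elementary_char hq (solvPrime_quotient hp.out) hRdiv
  haveI := hVm
  have hK := not_dvd_of_perfect hp2 hq hVc hVne hiff perfectCore_characteristic commutator_perfectCore
  intro hd
  exact hK (((hp.out.dvd_mul).1 (hd.trans (hsplit _))).resolve_left hMp |>.trans
    (card_dvd_of_le (map_perfectCore_le π)))

end Cfsg.Agent.Homogeneous
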