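import Cfsg.Agent.Lib.Homogeneous.Radical

/-!
# A radical of even order forces a unique involution modulo its odd part
-/

set_option autoImplicit false
set_option linter.style.haveILetI false

namespace Cfsg.Agent.Homogeneous

open Subgroup Cfsg
open scoped IsMulCommutative commutatorElement

universe u
variable {G : Type u} [Group G] [Finite G]

/-- A non-solvable group has a perfect core of even order. -/
theorem even_card_perfectCore (hns : ¬ Group.IsSolvable G) : Even (Nat.card (perfectCore G)) := by
  by_contra ho
  have hsol : Group.IsSolvable (perfectCore G) := S0205.result (Nat.not_even_iff_odd.1 ho)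
  exact hns (isSolvable_of_perfectCore_eq_bot (eq_bot_of_perfect_of_solvable commutator_perfectCore hsol))

/-- In a quotient without odd radical, a radical of even order gives a unique involution. -/
theorem exists_unique_involution (h : IsoExt 2 G) (hns : ¬ Group.IsSolvable G) (hM : solvPrime 2 G = ⊥)
    (hdiv : 2 ∣ Nat.card (solvableRadical G)) :
    ∃ z : G, orderOf z = 2 ∧ ∀ x : G, orderOf x = 2 → x = z := by
  haveI : Fact (Nat.Prime 2) := ⟨Nat.prime_two⟩
  obtain ⟨V, hVc, hVm, -, hiff⟩ := exists_elementary_char h hM hdiv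
  haveI := hVm
  haveI := hVc
  set K := perfectCore G with hK
  have hKc : K.Characteristic := perfectCore_characteristic
  haveI := hKc
  obtain ⟨⟨z₀, hz₀K⟩, hz₀⟩ :=
    exists_prime_orderOf_dvd_card' (G := K) 2 (even_card_perfectCore hns).two_dvd
  rw [Subgroup.orderOf_mk] at hz₀
  have hinK : ∀ x : G, orderOf x = 2 → x ∈ K := fun x hx =>
    h.mem_of_orderOf_eq (k := 1) hKc hz₀K (by rw [pow_one, hz₀]) (by rw [pow_one, hx])
  have hVK : V ≤ K := by
    intro v hv
    by_cases hv1 : v = 1
    · exact hv1 ▸ K.one_mem
    · exact hinK v (orderOf_eq_prime ((hiff v).1 hv) hv1)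
  have hVp : IsPGroup 2 V := fun v => ⟨1, Subtype.ext (by simpa using (hiff v).1 v.2)⟩
  obtain ⟨n, hn⟩ := IsPGroup.iff_card.1 hVp
  have hbot : autN K V = ⊥ := by
    by_cases h3 : 3 ≤ n
    · exact IsMaxElem.autN_eq_bot h hKc ⟨hVK, hVm, fun x hx => (hiff x).1 hx, fun x _ _ hx => (hiff x).2 hx⟩
        hn h3
    · have hsol : Group.IsSolvable (MulAut V) := by
        refine SolvableAut.isSolvable_of_dvd_24 (OutSolvable.card_perm_dvd.trans
          ((Nat.factorial_dvd_factorial (show Nat.card V - 1 ≤ 3 from ?_)).trans (by decide)))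
        rw [hn]
        interval_cases n <;> norm_num
      haveI := hsol
      refine eq_bot_of_perfect_of_solvable ?_ inferInstance
      have h2 : ⁅K.subgroupOf (normalizer (V : Set G)), K.subgroupOf (normalizer (V : Set G))⁆ =
          K.subgroupOf (normalizer (V : Set G)) := by
        refine Subgroup.map_injective (subtype_injective _) ?_
        rw [Subgroup.map_commutator,
          map_subgroupOf_eq_of_le (show K ≤ normalizer (V : Set G) by rw [normalizer_eq_top]; exact le_top)]
        exact commutator_perfectCore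
      exact commutator_map_self V.normalizerMonoidHom h2
  have hKC : K ≤ centralizer (V : Set G) :=
    (le_inf le_rfl (by rw [normalizer_eq_top]; exact le_top)).trans (autN_eq_bot_iff.1 hbot)
  obtain ⟨⟨z, hzK⟩, hz, huniq⟩ := card_involutions_eq_one (h.subgroup K hKc)
    (isPerfect_of_commutator_self commutator_perfectCore) (even_card_perfectCore hns) fun x hx => by
      rw [Subgroup.mem_center_iff]
      intro y
      have hxV : (x : G) ∈ V := (hiff _).2 (by rw [← Subgroup.coe_pow, hx]; rfl)
      exact Subtype.ext (mem_centralizer_iff.1 (hKC y.2) _ hxV).symm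
  rw [Subgroup.orderOf_mk] at hz
  refine ⟨z, hz, fun x hx => ?_⟩
  exact congrArg Subtype.val (huniq ⟨x, hinK x hx⟩ (by rw [Subgroup.orderOf_mk, hx]))

/-- The unique involution of `G / O(R)`. -/
theorem exists_unique_involution_quotient (h : IsoExt 2 G) (hns : ¬ Group.IsSolvable G)
    (hdiv : 2 ∣ Nat.card (solvableRadical G)) [(solvPrime 2 G).Normal] :
    ∃ z : G ⧸ solvPrime 2 G, orderOf z = 2 ∧ ∀ x : G ⧸ solvPrime 2 G, orderOf x = 2 → x = z := by
  haveI : Fact (Nat.Prime 2) := ⟨Nat.prime_two⟩
  obtain ⟨-, hMs, hMp⟩ := solvPrime_spec (G := G) Nat.prime_two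
  set M := solvPrime 2 G with hMdef
  have hq : IsoExt 2 (G ⧸ M) := h.quotient M (solvPrime_characteristic 2) hMp
  refine exists_unique_involution hq (fun hs => hns ?_) (solvPrime_quotient Nat.prime_two) ?_
  · haveI := hs
    haveI := hMs
    exact (Group.isSolvable_iff_subgroup_quotient M).2 ⟨inferInstance, inferInstance⟩
  · obtain ⟨hRn, hRs⟩ := solvableRadical_spec (G := G)
    haveI := hRs
    set R := solvableRadical G with hR
    have hle : R.map (QuotientGroup.mk' M) ≤ solvableRadical (G ⧸ M) :=
      le_solvableRadical (hRn.map _ (QuotientGroup.mk'_surjective M))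
        (Group.isSolvable_of_surjective ((QuotientGroup.mk' M).subgroupMap_surjective _))
    refine dvd_trans ?_ (card_dvd_of_le hle)
    have hsplit := relIndex_ker R (QuotientGroup.mk' M)
    rw [QuotientGroup.ker_mk'] at hsplit
    have h1 : Nat.card M * M.relIndex R = Nat.card R := by
      rw [← relIndex_bot_left M,
        relIndex_mul_relIndex _ _ _ bot_le (solvPrime_le_solvableRadical 2), relIndex_bot_left]
    rw [hsplit] at h1
    exact ((Nat.prime_two.dvd_mul).1 (h1.symm ▸ hdiv)).resolve_left hMp

end Cfsg.Agent.Homogeneous
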