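import Cfsg.Agent.Lib.Homogeneous.HomSpace
import Cfsg.Agent.Lib.ZStar.Main
import Cfsg.Agent.Lib.PCore.Basic
import Mathlib.GroupTheory.Transfer

/-!
# Automorphisms fixing a Sylow 2-subgroup pointwise

An involutory automorphism `φ` fixing a Sylow 2-subgroup `S` is isolated in `⟨Inn G, φ⟩` as soon as
`g φ(g)⁻¹ ∈ S` forces `g φ(g)⁻¹ = 1`; then `φ = 1` by the Z*-theorem.
-/

set_option autoImplicit false
set_option linter.style.haveILetI false

namespace Cfsg.Agent.Homogeneous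

open Subgroup

universe u

variable {G : Type u} [Group G] [Finite G]

theorem sq_apply_of_sq_eq_one {φ : MulAut G} (hφ : φ * φ = 1) (x : G) : φ (φ x) = x := by
  rw [← MulAut.mul_apply, hφ, MulAut.one_apply]

/-- Inner automorphisms and their translates by `φ`. -/
def innExt (φ : MulAut G) (hφ : φ * φ = 1) : Subgroup (MulAut G) where
  carrier := {a | ∃ g : G, a = MulAut.conj g ∨ a = MulAut.conj g * φ}
  one_mem' := ⟨1, Or.inl (map_one _).symm⟩
  mul_mem' := by
    have hc : ∀ g : G, φ * MulAut.conj g = MulAut.conj (φ g) * φ := fun g => MulEquiv.ext fun x => by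
      simp [MulAut.mul_apply]
    rintro a b ⟨g, rfl | rfl⟩ ⟨h, rfl | rfl⟩
    · exact ⟨g * h, Or.inl (map_mul _ _ _).symm⟩
    · exact ⟨g * h, Or.inr (by rw [map_mul, mul_assoc])⟩
    · exact ⟨g * φ h, Or.inr (by rw [mul_assoc, hc, map_mul, mul_assoc])⟩
    · refine ⟨g * φ h, Or.inl ?_⟩
      rw [mul_assoc, ← mul_assoc φ, hc, mul_assoc, hφ, mul_one, map_mul]
  inv_mem' := by
    have hc : ∀ g : G, φ * MulAut.conj g = MulAut.conj (φ g) * φ := fun g => MulEquiv.ext fun x => by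
      simp [MulAut.mul_apply]
    rintro a ⟨g, rfl | rfl⟩
    · exact ⟨g⁻¹, Or.inl (map_inv _ _).symm⟩
    · refine ⟨φ g⁻¹, Or.inr ?_⟩
      rw [mul_inv_rev, inv_eq_of_mul_eq_one_right hφ, ← map_inv, hc]

/-- An involutory automorphism fixing a Sylow 2-subgroup pointwise without other conjugates over it is trivial. -/
theorem aut_eq_one_of_isolated (hO : ∀ N : Subgroup G, N.Normal → Odd (Nat.card N) → N = ⊥)
    (hcen : center G = ⊥) (S : Sylow 2 G) {φ : MulAut G} (hφ : φ * φ = 1)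
    (hfix : ∀ s ∈ (S : Subgroup G), φ s = s)
    (hiso : ∀ g : G, g * (φ g)⁻¹ ∈ (S : Subgroup G) → g * (φ g)⁻¹ = 1) : φ = 1 := by
  haveI : Fact (Nat.Prime 2) := ⟨Nat.prime_two⟩
  by_contra hne
  set A := innExt φ hφ with hA
  have hconjinj : ∀ a b : G, MulAut.conj a = MulAut.conj b → a = b := fun a b hab => by
    have h1 : a⁻¹ * b ∈ center G := mem_center_iff.2 fun x => by
      have := DFunLike.congr_fun hab x
      simp only [MulAut.conj_apply] at this
      calc x * (a⁻¹ * b) = a⁻¹ * (a * x * a⁻¹) * b := by group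
        _ = a⁻¹ * (b * x * b⁻¹) * b := by rw [this]
        _ = a⁻¹ * b * x := by group
    rw [hcen, Subgroup.mem_bot] at h1
    exact inv_mul_eq_one.1 h1
  let ι : G →* A := (MulAut.conj : G →* MulAut G).codRestrict A fun g => ⟨g, Or.inl rfl⟩
  have hι : Function.Injective ι := fun a b hab => hconjinj a b (congrArg Subtype.val hab)
  set φA : A := ⟨φ, 1, Or.inr (by rw [map_one, one_mul])⟩ with hφA
  have hcomm : ∀ s ∈ (S : Subgroup G), φA * ι s = ι s * φA := fun s hs => Subtype.ext (by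
    show φ * MulAut.conj s = MulAut.conj s * φ
    exact MulEquiv.ext fun x => by simp [MulAut.mul_apply, hfix s hs])
  let T : Subgroup A :=
    { carrier := {a | ∃ s ∈ (S : Subgroup G), a = ι s ∨ a = ι s * φA}
      one_mem' := ⟨1, one_mem _, Or.inl (map_one _).symm⟩
      mul_mem' := by
        rintro a b ⟨s, hs, rfl | rfl⟩ ⟨r, hr, rfl | rfl⟩
        · exact ⟨_, mul_mem hs hr, Or.inl (map_mul _ _ _).symm⟩
        · exact ⟨_, mul_mem hs hr, Or.inr (by rw [map_mul, mul_assoc])⟩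
        · exact ⟨_, mul_mem hs hr, Or.inr (by rw [mul_assoc, hcomm r hr, map_mul, mul_assoc])⟩
        · refine ⟨_, mul_mem hs hr, Or.inl ?_⟩
          rw [mul_assoc, ← mul_assoc φA, hcomm r hr, mul_assoc,
            show φA * φA = 1 from Subtype.ext hφ, mul_one, map_mul]
      inv_mem' := by
        rintro a ⟨s, hs, rfl | rfl⟩
        · exact ⟨_, inv_mem hs, Or.inl (map_inv _ _).symm⟩
        · refine ⟨_, inv_mem hs, Or.inr ?_⟩
          rw [mul_inv_rev, inv_eq_of_mul_eq_one_right (show φA * φA = 1 from Subtype.ext hφ), ← map_inv,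
            hcomm _ (inv_mem hs)] }
  have hT : IsPGroup 2 T := by
    rintro ⟨a, s, hs, rfl | rfl⟩
    · obtain ⟨k, hk⟩ := S.2 ⟨s, hs⟩
      exact ⟨k, Subtype.ext (by
        show (ι s) ^ 2 ^ k = 1
        rw [← map_pow, show s ^ 2 ^ k = 1 from congrArg Subtype.val hk, map_one])⟩
    · obtain ⟨k, hk⟩ := S.2 ⟨s, hs⟩
      refine ⟨k + 1, Subtype.ext ?_⟩
      show (ι s * φA) ^ 2 ^ (k + 1) = 1
      rw [(show Commute (ι s) φA from (hcomm s hs).symm).mul_pow,
        show φA ^ 2 ^ (k + 1) = 1 from Subtype.ext (by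
          show φ ^ 2 ^ (k + 1) = 1
          rw [pow_succ', pow_mul, pow_two, hφ, one_pow]), mul_one, pow_succ, pow_mul, ← map_pow,
        show s ^ 2 ^ k = 1 from congrArg Subtype.val hk, map_one, one_pow]
  obtain ⟨P, hTP⟩ := hT.exists_le_sylow
  -- inner elements of `P`
  have hPinn : ∀ g : G, ι g ∈ (P : Subgroup A) → g ∈ (S : Subgroup G) := by
    intro g hg
    have h1 : IsPGroup 2 ((P : Subgroup A).comap ι) := P.2.comap_of_injective ι hι
    have h2 : (S : Subgroup G) ≤ (P : Subgroup A).comap ι := fun s hs => hTP ⟨s, hs, Or.inl rfl⟩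
    have h3 : g ∈ (P : Subgroup A).comap ι := hg
    rwa [S.3 h1 h2] at h3
  have hφP : φA ∈ (P : Subgroup A) := hTP ⟨1, one_mem _, Or.inr (by rw [map_one, one_mul])⟩
  have ho : orderOf φA = 2 := orderOf_eq_prime (Subtype.ext (by
    show φ ^ 2 = 1
    rw [pow_two, hφ])) fun e => hne (congrArg Subtype.val e)
  have hisoA : IsIsolatedInvolution φA := by
    refine ZStar.isolated_of_sylow ho hφP fun a ha => ?_
    obtain ⟨g, hga⟩ : ∃ g, a * φA * a⁻¹ = ι g * φA * (ι g)⁻¹ := by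
      obtain ⟨a, g, rfl | rfl⟩ := a
      · exact ⟨g, rfl⟩
      · refine ⟨g, Subtype.ext ?_⟩
        show MulAut.conj g * φ * φ * (MulAut.conj g * φ)⁻¹ = MulAut.conj g * φ * (MulAut.conj g)⁻¹
        rw [mul_inv_rev, mul_assoc _ φ φ, hφ, mul_one, inv_eq_of_mul_eq_one_right hφ, ← mul_assoc]
    have hval : ι g * φA * (ι g)⁻¹ = ι (g * (φ g)⁻¹) * φA := Subtype.ext (by
      show MulAut.conj g * φ * (MulAut.conj g)⁻¹ = MulAut.conj (g * (φ g)⁻¹) * φ
      refine MulEquiv.ext fun x => ?_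
      simp only [MulAut.mul_apply, MulAut.inv_apply, MulAut.conj_symm_apply, MulAut.conj_apply,
        map_mul, map_inv, mul_inv_rev, inv_inv])
    rw [hga, hval] at ha ⊢
    have hmem : ι (g * (φ g)⁻¹) ∈ (P : Subgroup A) := by
      have := mul_mem (show ι (g * (φ g)⁻¹) * φA ∈ (P : Subgroup A) from ha) (inv_mem hφP)
      rwa [mul_inv_cancel_right] at this
    rw [hiso g (hPinn _ hmem), map_one, one_mul]
  have hZ := ZStar.inZStar hisoA
  have hN : (oddCore A).comap ι = ⊥ := by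
    refine hO _ inferInstance ?_
    refine (PCore.odd_card_oddCore (G := A)).of_dvd_nat ?_
    rw [← card_map_of_injective (f := ι) hι]
    exact card_dvd_of_le (map_comap_le _ _)
  refine hne (MulEquiv.ext fun g => ?_)
  have h1 : φA * ι g * φA⁻¹ * (ι g)⁻¹ ∈ oddCore A := ZStar.commutator_mem_oddCore hZ (ι g)
  rw [show φA * ι g * φA⁻¹ = ι (φ g) from Subtype.ext (MulEquiv.ext fun x => by
    show φ (g * φ⁻¹ x * g⁻¹) = φ g * x * (φ g)⁻¹
    simp), ← map_inv, ← map_mul] at h1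
  have h2 : φ g * g⁻¹ ∈ (oddCore A).comap ι := h1
  rw [hN, Subgroup.mem_bot, mul_inv_eq_one] at h2
  exact h2

/-- If `g φ(g)⁻¹` lies in `S` it is an involution or `1`. -/
theorem sq_eq_one_of_mem {S : Subgroup G} {φ : MulAut G} (hφ : φ * φ = 1)
    (hfix : ∀ s ∈ S, φ s = s) {g : G} (hs : g * (φ g)⁻¹ ∈ S) :
    (g * (φ g)⁻¹) * (g * (φ g)⁻¹) = 1 := by
  have h1 : φ (g * (φ g)⁻¹) = φ g * g⁻¹ := by rw [map_mul, map_inv, sq_apply_of_sq_eq_one hφ]
  rw [hfix _ hs] at h1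
  calc g * (φ g)⁻¹ * (g * (φ g)⁻¹) = φ g * g⁻¹ * (g * (φ g)⁻¹) := by nth_rewrite 1 [h1]; rfl
    _ = 1 := by group

/-- If `g φ(g)⁻¹` is central in `S`, it is also `n φ(n)⁻¹` for some `n` normalising `S`. -/
theorem exists_normalizer_rep (S : Sylow 2 G) {φ : MulAut G}
    (hfix : ∀ s ∈ (S : Subgroup G), φ s = s) {g : G}
    (hcen : ∀ x ∈ (S : Subgroup G), g * (φ g)⁻¹ * x = x * (g * (φ g)⁻¹)) :
    ∃ n ∈ normalizer ((S : Subgroup G) : Set G), n * (φ n)⁻¹ = g * (φ g)⁻¹ := by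
  haveI : Fact (Nat.Prime 2) := ⟨Nat.prime_two⟩
  set K := fixSub φ with hK
  have h1 : (S : Subgroup G) ≤ K := fun s hs => hfix s hs
  have h2 : ((g⁻¹ • S : Sylow 2 G) : Subgroup G) ≤ K := by
    intro v hv
    rw [Sylow.coe_subgroup_smul, Subgroup.mem_pointwise_smul_iff_inv_smul_mem] at hv
    have hu : g * v * g⁻¹ ∈ (S : Subgroup G) := by simpa using hv
    show φ v = v
    have e1 := hfix _ hu
    rw [map_mul, map_mul, map_inv] at e1
    have e2 := hcen _ hu
    calc φ v = (φ g)⁻¹ * (φ g * φ v * (φ g)⁻¹) * φ g := by group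
      _ = g⁻¹ * (g * (φ g)⁻¹ * (g * v * g⁻¹)) * φ g := by rw [e1]; group
      _ = g⁻¹ * ((g * v * g⁻¹) * (g * (φ g)⁻¹)) * φ g := by rw [e2]
      _ = v := by group
  obtain ⟨k, hk⟩ := MulAction.exists_smul_eq K (S.subtype h1) ((g⁻¹ • S : Sylow 2 G).subtype h2)
  have hk' : ((k : G) • S : Sylow 2 G) = g⁻¹ • S := by
    refine Sylow.subtype_injective (hP := (Sylow.smul_le h1 k)) (hQ := h2) ?_
    rw [← hk]
    exact (Sylow.smul_subtype h1 k).symm
  refine ⟨g * (k : G), ?_, ?_⟩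
  · exact Sylow.smul_eq_iff_mem_normalizer.1 (by rw [mul_smul, hk', smul_inv_smul])
  · rw [map_mul, show φ (k : G) = k from k.2, mul_inv_rev, mul_assoc, mul_inv_cancel_left]

/-- An element of `hW`, `W` an odd `φ`-invariant coset, is fixed by `φ`. -/
theorem exists_fixed_in_coset {φ : MulAut G} {m : ℕ} (hφ : φ ^ 2 ^ m = 1) {W : Subgroup G}
    (hW : Odd (Nat.card W)) (hWφ : ∀ w ∈ W, φ w ∈ W) {h : G} (hh : h⁻¹ * φ h ∈ W) :
    ∃ h' : G, h⁻¹ * h' ∈ W ∧ φ h' = h' := by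
  haveI : Fact (Nat.Prime 2) := ⟨Nat.prime_two⟩
  have hP : IsPGroup 2 (zpowers φ) := by
    obtain ⟨b, -, hb⟩ := (Nat.dvd_prime_pow Nat.prime_two).1 (orderOf_dvd_of_pow_eq_one hφ)
    exact IsPGroup.of_card (n := b) (by rw [Nat.card_zpowers, hb])
  set X := {x : G // h⁻¹ * x ∈ W} with hX
  have hinv : ∀ x : G, h⁻¹ * x ∈ W → h⁻¹ * φ x ∈ W := fun x hx => by
    have := mul_mem hh (hWφ _ hx)
    rwa [map_mul, map_inv, mul_assoc, mul_inv_cancel_left] at this
  let L : Subgroup (MulAut G) :=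
    { carrier := {ψ | ∀ x : G, (h⁻¹ * x ∈ W ↔ h⁻¹ * ψ x ∈ W)}
      one_mem' := fun x => Iff.rfl
      mul_mem' := fun {a b} ha hb x => (hb x).trans (ha (b x))
      inv_mem' := fun {a} ha x => by
        rw [ha (a⁻¹ x), MulAut.apply_inv_self] }
  have hφL : φ ∈ L := fun x => by
    refine ⟨hinv x, fun hx => ?_⟩
    have : ∀ k : ℕ, h⁻¹ * (φ ^ k) (φ x) ∈ W := fun k => by
      induction k with
      | zero => simpa using hx
      | succ k ih => rw [pow_succ', MulAut.mul_apply]; exact hinv _ ih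
    have h1 := this (2 ^ m - 1)
    rwa [← MulAut.mul_apply, ← pow_succ, Nat.sub_add_cancel Nat.one_le_two_pow, hφ, MulAut.one_apply] at h1
  have hle : zpowers φ ≤ L := zpowers_le.2 hφL
  letI : MulAction (zpowers φ) X :=
    { smul := fun ψ x => ⟨(ψ : MulAut G) x.1, (hle ψ.2 x.1).1 x.2⟩
      one_smul := fun x => Subtype.ext rfl
      mul_smul := fun a b x => Subtype.ext rfl }
  have hcard : Nat.card X = Nat.card W :=
    Nat.card_congr
      { toFun := fun x => ⟨h⁻¹ * x.1, x.2⟩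
        invFun := fun w => ⟨h * w.1, by rw [inv_mul_cancel_left]; exact w.2⟩
        left_inv := fun x => Subtype.ext (mul_inv_cancel_left h x.1)
        right_inv := fun w => Subtype.ext (inv_mul_cancel_left h w.1) }
  obtain ⟨x, hx⟩ := hP.nonempty_fixed_point_of_prime_not_dvd_card X
    (by rw [hcard]; exact hW.not_two_dvd_nat)
  exact ⟨x.1, x.2, congrArg Subtype.val (hx ⟨φ, mem_zpowers φ⟩)⟩

/-- Induction to involutory automorphisms. -/
theorem aut_eq_one_of_involutions {P : MulAut G → Prop} (hP : ∀ φ, P φ → P (φ * φ))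
    (h : ∀ φ, P φ → φ * φ = 1 → φ = 1) : ∀ (m : ℕ) (φ : MulAut G), φ ^ 2 ^ m = 1 → P φ → φ = 1
  | 0, φ, hm, _ => by simpa using hm
  | m + 1, φ, hm, hφ => by
    refine h φ hφ (aut_eq_one_of_involutions hP h m (φ * φ) ?_ (hP φ hφ))
    rw [← pow_two, ← pow_mul, ← pow_succ', hm]

end Cfsg.Agent.Homogeneous
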