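import Cfsg.Agent.Lib.Homogeneous.RigidAut
import Cfsg.Agent.Lib.QDFusion.IndexTwo

/-!
# Automorphisms fixing a semidihedral Sylow 2-subgroup pointwise

`qd_rigid`: with no subgroup of index two, no odd normal subgroup and trivial centre, such an automorphism of
2-power order is trivial or conjugation by the central involution.
-/

set_option autoImplicit false
set_option linter.style.haveILetI false
set_option linter.unusedSectionVars false

namespace Cfsg.Agent.Homogeneous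

open Subgroup TwoGroups QDFusion

universe u

variable {G : Type u} [Group G] [Finite G] {S : Sylow 2 G} {x y : ↥(S : Subgroup G)} {m : ℕ}
  (h : QDGen x y m)
include h

theorem eq_of_commute_xy {i : ℤ} {u : ↥(S : Subgroup G)}
    (hc : u * (x ^ i * y) = x ^ i * y * u) :
    u = 1 ∨ u = zz x m ∨ u = x ^ i * y ∨ u = zz x m * (x ^ i * y) := by
  have key : ∀ j : ℤ, x ^ j * (x ^ i * y) = x ^ i * y * x ^ j → x ^ j = 1 ∨ x ^ j = zz x m := by
    intro j hj
    rw [QDGen.x_mul_xy, h.xy_mul_x, h.xy_eq_iff] at hj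
    obtain ⟨k, hk⟩ := hj
    obtain ⟨c, rfl⟩ := h.dvd_of_fixed (i := j) ⟨-k, by linarith⟩
    rcases Int.even_or_odd' c with ⟨d, rfl | rfl⟩
    · exact Or.inl ((h.zpow_eq_one_iff _).2 ⟨d, by ring⟩)
    · exact Or.inr ((h.zpow_eq_iff _ _).2 ⟨d, by ring⟩)
  obtain ⟨j, rfl | rfl⟩ := h.exists_form u
  · rcases key j hc with e | e
    · exact Or.inl e
    · exact Or.inr (Or.inl e)
  · have e0 : x ^ j * y = x ^ (j - i) * (x ^ i * y) := by rw [QDGen.x_mul_xy, sub_add_cancel]
    have hc' : x ^ (j - i) * (x ^ i * y) = x ^ i * y * x ^ (j - i) := by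
      rw [e0, ← mul_assoc (x ^ i * y)] at hc
      exact mul_right_cancel hc
    rcases key _ hc' with e | e
    · exact Or.inr (Or.inr (Or.inl (by rw [e0, e, one_mul])))
    · exact Or.inr (Or.inr (Or.inr (by rw [e0, e])))

theorem conj_central_eq {n : G} (hn : n ∈ normalizer ((S : Subgroup G) : Set G)) :
    n * ((zz x m : ↥(S : Subgroup G)) : G) * n⁻¹ = ((zz x m : ↥(S : Subgroup G)) : G) := by
  set z : G := ((zz x m : ↥(S : Subgroup G)) : G) with hz
  have hw : n * z * n⁻¹ ∈ (S : Subgroup G) := (mem_normalizer_iff.1 hn z).1 (SetLike.coe_mem _)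
  have ho : orderOf (⟨_, hw⟩ : ↥(S : Subgroup G)) = 2 := by
    rw [Subgroup.orderOf_mk, ← MulAut.conj_apply, MulEquiv.orderOf_eq, hz, orderOf_zz h]
  rcases eq_zz_or_xy h ho with e | ⟨i, hi, e⟩
  · exact congrArg Subtype.val e
  · exfalso
    have hcx : x * (x ^ i * y) = x ^ i * y * x := by
      rw [← e]
      apply Subtype.ext
      show (x : G) * (n * z * n⁻¹) = n * z * n⁻¹ * x
      have hx' : n⁻¹ * x * n ∈ (S : Subgroup G) := by
        have := (mem_normalizer_iff.1 (inv_mem hn) (x : G)).1 x.2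
        simpa using this
      have := congrArg Subtype.val (commute_zz h ⟨_, hx'⟩).eq
      simp only [Subgroup.coe_mul] at this
      calc (x : G) * (n * z * n⁻¹) = n * (n⁻¹ * x * n * z) * n⁻¹ := by group
        _ = n * (z * (n⁻¹ * x * n)) * n⁻¹ := by rw [this]
        _ = n * z * n⁻¹ * x := by group
    rcases eq_of_commute_xy h hcx with e' | e' | e' | e'
    · have := h.ordX
      rw [e', orderOf_one] at this
      have : 1 ≤ 2 ^ m := Nat.one_le_two_pow
      omega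
    · have := h.ordX
      rw [e', ← orderOf_coe, orderOf_zz h] at this
      have : 1 ≤ 2 ^ m := Nat.one_le_two_pow
      omega
    · exact h.xy_ne i 1 (by rw [zpow_one]; exact e'.symm)
    · exact h.xy_ne ((4 : ℤ) * 2 ^ m + i) 1 (by rw [zpow_one, ← QDGen.x_mul_xy]; exact e'.symm)

/-- An element inducing `z ↦ t ↦ z t` on a four subgroup. -/
theorem exists_three_cycle (hno : ∀ H : Subgroup G, H.index ≠ 2) :
    ∃ g : G, g * (zz x m : ↥(S : Subgroup G)) * g⁻¹ = ((x ^ (0 : ℤ) * y : ↥(S : Subgroup G)) : G) ∧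
      g * ((x ^ (0 : ℤ) * y : ↥(S : Subgroup G)) : G) * g⁻¹ =
        ((zz x m * (x ^ (0 : ℤ) * y) : ↥(S : Subgroup G)) : G) := by
  set z : G := ((zz x m : ↥(S : Subgroup G)) : G) with hz
  set t : G := ((x ^ (0 : ℤ) * y : ↥(S : Subgroup G)) : G) with ht
  obtain ⟨g, hg⟩ : ∃ g : G, g * z * g⁻¹ = t := by
    refine isConj_iff.1 ?_
    by_contra hne
    obtain ⟨M, -, hM, -⟩ := exists_index_two_missing_involution h hne
    exact hno M hM
  set w := g⁻¹ * z * g with hw
  have htz : t * z = z * t := congrArg Subtype.val (commute_zz h (x ^ (0 : ℤ) * y)).eq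
  have hwC : w ∈ centralizer ({z} : Set G) := by
    refine mem_centralizer_singleton_iff.2 ?_
    calc g⁻¹ * z * g * z = g⁻¹ * (z * (g * z * g⁻¹)) * g := by group
      _ = g⁻¹ * (g * z * g⁻¹ * z) * g := by rw [hg, htz]
      _ = z * (g⁻¹ * z * g) := by group
  have hwo : orderOf w = 2 := by
    have := MulEquiv.orderOf_eq (MulAut.conj g⁻¹) z
    rw [MulAut.conj_apply, inv_inv, hz, orderOf_zz h] at this
    exact this
  have hwp : IsPGroup 2 (zpowers w) := IsPGroup.of_card (n := 1) (by rw [Nat.card_zpowers, hwo, pow_one])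
  obtain ⟨c, hcC, hc⟩ := exists_conj_le (S := S) (fun s hs => mem_centralizer_zz h ⟨s, hs⟩) hwp
    (zpowers_le.2 hwC)
  have hcz : c * z * c⁻¹ = z := by
    rw [show c * z = z * c from mem_centralizer_singleton_iff.1 hcC, mul_inv_cancel_right]
  have ho : orderOf (⟨_, hc w (mem_zpowers w)⟩ : ↥(S : Subgroup G)) = 2 := by
    rw [Subgroup.orderOf_mk, ← MulAut.conj_apply, MulEquiv.orderOf_eq, hwo]
  rcases eq_zz_or_xy h ho with e | ⟨i, hi, e⟩
  · exfalso
    have e' : c * w * c⁻¹ = c * z * c⁻¹ := (congrArg Subtype.val e).trans hcz.symm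
    have e'' : w = z := mul_left_cancel (mul_right_cancel e')
    have hzt : z = t := by
      calc z = g * w * g⁻¹ := by rw [hw]; group
        _ = t := by rw [e'', hg]
    exact h.xy_ne 0 ((4 : ℤ) * 2 ^ m) (Subtype.ext hzt.symm)
  obtain ⟨j, hj⟩ := h.exists_conj (i := i) (i' := 0) (by simpa using hi)
  set d : G := ((x ^ j : ↥(S : Subgroup G)) : G) * c with hd
  have hdw : d * w * d⁻¹ = t := by
    have e1 : c * w * c⁻¹ = ((x ^ i * y : ↥(S : Subgroup G)) : G) := congrArg Subtype.val e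
    calc d * w * d⁻¹ = ((x ^ j : ↥(S : Subgroup G)) : G) * (c * w * c⁻¹) * ((x ^ j : ↥(S : Subgroup G)) : G)⁻¹ := by
          rw [hd]; group
      _ = t := by rw [e1, ht, ← hj]; simp
  have hdz : d * z * d⁻¹ = z := by
    have e1 := congrArg Subtype.val (conj_zz h (x ^ j))
    simp only [Subgroup.coe_mul, Subgroup.coe_inv] at e1
    calc d * z * d⁻¹ = ((x ^ j : ↥(S : Subgroup G)) : G) * (c * z * c⁻¹) * ((x ^ j : ↥(S : Subgroup G)) : G)⁻¹ := by
          rw [hd]; group
      _ = z := by rw [hcz]; exact e1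
  -- compose with an element fixing `z` and moving `t`
  set r : G := ((x ^ ((2 : ℤ) * 2 ^ m) : ↥(S : Subgroup G)) : G) with hr
  have hrz : r * z * r⁻¹ = z := congrArg Subtype.val (conj_zz h _)
  have hrt : r * t * r⁻¹ = z * t := by
    have e1 : x ^ ((2 : ℤ) * 2 ^ m) * (x ^ (0 : ℤ) * y) * (x ^ ((2 : ℤ) * 2 ^ m))⁻¹ =
        zz x m * (x ^ (0 : ℤ) * y) := by
      rw [h.conj_xy_by_x, QDGen.x_mul_xy, h.xy_eq_iff]
      exact ⟨-(2 ^ m), by ring⟩
    exact congrArg Subtype.val e1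
  refine ⟨g * d⁻¹ * r, ?_, ?_⟩
  · calc g * d⁻¹ * r * z * (g * d⁻¹ * r)⁻¹ = g * (d⁻¹ * (r * z * r⁻¹) * d) * g⁻¹ := by group
      _ = g * (d⁻¹ * (d * z * d⁻¹) * d) * g⁻¹ := by rw [hrz, hdz]
      _ = t := by rw [← hg]; group
  · calc g * d⁻¹ * r * t * (g * d⁻¹ * r)⁻¹ = g * (d⁻¹ * (r * t * r⁻¹) * d) * g⁻¹ := by group
      _ = g * (d⁻¹ * (d * z * d⁻¹ * (d * w * d⁻¹)) * d) * g⁻¹ := by rw [hrt, hdz, hdw]
      _ = g * z * g⁻¹ * (g * w * g⁻¹) := by group
      _ = t * z := by rw [hg, hw]; group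
      _ = z * t := htz

/-- An involutory automorphism fixing `S` pointwise and fixing an element fusing `z` with `y` is trivial. -/
theorem qd_rigid_invol (hO : ∀ N : Subgroup G, N.Normal → Odd (Nat.card N) → N = ⊥) (hcen : center G = ⊥)
    {φ : MulAut G} (hφ : φ * φ = 1) (hfix : ∀ s ∈ (S : Subgroup G), φ s = s)
    {k₀ : G} (hk₀ : φ k₀ = k₀)
    (hk₀z : k₀ * (zz x m : ↥(S : Subgroup G)) * k₀⁻¹ = ((x ^ (0 : ℤ) * y : ↥(S : Subgroup G)) : G)) :
    φ = 1 := by
  haveI : Fact (Nat.Prime 2) := ⟨Nat.prime_two⟩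
  set z : G := ((zz x m : ↥(S : Subgroup G)) : G) with hz
  have hφz : φ z = z := hfix z (SetLike.coe_mem _)
  have hzo : orderOf z = 2 := orderOf_zz h
  refine aut_eq_one_of_isolated hO hcen S hφ hfix fun g hgS => ?_
  by_contra hne
  set s := g * (φ g)⁻¹ with hs
  have hs2 : s * s = 1 := sq_eq_one_of_mem hφ hfix hgS
  have hso : orderOf (⟨s, hgS⟩ : ↥(S : Subgroup G)) = 2 :=
    orderOf_eq_prime (Subtype.ext (by show s ^ 2 = 1; rw [pow_two, hs2])) fun e => hne (congrArg Subtype.val e)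
  rcases eq_zz_or_xy h hso with e | ⟨i, hi, e⟩
  · -- the central case
    have e' : s = z := congrArg Subtype.val e
    obtain ⟨n, hn, hns⟩ := exists_normalizer_rep S hfix (g := g) (fun u hu => by
      rw [show g * (φ g)⁻¹ = z from e']
      exact (congrArg Subtype.val (commute_zz h ⟨u, hu⟩).eq).symm)
    rw [show g * (φ g)⁻¹ = z from e'] at hns
    have hzn : Commute z n := by
      have := conj_central_eq h hn
      rw [mul_inv_eq_iff_eq_mul] at this
      exact this.symm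
    have hφn : φ n = z * n := by
      calc φ n = (n * (φ n)⁻¹)⁻¹ * n := by group
        _ = z⁻¹ * n := by rw [hns]
        _ = z * n := by rw [inv_eq_of_mul_eq_one_right (by rw [← pow_two, ← hzo, pow_orderOf_eq_one])]
    obtain ⟨a, o, ho, hord⟩ := Nat.exists_eq_two_pow_mul_odd (orderOf_pos n).ne'
    have hu : n ^ o ∈ (S : Subgroup G) := by
      have hp : IsPGroup 2 (zpowers (n ^ o)) := by
        obtain ⟨b, -, hb⟩ := (Nat.dvd_prime_pow Nat.prime_two).1
          (orderOf_dvd_of_pow_eq_one (x := n ^ o) (n := 2 ^ a) (by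
            rw [← pow_mul, mul_comm, ← hord, pow_orderOf_eq_one]))
        exact IsPGroup.of_card (n := b) (by rw [Nat.card_zpowers, hb])
      have hsup := hp.to_sup_of_normal_right' S.2
        (zpowers_le.2 (pow_mem hn o))
      exact (S.3 hsup le_sup_right).le (le_sup_left (a := zpowers (n ^ o)) (mem_zpowers _))
    have h1 := hfix _ hu
    rw [map_pow, hφn, hzn.mul_pow] at h1
    have h2 : z ^ o = 1 := mul_eq_right.1 h1
    have h3 : 2 ∣ o := hzo ▸ orderOf_dvd_of_pow_eq_one h2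
    exact Nat.not_even_iff_odd.2 ho (even_iff_two_dvd.2 h3)
  -- the noncentral case
  have hsz : s * z = z * s := congrArg Subtype.val (commute_zz h ⟨s, hgS⟩).eq
  have hsi : s⁻¹ = s := inv_eq_of_mul_eq_one_right hs2
  have hφg : φ g = s * g := by
    calc φ g = s⁻¹ * g := by rw [hs]; group
      _ = s * g := by rw [hsi]
  set z' := g⁻¹ * z * g with hz'
  set K := fixSub φ with hK
  have hSK : (S : Subgroup G) ≤ K := fun u hu => hfix u hu
  have hz'K : z' ∈ K := by
    show φ z' = z'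
    rw [hz', map_mul, map_mul, map_inv, hφz, hφg]
    calc (s * g)⁻¹ * z * (s * g) = g⁻¹ * (s⁻¹ * (z * s)) * g := by group
      _ = g⁻¹ * z * g := by rw [← hsz, inv_mul_cancel_left]
  have hz'o : orderOf z' = 2 := by
    have := MulEquiv.orderOf_eq (MulAut.conj g⁻¹) z
    rw [MulAut.conj_apply, inv_inv, hzo] at this
    exact this
  obtain ⟨k₁, hk₁K, hk₁⟩ := exists_conj_le (S := S) hSK
    (IsPGroup.of_card (n := 1) (by rw [Nat.card_zpowers, hz'o, pow_one]) : IsPGroup 2 (zpowers z'))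
    (zpowers_le.2 hz'K)
  obtain ⟨k, hkK, hk⟩ : ∃ k ∈ K, k * z * k⁻¹ = z' := by
    have ho : orderOf (⟨_, hk₁ z' (mem_zpowers z')⟩ : ↥(S : Subgroup G)) = 2 := by
      rw [Subgroup.orderOf_mk, ← MulAut.conj_apply, MulEquiv.orderOf_eq, hz'o]
    rcases eq_zz_or_xy h ho with e₁ | ⟨i₁, hi₁, e₁⟩
    · refine ⟨k₁⁻¹, inv_mem hk₁K, ?_⟩
      rw [show z = k₁ * z' * k₁⁻¹ from (congrArg Subtype.val e₁).symm]
      group
    · obtain ⟨j, hj⟩ := h.exists_conj (i := 0) (i' := i₁) (by simpa using hi₁)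
      refine ⟨k₁⁻¹ * ((x ^ j : ↥(S : Subgroup G)) : G) * k₀,
        mul_mem (mul_mem (inv_mem hk₁K) (hSK (SetLike.coe_mem _))) hk₀, ?_⟩
      have e2 : k₁ * z' * k₁⁻¹ = ((x ^ i₁ * y : ↥(S : Subgroup G)) : G) := congrArg Subtype.val e₁
      have e3 := congrArg Subtype.val hj
      simp only [Subgroup.coe_mul, Subgroup.coe_inv] at e2 e3 hk₀z
      calc k₁⁻¹ * ((x ^ j : ↥(S : Subgroup G)) : G) * k₀ * z * (k₁⁻¹ * ((x ^ j : ↥(S : Subgroup G)) : G) * k₀)⁻¹
          = k₁⁻¹ * (((x ^ j : ↥(S : Subgroup G)) : G) * (k₀ * z * k₀⁻¹) *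
              ((x ^ j : ↥(S : Subgroup G)) : G)⁻¹) * k₁ := by group
        _ = k₁⁻¹ * (k₁ * z' * k₁⁻¹) * k₁ := by rw [hk₀z, e3, e2]
        _ = z' := by group
  set c := g * k with hc
  have hcz : c * z * c⁻¹ = z := by
    calc c * z * c⁻¹ = g * (k * z * k⁻¹) * g⁻¹ := by rw [hc]; group
      _ = z := by rw [hk, hz']; group
  have hcs : c * (φ c)⁻¹ = s := by
    rw [hc, map_mul, show φ k = k from hkK, mul_inv_rev, mul_assoc, mul_inv_cancel_left, ← hs]
  -- the centralizer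
  set C := centralizer ({z} : Set G) with hC
  have hSC : (S : Subgroup G) ≤ C := fun u hu => mem_centralizer_zz h ⟨u, hu⟩
  have hcC : c ∈ C := mem_centralizer_singleton_iff.2 (mul_inv_eq_iff_eq_mul.1 hcz)
  have hφC : ∀ {v : G}, v ∈ C → φ v ∈ C := fun {v} hv => by
    refine mem_centralizer_singleton_iff.2 ?_
    rw [← hφz, ← map_mul, ← map_mul, mem_centralizer_singleton_iff.1 hv]
  let e₂ : ↥(S : Subgroup G) ≃* ↥((S.subtype hSC : Sylow 2 C) : Subgroup C) :=
    (subgroupOfEquivOfLe hSC).symm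
  have h' : QDGen (e₂ x) (e₂ y) m :=
    ⟨by rw [← Nat.card_congr e₂.toEquiv]; exact h.card, by rw [MulEquiv.orderOf_eq]; exact h.ordX,
      by rw [MulEquiv.orderOf_eq]; exact h.ordY,
      by rw [← map_inv, ← map_mul, ← map_mul, ← map_zpow, h.conj]⟩
  obtain ⟨M, hMn, hM2, hyM⟩ := exists_index_two_missing_involution h' (by
    intro hcon
    obtain ⟨d, hd⟩ := isConj_iff.1 hcon
    have hd' := congrArg Subtype.val hd
    simp only [Subgroup.coe_mul, Subgroup.coe_inv, Subgroup.coe_zpow] at hd'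
    have e5 : (d : G) * z * (d : G)⁻¹ = ((x ^ (0 : ℤ) * y : ↥(S : Subgroup G)) : G) := by
      rw [hz]
      simp only [Subgroup.coe_mul, Subgroup.coe_zpow]
      exact hd'
    rw [show (d : G) * z = z * d from mem_centralizer_singleton_iff.1 d.2, mul_inv_cancel_right] at e5
    exact h.xy_ne 0 ((4 : ℤ) * 2 ^ m) (Subtype.ext e5.symm))
  have hparity : ∀ v : C, v ∈ M ↔ (⟨φ v, hφC v.2⟩ : C) ∈ M := by
    intro v
    obtain ⟨a, o, ho, hord⟩ := Nat.exists_eq_two_pow_mul_odd (orderOf_pos v).ne'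
    have hpow : ∀ u : C, u ∈ M ↔ u ^ o ∈ M := by
      intro u
      obtain ⟨r, hr⟩ := ho
      rw [hr, pow_succ]
      refine (M.mul_mem_cancel_left ?_).symm
      rw [pow_mul]
      exact pow_mem (pow_two u ▸ M.mul_self_mem_of_index_two hM2 u) r
    rw [hpow v, hpow ⟨φ v, hφC v.2⟩]
    have hp : IsPGroup 2 (zpowers ((v ^ o : C) : G)) := by
      obtain ⟨b, -, hb⟩ := (Nat.dvd_prime_pow Nat.prime_two).1
        (orderOf_dvd_of_pow_eq_one (x := ((v ^ o : C) : G)) (n := 2 ^ a) (by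
          rw [← Subgroup.coe_pow, ← pow_mul, mul_comm, ← hord, pow_orderOf_eq_one, Subgroup.coe_one]))
      exact IsPGroup.of_card (n := b) (by rw [Nat.card_zpowers, hb])
    obtain ⟨d, hdC, hd⟩ := exists_conj_le (S := S) hSC hp (zpowers_le.2 (v ^ o : C).2)
    have hu := hd _ (mem_zpowers _)
    have key : ∀ (d' w : C), (d' * w * d'⁻¹ ∈ M ↔ w ∈ M) := fun d' w =>
      ⟨fun hh => by
        have := hMn.conj_mem _ hh d'⁻¹
        rwa [inv_inv, ← mul_assoc, ← mul_assoc, inv_mul_cancel, one_mul, inv_mul_cancel_right] at this,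
        fun hh => hMn.conj_mem _ hh d'⟩
    rw [← key ⟨d, hdC⟩ (v ^ o), ← key ⟨φ d, hφC hdC⟩ ((⟨φ v, hφC v.2⟩ : C) ^ o)]
    refine Iff.of_eq (congrArg (· ∈ M) (Subtype.ext ?_))
    have := hfix _ hu
    simp only [Subgroup.coe_mul, Subgroup.coe_inv, Subgroup.coe_pow, map_mul, map_inv, map_pow] at this ⊢
    exact this.symm
  have hsM : (⟨s, hSC hgS⟩ : C) ∈ M := by
    have e4 : (⟨s, hSC hgS⟩ : C) = ⟨c, hcC⟩ * (⟨φ c, hφC hcC⟩ : C)⁻¹ := Subtype.ext hcs.symm
    rw [e4, M.mul_mem_iff_of_index_two hM2, inv_mem_iff]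
    exact hparity ⟨c, hcC⟩
  obtain ⟨j, hj⟩ := h'.exists_conj (i := i) (i' := 0) (by simpa using hi)
  refine hyM ?_
  rw [← hj]
  push_cast
  have e6 : ((e₂ x : ↥((S.subtype hSC : Sylow 2 C) : Subgroup C)) : C) ^ i *
      ((e₂ y : ↥((S.subtype hSC : Sylow 2 C) : Subgroup C)) : C) = (⟨s, hSC hgS⟩ : C) := by
    rw [← Subgroup.coe_zpow, ← Subgroup.coe_mul, ← map_zpow, ← map_mul, ← e]
    rfl
  rw [e6]
  exact hMn.conj_mem _ hsM _

/-- The four subgroup `⟨z, y⟩` is a Sylow 2-subgroup of its centralizer, and has an odd complement there. -/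
theorem exists_retraction :
    ∃ (V : Subgroup G) (θ : centralizer (V : Set G) →* V),
      (∀ v : G, v ∈ V ↔ v = 1 ∨ v = zz x m ∨ v = ((x ^ (0 : ℤ) * y : ↥(S : Subgroup G)) : G) ∨
        v = ((zz x m * (x ^ (0 : ℤ) * y) : ↥(S : Subgroup G)) : G)) ∧
      Odd (Nat.card θ.ker) ∧ (∀ v : centralizer (V : Set G), Odd (orderOf v) → θ v = 1) ∧
      (∀ v w : centralizer (V : Set G), (v : G) ∈ V → (w : G) ∈ V → θ v = θ w → v = w) ∧
      ∀ a : centralizer (V : Set G), ∃ v : centralizer (V : Set G), (v : G) ∈ V ∧ θ a = θ v := by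
  haveI : Fact (Nat.Prime 2) := ⟨Nat.prime_two⟩
  set zs : ↥(S : Subgroup G) := zz x m with hzs
  set ts : ↥(S : Subgroup G) := x ^ (0 : ℤ) * y with hts
  have hzz : zs * zs = 1 := by rw [← pow_two]; exact (h.x_sq_eq_one_iff _).2 dvd_rfl
  have htt : ts * ts = 1 := by rw [← pow_two]; exact (h.xy_sq_eq_one_iff _).2 (dvd_zero _)
  have hzt : zs * ts = ts * zs := (commute_zz h ts).eq.symm
  let V₀ : Subgroup ↥(S : Subgroup G) :=
    { carrier := {v | v = 1 ∨ v = zs ∨ v = ts ∨ v = zs * ts}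
      one_mem' := Or.inl rfl
      mul_mem' := by
        have h1 : ts * zs = zs * ts := hzt.symm
        have h7 : zs * (ts * zs) = ts := by rw [← hzt, ← mul_assoc, hzz, one_mul]
        have h2 : zs * (zs * ts) = ts := by rw [← mul_assoc, hzz, one_mul]
        have h3 : ts * (zs * ts) = zs := by rw [← mul_assoc, ← hzt, mul_assoc, htt, mul_one]
        have h4 : zs * ts * zs = ts := by rw [mul_assoc, ← hzt, h2]
        have h5 : zs * ts * ts = zs := by rw [mul_assoc, htt, mul_one]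
        have h6 : zs * ts * (zs * ts) = 1 := by rw [mul_assoc, h3, hzz]
        rintro a b (rfl | rfl | rfl | rfl) (rfl | rfl | rfl | rfl) <;>
          simp [hzz, htt, h1, h2, h3, h4, h5, h6, h7]
      inv_mem' := by
        rintro a (rfl | rfl | rfl | rfl)
        · exact Or.inl inv_one
        · exact Or.inr (Or.inl (inv_eq_of_mul_eq_one_right hzz))
        · exact Or.inr (Or.inr (Or.inl (inv_eq_of_mul_eq_one_right htt)))
        · refine Or.inr (Or.inr (Or.inr ?_))
          rw [mul_inv_rev, inv_eq_of_mul_eq_one_right hzz, inv_eq_of_mul_eq_one_right htt, hzt] }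
  set V := V₀.map (S : Subgroup G).subtype with hV
  have hmem : ∀ v : G, v ∈ V ↔ v = 1 ∨ v = (zs : G) ∨ v = (ts : G) ∨ v = ((zs * ts : ↥(S : Subgroup G)) : G) := by
    intro v
    constructor
    · rintro ⟨u, hu, rfl⟩
      rcases hu with rfl | rfl | rfl | rfl
      · exact Or.inl rfl
      · exact Or.inr (Or.inl rfl)
      · exact Or.inr (Or.inr (Or.inl rfl))
      · exact Or.inr (Or.inr (Or.inr rfl))
    · rintro (rfl | rfl | rfl | rfl)
      · exact one_mem _
      · exact ⟨_, Or.inr (Or.inl rfl), rfl⟩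
      · exact ⟨_, Or.inr (Or.inr (Or.inl rfl)), rfl⟩
      · exact ⟨_, Or.inr (Or.inr (Or.inr rfl)), rfl⟩
  have hV2 : IsPGroup 2 V := (S.2.to_subgroup V₀).map _
  set CV := centralizer (V : Set G) with hCV
  have hVC : V ≤ CV := by
    rintro _ ⟨a, ha, rfl⟩
    refine mem_centralizer_iff.2 ?_
    rintro _ ⟨b, hb, rfl⟩
    rw [← map_mul, ← map_mul]
    congr 1
    have hcz : Commute zs a := (commute_zz h a).symm
    have hct : Commute ts a := by
      rcases ha with rfl | rfl | rfl | rfl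
      · exact Commute.one_right _
      · exact hzt.symm
      · exact Commute.refl _
      · exact (Commute.mul_right (show Commute ts zs from hzt.symm) (Commute.refl ts))
    rcases hb with rfl | rfl | rfl | rfl
    · exact (Commute.one_left a).eq
    · exact hcz.eq
    · exact hct.eq
    · exact (hcz.mul_left hct).eq
  obtain ⟨Q, hQ⟩ := (hV2.comap_subtype (K := CV)).exists_le_sylow
  have hQV : (Q : Subgroup CV) = V.subgroupOf CV := by
    refine le_antisymm (fun q hq => ?_) hQ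
    have hQC : (Q : Subgroup CV).map CV.subtype ≤ centralizer ({(zs : G)} : Set G) := by
      rintro _ ⟨q', -, rfl⟩
      exact mem_centralizer_singleton_iff.2 (mem_centralizer_iff.1 q'.2 _ ((hmem _).2 (Or.inr (Or.inl rfl)))).symm
    obtain ⟨c, hcC, hc⟩ := exists_conj_le (S := S) (fun u hu => mem_centralizer_zz h ⟨u, hu⟩)
      (Q.2.map CV.subtype) hQC
    have htQ : (ts : G) ∈ (Q : Subgroup CV).map CV.subtype :=
      ⟨⟨_, hVC ((hmem _).2 (Or.inr (Or.inr (Or.inl rfl))))⟩, hQ ((hmem _).2 (Or.inr (Or.inr (Or.inl rfl)))), rfl⟩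
    have hqQ : (q : G) ∈ (Q : Subgroup CV).map CV.subtype := ⟨q, hq, rfl⟩
    have ho : orderOf (⟨_, hc _ htQ⟩ : ↥(S : Subgroup G)) = 2 := by
      rw [Subgroup.orderOf_mk, ← MulAut.conj_apply, MulEquiv.orderOf_eq, hts, orderOf_xy_even h (dvd_zero _)]
    have hcz : c * (zs : G) * c⁻¹ = (zs : G) := by
      rw [show c * (zs : G) = zs * c from mem_centralizer_singleton_iff.1 hcC, mul_inv_cancel_right]
    rcases eq_zz_or_xy h ho with e | ⟨i, hi, e⟩
    · exfalso
      have e' : c * (ts : G) * c⁻¹ = c * (zs : G) * c⁻¹ := (congrArg Subtype.val e).trans hcz.symm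
      exact h.xy_ne 0 ((4 : ℤ) * 2 ^ m) (Subtype.ext (mul_left_cancel (mul_right_cancel e')))
    have hcomm : (⟨_, hc _ hqQ⟩ : ↥(S : Subgroup G)) * (x ^ i * y) =
        x ^ i * y * ⟨_, hc _ hqQ⟩ := by
      rw [← e]
      apply Subtype.ext
      show c * (q : G) * c⁻¹ * (c * ts * c⁻¹) = c * ts * c⁻¹ * (c * q * c⁻¹)
      have := mem_centralizer_iff.1 q.2 _ ((hmem _).2 (Or.inr (Or.inr (Or.inl rfl))))
      calc c * (q : G) * c⁻¹ * (c * ts * c⁻¹) = c * (q * ts) * c⁻¹ := by group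
        _ = c * (ts * q) * c⁻¹ := by rw [this]
        _ = c * ts * c⁻¹ * (c * q * c⁻¹) := by group
    have hct : c * (ts : G) * c⁻¹ = ((x ^ i * y : ↥(S : Subgroup G)) : G) := congrArg Subtype.val e
    show (q : G) ∈ V
    rw [hmem]
    rcases eq_of_commute_xy h hcomm with e' | e' | e' | e' <;> have e'' := congrArg Subtype.val e' <;>
      change c * (q : G) * c⁻¹ = _ at e''
    · left
      exact mul_right_cancel (mul_left_cancel (a := c) (b := (q : G) * c⁻¹) (c := 1 * c⁻¹)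
        (by rw [one_mul, ← mul_assoc, e'', mul_inv_cancel, Subgroup.coe_one]))
    · right; left
      exact mul_left_cancel (mul_right_cancel (e''.trans hcz.symm))
    · right; right; left
      exact mul_left_cancel (mul_right_cancel (e''.trans hct.symm))
    · right; right; right
      have e3 : c * (q : G) * c⁻¹ = c * ((zs : G) * ts) * c⁻¹ := by
        rw [e'', Subgroup.coe_mul, ← hct]
        calc (zs : G) * (c * ts * c⁻¹) = c * zs * c⁻¹ * (c * ts * c⁻¹) := by rw [hcz]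
          _ = c * ((zs : G) * ts) * c⁻¹ := by group
      exact mul_left_cancel (mul_right_cancel e3)
  have hle : normalizer ((Q : Subgroup CV) : Set CV) ≤ centralizer ((Q : Subgroup CV) : Set CV) := by
    intro n _
    refine mem_centralizer_iff.2 fun q hq => Subtype.ext ?_
    rw [hQV] at hq
    exact mem_centralizer_iff.1 n.2 _ hq
  let e₃ : ↥(Q : Subgroup CV) ≃* V := (MulEquiv.subgroupCongr hQV).trans (subgroupOfEquivOfLe hVC)
  set θ₀ := MonoidHom.transferSylow Q hle with hθ₀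
  have hdis := MonoidHom.ker_transferSylow_isComplement' Q hle
  have hodd : Odd (Nat.card θ₀.ker) :=
    Nat.not_even_iff_odd.1 fun he => MonoidHom.not_dvd_card_ker_transferSylow Q hle he.two_dvd
  refine ⟨V, e₃.toMonoidHom.comp θ₀, hmem, ?_, ?_, ?_, ?_⟩
  · rwa [MonoidHom.ker_comp_of_injective _ _ e₃.injective]
  · intro v hv
    rw [MonoidHom.comp_apply]
    have h1 : orderOf (θ₀ v) ∣ orderOf v := orderOf_map_dvd θ₀ v
    obtain ⟨k, hk⟩ := (IsPGroup.iff_orderOf.1 Q.2) (θ₀ v)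
    have h2 : orderOf (θ₀ v) = 1 := Nat.eq_one_of_dvd_coprimes
      ((Nat.coprime_two_left.2 hv).pow_left k) (dvd_of_eq hk) h1
    rw [orderOf_eq_one_iff.1 h2, map_one]
  · intro v w hv hw hvw
    have hvQ : v ∈ (Q : Subgroup CV) := by rw [hQV]; exact hv
    have hwQ : w ∈ (Q : Subgroup CV) := by rw [hQV]; exact hw
    have h1 : v⁻¹ * w ∈ θ₀.ker := by
      rw [MonoidHom.mem_ker, map_mul, map_inv, inv_mul_eq_one]
      exact e₃.injective hvw
    have h2 := hdis.disjoint.le_bot ⟨h1, (Q : Subgroup CV).mul_mem ((Q : Subgroup CV).inv_mem hvQ) hwQ⟩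
    exact inv_mul_eq_one.1 (Subgroup.mem_bot.1 h2)
  · intro a
    obtain ⟨⟨w, v⟩, hwv⟩ := hdis.2 a
    refine ⟨v.1, ?_, ?_⟩
    · exact (SetLike.ext_iff.1 hQV (v : CV)).1 v.2
    · rw [MonoidHom.comp_apply, MonoidHom.comp_apply, ← hwv]
      show e₃ (θ₀ ((w : CV) * (v : CV))) = _
      rw [map_mul, show θ₀ (w : CV) = 1 from w.2, one_mul]
      rfl

/-- An automorphism of 2-power order fixing a semidihedral Sylow 2-subgroup pointwise is `1` or conjugation by the
central involution. -/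
theorem qd_rigid (hO : ∀ N : Subgroup G, N.Normal → Odd (Nat.card N) → N = ⊥) (hcen : center G = ⊥)
    (hno : ∀ H : Subgroup G, H.index ≠ 2) {φ : MulAut G} {k : ℕ} (hφ : φ ^ 2 ^ k = 1)
    (hfix : ∀ s ∈ (S : Subgroup G), φ s = s) :
    φ = 1 ∨ φ = MulAut.conj ((zz x m : ↥(S : Subgroup G)) : G) := by
  obtain ⟨g, hgz, hgt⟩ := exists_three_cycle h hno
  obtain ⟨V, θ, hmem, hodd, hker, hinj, hsurj⟩ := exists_retraction h
  set z : G := ((zz x m : ↥(S : Subgroup G)) : G) with hz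
  set t : G := ((x ^ (0 : ℤ) * y : ↥(S : Subgroup G)) : G) with ht
  set r : G := ((x ^ ((2 : ℤ) * 2 ^ m) * y : ↥(S : Subgroup G)) : G) with hr
  rw [Subgroup.coe_mul, ← hz, ← ht] at hmem hgt
  have hφz : φ z = z := hfix _ (SetLike.coe_mem _)
  have hφt : φ t = t := hfix _ (SetLike.coe_mem _)
  have hφr : φ r = r := hfix _ (SetLike.coe_mem _)
  have hzz : z * z = 1 := by rw [← pow_two, ← orderOf_zz h, pow_orderOf_eq_one]
  have htt : t * t = 1 := by rw [← pow_two, ← orderOf_xy_even h (dvd_zero 2), pow_orderOf_eq_one]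
  have htz : t * z = z * t := congrArg Subtype.val (commute_zz h (x ^ (0 : ℤ) * y)).eq
  have hrr : r * r = 1 := by rw [← pow_two, ← orderOf_xy_even h (dvd_mul_right 2 (2 ^ m)), pow_orderOf_eq_one]
  have hri : r⁻¹ = r := inv_eq_of_mul_eq_one_right hrr
  have hrz : r * z * r = z := by
    have := congrArg Subtype.val (conj_zz h (x ^ ((2 : ℤ) * 2 ^ m) * y))
    simp only [Subgroup.coe_mul, Subgroup.coe_inv] at this
    rw [hz]
    nth_rewrite 2 [← hri]
    simpa [hr] using this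
  have hrt : r * t * r = z * t := by
    have e1 : x ^ ((2 : ℤ) * 2 ^ m) * y * (x ^ (0 : ℤ) * y) * (x ^ ((2 : ℤ) * 2 ^ m) * y) =
        zz x m * (x ^ (0 : ℤ) * y) := by
      rw [h.xy_mul_xy, QDGen.x_mul_xy, QDGen.x_mul_xy, h.xy_eq_iff]
      exact ⟨0, by ring⟩
    exact congrArg Subtype.val e1
  -- three cycle
  have hg3 : g * (z * t) * g⁻¹ = z := by
    calc g * (z * t) * g⁻¹ = g * z * g⁻¹ * (g * t * g⁻¹) := by group
      _ = t * z * t := by rw [hgz, hgt]; group
      _ = z := by rw [htz, mul_assoc, htt, mul_one]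
  have hgiz : g⁻¹ * z * g = z * t := by
    calc g⁻¹ * z * g = g⁻¹ * (g * (z * t) * g⁻¹) * g := by rw [hg3]
      _ = z * t := by group
  have hgit : g⁻¹ * t * g = z := by rw [← hgz]; group
  have hgizt : g⁻¹ * (z * t) * g = t := by rw [← hgt]; group
  have hzV : z ∈ V := (hmem _).2 (Or.inr (Or.inl rfl))
  have htV : t ∈ V := (hmem _).2 (Or.inr (Or.inr (Or.inl rfl)))
  have memCV : ∀ {a : G}, a * z = z * a → a * t = t * a → a ∈ (centralizer (V : Set G)) := by
    intro a h1 h2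
    refine mem_centralizer_iff.2 fun v hv => ?_
    rcases (hmem v).1 hv with rfl | rfl | rfl | rfl
    · rw [one_mul, mul_one]
    · exact h1.symm
    · exact h2.symm
    · rw [mul_assoc, ← h2, ← mul_assoc, ← h1, mul_assoc]
  have cz : ∀ {a : G}, a ∈ (centralizer (V : Set G)) → a * z = z * a := fun ha => (mem_centralizer_iff.1 ha z hzV).symm
  have ct : ∀ {a : G}, a ∈ (centralizer (V : Set G)) → a * t = t * a := fun ha => (mem_centralizer_iff.1 ha t htV).symm
  have hφC' : ∀ {a : G}, a ∈ (centralizer (V : Set G)) → φ a ∈ (centralizer (V : Set G)) := fun {a} ha => memCV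
    (by rw [← hφz, ← map_mul, ← map_mul, cz ha]) (by rw [← hφt, ← map_mul, ← map_mul, ct ha])
  have hfixV : ∀ v ∈ V, φ v = v := by
    intro v hv
    rcases (hmem v).1 hv with rfl | rfl | rfl | rfl
    · exact map_one φ
    · exact hφz
    · exact hφt
    · rw [map_mul, hφz, hφt]
  -- the retraction commutes with the automorphisms involved
  have hθφ : ∀ a : (centralizer (V : Set G)), θ ⟨φ a, hφC' a.2⟩ = θ a := by
    intro a
    obtain ⟨v, hvV, hav⟩ := hsurj a
    have hw : v⁻¹ * a ∈ θ.ker := by rw [MonoidHom.mem_ker, map_mul, map_inv, hav, inv_mul_cancel]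
    have ho : Odd (orderOf (v⁻¹ * a)) := hodd.of_dvd_nat (θ.ker.orderOf_dvd_natCard hw)
    have e : (⟨φ a, hφC' a.2⟩ : (centralizer (V : Set G))) = v * ⟨φ (v⁻¹ * a : (centralizer (V : Set G))), hφC' (v⁻¹ * a : (centralizer (V : Set G))).2⟩ := Subtype.ext (by
      show φ (a : G) = (v : G) * φ ((v : G)⁻¹ * a)
      rw [map_mul, map_inv, hfixV _ hvV, mul_inv_cancel_left])
    have ho' : Odd (orderOf (⟨φ (v⁻¹ * a : (centralizer (V : Set G))), hφC' (v⁻¹ * a : (centralizer (V : Set G))).2⟩ : (centralizer (V : Set G)))) := by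
      rw [Subgroup.orderOf_mk, MulEquiv.orderOf_eq, orderOf_coe]; exact ho
    rw [e, map_mul, hker _ ho', mul_one, hav]
  -- the automorphism modulo the complement
  have haC : g⁻¹ * φ g ∈ (centralizer (V : Set G)) := by
    have key : ∀ v : G, φ v = v → φ (g * v * g⁻¹) = g * v * g⁻¹ →
        g⁻¹ * φ g * v = v * (g⁻¹ * φ g) := fun v h1 h2 => by
      rw [map_mul, map_mul, map_inv, h1] at h2
      calc g⁻¹ * φ g * v = g⁻¹ * (φ g * v * (φ g)⁻¹) * φ g := by group
        _ = v * (g⁻¹ * φ g) := by rw [h2]; group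
    exact memCV (key z hφz (by rw [hgz, hφt])) (key t hφt (by rw [hgt, map_mul, hφz, hφt]))
  set a : (centralizer (V : Set G)) := ⟨_, haC⟩ with ha
  have hcC : g⁻¹ * (r * g⁻¹ * r) ∈ (centralizer (V : Set G)) := by
    refine memCV ?_ ?_
    · calc g⁻¹ * (r * g⁻¹ * r) * z = g⁻¹ * r * g⁻¹ * ((r * z * r) * r⁻¹) := by group
        _ = g⁻¹ * r * g⁻¹ * (z * r) := by rw [hrz, hri]
        _ = g⁻¹ * r * (g⁻¹ * z * g) * g⁻¹ * r := by group
        _ = g⁻¹ * ((r * z * r⁻¹) * (r * t * r⁻¹)) * r * g⁻¹ * r := by rw [hgiz]; group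
        _ = g⁻¹ * (z * (z * t)) * r * g⁻¹ * r := by rw [hri, hrz, hrt]
        _ = g⁻¹ * t * r * g⁻¹ * r := by rw [← mul_assoc z, hzz, one_mul]
        _ = (g⁻¹ * t * g) * (g⁻¹ * (r * g⁻¹ * r)) := by group
        _ = z * (g⁻¹ * (r * g⁻¹ * r)) := by rw [hgit]
    · calc g⁻¹ * (r * g⁻¹ * r) * t = g⁻¹ * r * g⁻¹ * ((r * t * r) * r⁻¹) := by group
        _ = g⁻¹ * r * g⁻¹ * (z * t * r) := by rw [hrt, hri]
        _ = g⁻¹ * r * (g⁻¹ * (z * t) * g) * g⁻¹ * r := by group
        _ = g⁻¹ * (r * t * r⁻¹) * r * g⁻¹ * r := by rw [hgizt]; group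
        _ = g⁻¹ * (z * t) * r * g⁻¹ * r := by rw [hri, hrt]
        _ = (g⁻¹ * (z * t) * g) * (g⁻¹ * (r * g⁻¹ * r)) := by group
        _ = t * (g⁻¹ * (r * g⁻¹ * r)) := by rw [hgizt]
  set c : (centralizer (V : Set G)) := ⟨_, hcC⟩ with hc
  -- conjugation `B`
  have hB : ∀ v ∈ (centralizer (V : Set G)), g⁻¹ * r * v * r * g ∈ (centralizer (V : Set G)) := by
    intro v hv
    refine memCV ?_ ?_
    · calc g⁻¹ * r * v * r * g * z = g⁻¹ * r * v * (r * (g * z * g⁻¹) * r⁻¹) * r * g := by group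
        _ = g⁻¹ * r * (v * (z * t)) * r * g := by rw [hgz, hri, hrt]; group
        _ = g⁻¹ * r * (z * t * v) * r * g := by
            rw [← mul_assoc v, cz hv, mul_assoc z v, ct hv, ← mul_assoc z]
        _ = g⁻¹ * ((r * z * r⁻¹) * (r * t * r⁻¹)) * r * v * r * g := by group
        _ = g⁻¹ * (z * (z * t)) * r * v * r * g := by rw [hri, hrz, hrt]
        _ = (g⁻¹ * t * g) * (g⁻¹ * r * v * r * g) := by rw [← mul_assoc z, hzz, one_mul]; group
        _ = z * (g⁻¹ * r * v * r * g) := by rw [hgit]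
    · calc g⁻¹ * r * v * r * g * t = g⁻¹ * r * v * (r * (g * t * g⁻¹) * r⁻¹) * r * g := by group
        _ = g⁻¹ * r * v * ((r * z * r⁻¹) * (r * t * r⁻¹)) * r * g := by rw [hgt]; group
        _ = g⁻¹ * r * (v * t) * r * g := by rw [hri, hrz, hrt, ← mul_assoc z, hzz, one_mul]; group
        _ = g⁻¹ * r * (t * v) * r * g := by rw [ct hv]
        _ = g⁻¹ * (r * t * r⁻¹) * r * v * r * g := by group
        _ = g⁻¹ * (z * t) * r * v * r * g := by rw [hri, hrt]
        _ = (g⁻¹ * (z * t) * g) * (g⁻¹ * r * v * r * g) := by group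
        _ = t * (g⁻¹ * r * v * r * g) := by rw [hgizt]
  let B : (centralizer (V : Set G)) →* (centralizer (V : Set G)) := MonoidHom.mk' (fun v => ⟨g⁻¹ * r * (v : G) * r * g, hB v v.2⟩) fun v w => Subtype.ext (by
    show g⁻¹ * r * ((v : G) * w) * r * g = g⁻¹ * r * v * r * g * (g⁻¹ * r * w * r * g)
    rw [show g⁻¹ * r * (v : G) * r * g * (g⁻¹ * r * w * r * g) = g⁻¹ * r * v * (r * r) * w * r * g by group,
      hrr, mul_one]
    group)
  have hrel : a * ⟨φ c, hφC' c.2⟩ = B a⁻¹ * c := Subtype.ext (by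
    show g⁻¹ * φ g * φ (g⁻¹ * (r * g⁻¹ * r)) = g⁻¹ * r * (g⁻¹ * φ g)⁻¹ * r * g * (g⁻¹ * (r * g⁻¹ * r))
    rw [map_mul, map_mul, map_mul, map_inv, hφr]
    calc g⁻¹ * φ g * ((φ g)⁻¹ * (r * (φ g)⁻¹ * r)) = g⁻¹ * r * (φ g)⁻¹ * r := by group
      _ = g⁻¹ * r * (φ g)⁻¹ * g * ((r * r) * g⁻¹) * r := by rw [hrr]; group
      _ = g⁻¹ * r * (g⁻¹ * φ g)⁻¹ * r * g * (g⁻¹ * (r * g⁻¹ * r)) := by group)
  obtain ⟨v, hvV, hav⟩ := hsurj a
  have hv2 : (v : G) * v = 1 := by
    rcases (hmem _).1 hvV with e | e | e | e <;> rw [e]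
    · exact mul_one 1
    · exact hzz
    · exact htt
    · rw [mul_assoc, ← mul_assoc t, htz, mul_assoc z t t, htt, mul_one, hzz]
  have hθB : θ (B a⁻¹) = θ (B v) := by
    have hw : v⁻¹ * a ∈ θ.ker := by rw [MonoidHom.mem_ker, map_mul, map_inv, hav, inv_mul_cancel]
    have ho : Odd (orderOf (v⁻¹ * a)) := hodd.of_dvd_nat (θ.ker.orderOf_dvd_natCard hw)
    have e1 : θ (B (v⁻¹ * a)) = 1 := hker _ (ho.of_dvd_nat (orderOf_map_dvd B _))
    rw [map_mul, map_mul] at e1
    have e2 : θ (B a⁻¹) = θ (B v⁻¹) := by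
      rw [map_inv B, map_inv θ]
      exact inv_eq_of_mul_eq_one_left e1
    rw [e2, show v⁻¹ = v from inv_eq_of_mul_eq_one_right (Subtype.ext hv2)]
  have hBv : B v = v := by
    have e1 : θ a * θ ⟨φ c, hφC' c.2⟩ = θ (B a⁻¹) * θ c :=
      ((map_mul θ _ _).symm.trans (congrArg θ hrel)).trans (map_mul θ _ _)
    rw [hθφ c, hθB, hav] at e1
    have hmemB : ((B v : (centralizer (V : Set G))) : G) ∈ V := by
      show g⁻¹ * r * (v : G) * r * g ∈ V
      rw [hmem]
      rcases (hmem _).1 hvV with e | e | e | e <;> rw [e]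
      · left; rw [mul_one, mul_assoc _ r r, hrr, mul_one, inv_mul_cancel]
      · right; right; right
        rw [mul_assoc g⁻¹, mul_assoc g⁻¹, hrz, hgiz]
      · right; right; left
        rw [mul_assoc g⁻¹, mul_assoc g⁻¹, hrt, hgizt]
      · right; left
        rw [show g⁻¹ * r * (z * t) * r * g = g⁻¹ * (r * z * r⁻¹ * (r * t * r)) * g by group, hri, hrz, hrt,
          ← mul_assoc z, hzz, one_mul, hgit]
    exact hinj _ _ hmemB hvV (mul_right_cancel e1).symm
  -- choose the right translate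
  have key : ∀ (ψ : MulAut G) (l : ℕ), ψ ^ 2 ^ l = 1 → (∀ s ∈ (S : Subgroup G), ψ s = s) →
      (∃ hψ : g⁻¹ * ψ g ∈ (centralizer (V : Set G)), θ ⟨_, hψ⟩ = 1) → ψ = 1 := by
    intro ψ l hψ hψfix ⟨hψC, hψθ⟩
    set W := θ.ker.map (centralizer (V : Set G)).subtype with hW
    have hWodd : Odd (Nat.card W) := by rw [hW, card_map_of_injective (centralizer (V : Set G)).subtype_injective]; exact hodd
    have hψz : ψ z = z := hψfix _ (SetLike.coe_mem _)
    have hψt : ψ t = t := hψfix _ (SetLike.coe_mem _)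
    obtain ⟨g', hg', hg'f⟩ := exists_fixed_in_coset hψ hWodd (h := g) (by
      rintro _ ⟨w, hw, rfl⟩
      have hwC : ψ (w : G) ∈ (centralizer (V : Set G)) := memCV (by rw [← hψz, ← map_mul, ← map_mul, cz w.2])
        (by rw [← hψt, ← map_mul, ← map_mul, ct w.2])
      refine ⟨⟨_, hwC⟩, hker _ ?_, rfl⟩
      rw [← orderOf_coe]
      show Odd (orderOf (ψ (w : G)))
      rw [MulEquiv.orderOf_eq, orderOf_coe]
      exact hodd.of_dvd_nat (θ.ker.orderOf_dvd_natCard hw))
      ⟨⟨_, hψC⟩, hψθ, rfl⟩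
    obtain ⟨w, -, hw⟩ := hg'
    have hg'z : g' * z * g'⁻¹ = t := by
      have e1 : g' = g * w := by
        show g' = g * (centralizer (V : Set G)).subtype w
        rw [hw, mul_inv_cancel_left]
      rw [e1, mul_inv_rev, show g * (w : G) * z * ((w : G)⁻¹ * g⁻¹) = g * ((w : G) * z * (w : G)⁻¹) * g⁻¹ by group,
        cz w.2, mul_inv_cancel_right, hgz]
    refine aut_eq_one_of_involutions (P := fun χ => (∀ s ∈ (S : Subgroup G), χ s = s) ∧ χ g' = g')
      (fun χ hχ => ⟨fun s hs => by rw [MulAut.mul_apply, hχ.1 s hs, hχ.1 s hs],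
        by rw [MulAut.mul_apply, hχ.2, hχ.2]⟩)
      (fun χ hχ hχ2 => qd_rigid_invol h hO hcen hχ2 hχ.1 hχ.2 hg'z) l ψ hψ ⟨hψfix, hg'f⟩
  have hcases : (v : G) = 1 ∨ (v : G) = t := by
    have e1 : g⁻¹ * r * (v : G) * r * g = (v : G) := congrArg Subtype.val hBv
    rcases (hmem _).1 hvV with e | e | e | e
    · exact Or.inl e
    · exfalso
      rw [e, mul_assoc g⁻¹, mul_assoc g⁻¹, hrz, hgiz] at e1
      exact h.xy_ne 0 0 ((mul_eq_left.1 e1 : t = 1) |> fun e' => Subtype.ext (e'.trans (by rw [zpow_zero, Subgroup.coe_one])))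
    · exact Or.inr e
    · exfalso
      rw [e, show g⁻¹ * r * (z * t) * r * g = g⁻¹ * (r * z * r⁻¹ * (r * t * r)) * g by group, hri, hrz, hrt,
        ← mul_assoc z, hzz, one_mul, hgit] at e1
      exact h.xy_ne 0 0 ((mul_eq_left.1 e1.symm : t = 1) |> fun e' => Subtype.ext (e'.trans (by rw [zpow_zero, Subgroup.coe_one])))
  rcases hcases with e | e
  · refine Or.inl (key φ k hφ hfix ⟨haC, ?_⟩)
    show θ a = 1
    rw [hav, show v = 1 from Subtype.ext e, map_one]
  · right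
    have hcomm : Commute (MulAut.conj z) φ := MulEquiv.ext fun u => by
      simp [MulAut.mul_apply, map_mul, map_inv, hφz]
    have hψ : (MulAut.conj z * φ) ^ 2 ^ (k + 1) = 1 := by
      rw [hcomm.mul_pow, pow_succ, pow_mul φ, hφ, one_pow, mul_one, mul_comm, pow_mul, pow_two, ← map_mul, hzz,
        map_one, one_pow]
    have h1 : MulAut.conj z * φ = 1 := by
      refine key _ (k + 1) hψ (fun s hs => ?_) ?_
      · rw [MulAut.mul_apply, hfix s hs, MulAut.conj_apply]
        have := congrArg Subtype.val (commute_zz h ⟨s, hs⟩).eq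
        rw [show z * s = s * z from this.symm, mul_inv_cancel_right]
      · have e2 : g⁻¹ * (MulAut.conj z * φ) g = t * (g⁻¹ * φ g) := by
          rw [MulAut.mul_apply, MulAut.conj_apply, inv_eq_of_mul_eq_one_right hzz]
          calc g⁻¹ * (z * φ g * z) = (g⁻¹ * z * g) * ((g⁻¹ * φ g) * z) := by group
            _ = t * z * (z * (g⁻¹ * φ g)) := by rw [hgiz, cz haC, htz]
            _ = t * (g⁻¹ * φ g) := by rw [mul_assoc, ← mul_assoc z z, hzz, one_mul]
        have htC : t ∈ (centralizer (V : Set G)) := memCV htz rfl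
        refine ⟨e2 ▸ mul_mem htC haC, ?_⟩
        rw [show (⟨_, e2 ▸ mul_mem htC haC⟩ : (centralizer (V : Set G))) = v * a from Subtype.ext (e2.trans (by rw [Subgroup.coe_mul, e]))]
        rw [map_mul, hav, ← map_mul, show v * v = 1 from Subtype.ext hv2, map_one]
    rw [← inv_eq_of_mul_eq_one_right h1, ← map_inv, inv_eq_of_mul_eq_one_right hzz]

end Cfsg.Agent.Homogeneous
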