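import Cfsg.Agent.Lib.Homogeneous.IsoExt
import Cfsg.Agent.Lib.Homogeneous.HomSpace
import Cfsg.Agent.Lib.PGroup.Frattini
import Mathlib.Data.Nat.GCD.BigOperators

/-!
# Stability automorphisms of a central series `1 ≤ Z₀ ≤ P`

For `f : P → Z₀` killing `Z₀` the automorphism `x ↦ x f(x)` of `P` extends to an automorphism `φ` of `G`.
If `g ∈ N` normalises `P` and `Z₀` then `φ(g) g⁻¹` induces the stability automorphism of `f / f^g`, so this
is inner by an element of `Y = {y ∈ P : [y, P] ≤ Z₀}` when `P` contains the relevant `p`-elements.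
-/

set_option autoImplicit false
set_option linter.style.haveILetI false
set_option linter.unusedSectionVars false

namespace Cfsg.Agent.Homogeneous

open Subgroup
open scoped commutatorElement IsMulCommutative

variable {G : Type*} [Group G]

/-- `Z₀` is elementary abelian and central in `P`. -/
structure CentralSub (p : ℕ) (P Z₀ : Subgroup G) : Prop where
  le : Z₀ ≤ P
  comm : ∀ z ∈ Z₀, ∀ x ∈ P, z * x = x * z
  pow : ∀ z ∈ Z₀, z ^ p = 1

/-- The kernel of all homomorphisms `P → Z₀` killing `Z₀`. -/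
def wKer (p : ℕ) (P Z₀ : Subgroup G) : Subgroup P :=
  Z₀.subgroupOf P ⊔ commutator P ⊔ closure (Set.range fun x : P => x ^ p)

instance wKer_normal (p : ℕ) (P Z₀ : Subgroup G) : (wKer p P Z₀).Normal :=
  Normal.of_commutator_le P (le_sup_right.trans le_sup_left)

/-- `P / Z₀ Φ(P)`. -/
abbrev WQuot (p : ℕ) (P Z₀ : Subgroup G) : Type _ := ↥P ⧸ wKer p P Z₀

instance wQuot_commGroup (p : ℕ) (P Z₀ : Subgroup G) : CommGroup (WQuot p P Z₀) :=
  { (inferInstance : Group (WQuot p P Z₀)) with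
    mul_comm := fun a b => by
      induction a using QuotientGroup.induction_on with | _ a =>
      induction b using QuotientGroup.induction_on with | _ b =>
      rw [← QuotientGroup.mk_mul, ← QuotientGroup.mk_mul, QuotientGroup.eq]
      have : (a * b)⁻¹ * (b * a) = ⁅b⁻¹, a⁻¹⁆ := by rw [commutatorElement_def]; group
      rw [this]
      exact (le_sup_right.trans le_sup_left : commutator P ≤ wKer p P Z₀)
        (commutator_mem_commutator (mem_top _) (mem_top _)) }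

theorem wQuot_pow (p : ℕ) (P Z₀ : Subgroup G) (w : WQuot p P Z₀) : w ^ p = 1 := by
  induction w using QuotientGroup.induction_on with
  | _ w =>
    rw [← QuotientGroup.mk_pow, QuotientGroup.eq_one_iff]
    exact mem_sup_right (subset_closure ⟨w, rfl⟩)

/-- Every homomorphism `P → Z₀` killing `Z₀` kills `wKer`. -/
theorem wKer_le_ker {p : ℕ} {P Z₀ : Subgroup G} [IsMulCommutative Z₀] (hc : CentralSub p P Z₀)
    (f : P →* Z₀) (hf : ∀ x : P, (x : G) ∈ Z₀ → f x = 1) : wKer p P Z₀ ≤ f.ker := by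
  refine sup_le (sup_le (fun x hx => hf x (mem_subgroupOf.1 hx)) (Abelianization.commutator_subset_ker f)) ?_
  rw [closure_le]
  rintro _ ⟨x, rfl⟩
  show f (x ^ p) = 1
  rw [map_pow]
  exact Subtype.ext (hc.pow _ (f x).2)

/-- `Z₀ Φ(P) = P` forces `Z₀ = P`. -/
theorem eq_of_wKer_eq_top [Finite G] {p : ℕ} [Fact p.Prime] {P Z₀ : Subgroup G} (hP : IsPGroup p P)
    (hle : Z₀ ≤ P) (h : wKer p P Z₀ = ⊤) : Z₀ = P := by
  have h1 : Z₀.subgroupOf P ⊔ frattini P = ⊤ := by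
    rw [eq_top_iff, ← h, PGroup.frattini_eq hP, ← sup_assoc]
    exact le_rfl
  exact le_antisymm hle (subgroupOf_eq_top.1 (frattini_nongenerating h1))

/-- Elements `y ∈ P` with `[y, P] ≤ Z₀`. -/
def ySub {p : ℕ} {P Z₀ : Subgroup G} (hc : CentralSub p P Z₀) : Subgroup P where
  carrier := {y | ∀ x : P, (⁅(y : G), (x : G)⁆) ∈ Z₀}
  one_mem' := fun x => by simp [Z₀.one_mem]
  mul_mem' := fun {a b} ha hb x => by
    have h1 : ⁅(a : G) * b, (x : G)⁆ = (a : G) * ⁅(b : G), (x : G)⁆ * (a : G)⁻¹ * ⁅(a : G), (x : G)⁆ := by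
      simp only [commutatorElement_def]; group
    rw [Subgroup.coe_mul, h1, ← hc.comm _ (hb x) _ a.2, mul_inv_cancel_right]
    exact mul_mem (hb x) (ha x)
  inv_mem' := fun {a} ha x => by
    have h1 : ⁅((a⁻¹ : P) : G), (x : G)⁆ = (a : G)⁻¹ * (⁅(a : G), (x : G)⁆)⁻¹ * a := by
      simp only [commutatorElement_def, Subgroup.coe_inv]; group
    rw [h1, mul_assoc, hc.comm _ (inv_mem (ha x)) _ a.2, inv_mul_cancel_left]
    exact inv_mem (ha x)

theorem mem_ySub {p : ℕ} {P Z₀ : Subgroup G} {hc : CentralSub p P Z₀} {y : P} :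
    y ∈ ySub hc ↔ ∀ x : P, (⁅(y : G), (x : G)⁆) ∈ Z₀ := Iff.rfl

variable {p : ℕ} {P Z₀ : Subgroup G} [IsMulCommutative Z₀]

/-- `y ↦ [y, ·]`. -/
def dHom (hc : CentralSub p P Z₀) : ySub hc →* (P → Z₀) where
  toFun y x := ⟨⁅((y : P) : G), (x : G)⁆, y.2 x⟩
  map_one' := funext fun x => Subtype.ext (by simp)
  map_mul' a b := funext fun x => Subtype.ext (by
    show ⁅((a : P) : G) * (b : P), (x : G)⁆ = ⁅((a : P) : G), (x : G)⁆ * ⁅((b : P) : G), (x : G)⁆
    have h1 : ⁅((a : P) : G) * (b : P), (x : G)⁆ =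
        ((a : P) : G) * ⁅((b : P) : G), (x : G)⁆ * ((a : P) : G)⁻¹ * ⁅((a : P) : G), (x : G)⁆ := by
      simp only [commutatorElement_def]; group
    rw [h1, ← hc.comm _ (b.2 x) _ (a : P).2, mul_inv_cancel_right]
    exact congrArg Subtype.val (mul_comm (⟨_, b.2 x⟩ : Z₀) ⟨_, a.2 x⟩))

theorem coe_dHom (hc : CentralSub p P Z₀) (y : ySub hc) (x : P) :
    (dHom hc y x : G) = ⁅((y : P) : G), (x : G)⁆ := rfl

/-- `[y, ·]` as a homomorphism. -/
def dChar (hc : CentralSub p P Z₀) (y : ySub hc) : P →* Z₀ :=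
  MonoidHom.mk' (dHom hc y) fun a b => Subtype.ext (by
    show ⁅((y : P) : G), (a : G) * b⁆ = ⁅((y : P) : G), (a : G)⁆ * ⁅((y : P) : G), (b : G)⁆
    have h1 : ⁅((y : P) : G), (a : G) * b⁆ =
        ⁅((y : P) : G), (a : G)⁆ * ((a : G) * ⁅((y : P) : G), (b : G)⁆ * (a : G)⁻¹) := by
      simp only [commutatorElement_def]; group
    rw [h1, ← hc.comm _ (y.2 b) _ a.2, mul_inv_cancel_right])

theorem dHom_apply_eq_one (hc : CentralSub p P Z₀) (y : ySub hc) {x : P} (hx : x ∈ wKer p P Z₀) :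
    dHom hc y x = 1 :=
  wKer_le_ker hc (dChar hc y) (fun _ hz => Subtype.ext
    (commutatorElement_eq_one_iff_mul_comm.2 (hc.comm _ hz _ (y : P).2).symm)) hx

theorem commute_of_mem_ySub (hc : CentralSub p P Z₀) {y x : P} (hy : y ∈ ySub hc)
    (hx : x ∈ wKer p P Z₀) : (y : G) * x = x * y :=
  commutatorElement_eq_one_iff_mul_comm.1 (congrArg Subtype.val (dHom_apply_eq_one hc ⟨y, hy⟩ hx))

theorem dHom_pow_eq_one (hc : CentralSub p P Z₀) (y : ySub hc) : dHom hc y ^ p = 1 :=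
  funext fun x => Subtype.ext (hc.pow _ (dHom hc y x).2)

/-- Every `p`-element of `N` normalising `P`, centralising `Z₀` and trivial on `P / Z₀` lies in `P`. -/
def InnerHyp (p : ℕ) (N P Z₀ : Subgroup G) : Prop :=
  ∀ c ∈ N, c ∈ normalizer (P : Set G) → c ∈ centralizer (Z₀ : Set G) →
    (∀ x ∈ P, c * x * c⁻¹ * x⁻¹ ∈ Z₀) → (∃ k : ℕ, c ^ p ^ k = 1) → c ∈ P

theorem innerHyp_of_maximal [Finite G] [Fact p.Prime] {N P Z₀ : Subgroup G} (hP : IsPGroup p P)
    (hPN : P ≤ N) (hPZ : P ≤ centralizer (Z₀ : Set G))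
    (hmax : ∀ Q : Subgroup G, IsPGroup p Q → P ≤ Q → Q ≤ N ⊓ centralizer (Z₀ : Set G) → Q = P) :
    InnerHyp p N P Z₀ := by
  intro c hcN hcP hcZ _ hck
  obtain ⟨k, hk⟩ := hck
  have hcp : IsPGroup p (zpowers c) := by
    obtain ⟨j, -, hj⟩ := (Nat.dvd_prime_pow (Fact.out : p.Prime)).1 (orderOf_dvd_of_pow_eq_one hk)
    exact IsPGroup.of_card (n := j) (by rw [Nat.card_zpowers, hj])
  have hsup : IsPGroup p (P ⊔ zpowers c : Subgroup G) :=
    hP.to_sup_of_normal_left' hcp (zpowers_le.2 hcP)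
  have := hmax _ hsup le_sup_left (sup_le (le_inf hPN hPZ) (zpowers_le.2 ⟨hcN, hcZ⟩))
  exact this.le (mem_sup_right (mem_zpowers c))

section Conj

variable [Finite G] [Fact p.Prime]

theorem exists_mem_act (h : IsoExt p G) {N : Subgroup G} (hN : N.Characteristic) (hP : IsPGroup p P)
    (hc : CentralSub p P Z₀) {g : G} (hgN : g ∈ N) (hgP : g ∈ normalizer (P : Set G))
    (hgZ : g ∈ normalizer (Z₀ : Set G)) (hinner : InnerHyp p N P Z₀)
    (f : P →* Z₀) (hf : ∀ x : P, (x : G) ∈ Z₀ → f x = 1) :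
    ∃ y : ySub hc, ∀ x : P, dHom hc y x =
      f x * (Z₀.normalizerMonoidHom ⟨g, hgZ⟩ (f ((P.normalizerMonoidHom ⟨g, hgP⟩)⁻¹ x)))⁻¹ := by
  have hfz : ∀ x : P, f ⟨(f x : G), hc.le (f x).2⟩ = 1 := fun x => hf _ (f x).2
  let α : P ≃* P :=
    { toFun := fun x => x * ⟨(f x : G), hc.le (f x).2⟩
      invFun := fun x => x * ⟨(f x : G), hc.le (f x).2⟩⁻¹
      left_inv := fun x => Subtype.ext (by
        show ((x : G) * f x) * ((f (x * ⟨(f x : G), hc.le (f x).2⟩) : G))⁻¹ = x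
        rw [map_mul, hfz, mul_one, mul_inv_cancel_right])
      right_inv := fun x => Subtype.ext (by
        show ((x : G) * (f x : G)⁻¹) * (f (x * ⟨(f x : G), hc.le (f x).2⟩⁻¹) : G) = x
        rw [map_mul, map_inv, hfz, inv_one, mul_one, inv_mul_cancel_right])
      map_mul' := fun a b => Subtype.ext (by
        show (a : G) * b * (f (a * b) : G) = (a : G) * f a * ((b : G) * f b)
        rw [map_mul, Subgroup.coe_mul]
        have := hc.comm _ (f a).2 _ b.2
        rw [mul_assoc (a : G) (f a : G), ← mul_assoc (f a : G) (b : G), this]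
        group) }
  obtain ⟨φ, hφ⟩ := h.exists_ext P hP α
  have hα : ∀ x : P, φ (x : G) = (x : G) * f x := hφ
  have hz : ∀ z ∈ Z₀, φ z = z := fun z hz' => by
    rw [hα ⟨z, hc.le hz'⟩, hf _ hz']
    exact mul_one z
  set c := φ g * g⁻¹ with hcdef
  have hcN : c ∈ N := mul_mem (apply_mem_of_characteristic hN φ hgN) (inv_mem hgN)
  set d : P → Z₀ := fun x =>
    f x * (Z₀.normalizerMonoidHom ⟨g, hgZ⟩ (f ((P.normalizerMonoidHom ⟨g, hgP⟩)⁻¹ x)))⁻¹ with hd
  have hconj : ∀ x : P, c * x * c⁻¹ = (x : G) * d x := by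
    intro x
    set x' := (P.normalizerMonoidHom ⟨g, hgP⟩)⁻¹ x with hx'
    have hxx' : (x : G) = g * x' * g⁻¹ := by
      have := congrArg Subtype.val (MulAut.apply_inv_self P (P.normalizerMonoidHom ⟨g, hgP⟩) x)
      exact this.symm
    have hy : φ ((x' : G) * (f x' : G)⁻¹) = x' := by
      rw [map_mul, map_inv, hα, hz _ (f x').2, mul_inv_cancel_right]
    have hτ : ((Z₀.normalizerMonoidHom ⟨g, hgZ⟩ (f x') : Z₀) : G) = g * f x' * g⁻¹ := rfl
    have hτ' : φ (g * f x' * g⁻¹) = g * f x' * g⁻¹ := hτ ▸ hz _ (Subtype.coe_prop _)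
    calc c * x * c⁻¹ = φ g * (g⁻¹ * x * g) * (φ g)⁻¹ := by rw [hcdef]; group
      _ = φ g * x' * (φ g)⁻¹ := by rw [hxx']; group
      _ = φ g * φ ((x' : G) * (f x' : G)⁻¹) * (φ g)⁻¹ := by rw [hy]
      _ = φ ((x : G) * (g * f x' * g⁻¹)⁻¹) := by
        rw [← map_inv, ← map_mul, ← map_mul, hxx']; congr 1; group
      _ = (x : G) * d x := by
        rw [map_mul, map_inv, hα, hτ', mul_assoc, ← hτ]
        rfl
  have hdz : ∀ x : P, (x : G) ∈ Z₀ → d x = 1 := by
    intro x hx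
    have hxx : (((P.normalizerMonoidHom ⟨g, hgP⟩)⁻¹ x : P) : G) ∈ Z₀ := by
      set x' := (P.normalizerMonoidHom ⟨g, hgP⟩)⁻¹ x
      have := congrArg Subtype.val (MulAut.apply_inv_self P (P.normalizerMonoidHom ⟨g, hgP⟩) x)
      rw [(mem_normalizer_iff.1 hgZ) (x' : G)]
      have h' : g * x' * g⁻¹ = (x : G) := this
      rw [h']
      exact hx
    show f x * (Z₀.normalizerMonoidHom ⟨g, hgZ⟩ (f _))⁻¹ = 1
    rw [hf x hx, hf _ hxx, map_one, inv_one, mul_one]
  have hcZ : c ∈ centralizer (Z₀ : Set G) := by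
    rw [mem_centralizer_iff]
    intro z hz'
    have := hconj ⟨z, hc.le hz'⟩
    rw [hdz _ hz'] at this
    simp only [OneMemClass.coe_one, mul_one] at this
    calc z * c = (c * z * c⁻¹) * c := by rw [this]
      _ = c * z := by group
  have hcP : c ∈ normalizer (P : Set G) := mem_normalizer_fintype fun n hn => by
    rw [hconj ⟨n, hn⟩]
    exact mul_mem hn (hc.le (d _).2)
  have hpow : ∀ (k : ℕ) (x : P), c ^ k * x * (c ^ k)⁻¹ = (x : G) * (d x : G) ^ k := by
    intro k x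
    induction k with
    | zero => simp
    | succ k ih =>
      calc c ^ (k + 1) * x * (c ^ (k + 1))⁻¹ = c * (c ^ k * x * (c ^ k)⁻¹) * c⁻¹ := by group
        _ = (c * x * c⁻¹) * (c * (d x : G) ^ k * c⁻¹) := by rw [ih]; group
        _ = (x : G) * (d x : G) ^ (k + 1) := by
          rw [hconj, ← mem_centralizer_iff.1 hcZ _ (pow_mem (d x).2 k), mul_inv_cancel_right,
            mul_assoc, ← pow_succ']
  obtain ⟨k, m, hm, hcard⟩ :=
    Nat.exists_eq_pow_mul_and_not_dvd (orderOf_pos c).ne' p (Fact.out : p.Prime).ne_one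
  obtain ⟨j, hj1, hjm⟩ := Nat.chineseRemainder ((Fact.out : p.Prime).coprime_iff_not_dvd.2 hm) 1 0
  have hmj : m ∣ j := Nat.modEq_zero_iff_dvd.1 hjm
  have hjmod : ∀ x ∈ P, c ^ j * x * (c ^ j)⁻¹ * x⁻¹ ∈ Z₀ := fun x hx => by
    rw [hpow j ⟨x, hx⟩, ← hc.comm _ (pow_mem (d _).2 j) _ hx, mul_inv_cancel_right]
    exact pow_mem (d _).2 j
  have hjP : c ^ j ∈ P := by
    refine hinner _ (pow_mem hcN j) (pow_mem hcP j) (pow_mem hcZ j) hjmod ⟨k, ?_⟩
    rw [← pow_mul]
    refine orderOf_dvd_iff_pow_eq_one.1 ?_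
    rw [hcard, mul_comm (p ^ k)]
    exact mul_dvd_mul hmj dvd_rfl
  have hdj : ∀ x : P, (d x : G) ^ j = d x := fun x => by
    conv_lhs => rw [← Nat.mod_add_div j p, pow_add, pow_mul, hc.pow _ (d x).2, one_pow, mul_one,
      hj1, Nat.one_mod_eq_one.2 (Fact.out : p.Prime).ne_one, pow_one]
  have hcomm : ∀ x : P, ⁅c ^ j, (x : G)⁆ = d x := fun x => by
    rw [commutatorElement_def, hpow, hdj, ← hc.comm _ (d x).2 _ x.2, mul_inv_cancel_right]
  refine ⟨⟨⟨c ^ j, hjP⟩, fun x => ?_⟩, fun x => Subtype.ext (hcomm x)⟩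
  rw [hcomm]
  exact (d x).2

variable {g : G}

/-- The automorphism of `W` induced by `g`. -/
def wAut (p : ℕ) (P Z₀ : Subgroup G) (g : G) (hgP : g ∈ normalizer (P : Set G))
    (hgZ : g ∈ normalizer (Z₀ : Set G)) : MulAut (WQuot p P Z₀) :=
  QuotientGroup.congr _ _ (P.normalizerMonoidHom ⟨g, hgP⟩) (by
    rw [wKer, Subgroup.map_sup, Subgroup.map_sup, MonoidHom.map_closure]
    congr 1
    · congr 1
      · ext x
        simp only [mem_map, mem_subgroupOf]
        constructor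
        · rintro ⟨y, hy, rfl⟩
          exact (mem_normalizer_iff.1 hgZ _).1 hy
        · intro hx
          refine ⟨(P.normalizerMonoidHom ⟨g, hgP⟩)⁻¹ x, ?_, MulAut.apply_inv_self _ _ _⟩
          rw [(mem_normalizer_iff.1 hgZ) _]
          have h' : g * (((P.normalizerMonoidHom ⟨g, hgP⟩)⁻¹ x : P) : G) * g⁻¹ = (x : G) :=
            congrArg Subtype.val (MulAut.apply_inv_self P (P.normalizerMonoidHom ⟨g, hgP⟩) x)
          rw [h']
          exact hx
      · exact characteristic_iff_map_eq.1 inferInstance _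
    · congr 1
      rw [← Set.range_comp]
      ext y
      simp only [Set.mem_range, Function.comp_apply, map_pow]
      constructor
      · rintro ⟨x, rfl⟩; exact ⟨_, rfl⟩
      · rintro ⟨x, rfl⟩
        refine ⟨(P.normalizerMonoidHom ⟨g, hgP⟩)⁻¹ x, ?_⟩
        exact congrArg (· ^ p) (MulAut.apply_inv_self _ _ _))

theorem wAut_mk (hgP : g ∈ normalizer (P : Set G)) (hgZ : g ∈ normalizer (Z₀ : Set G)) (x : P) :
    wAut p P Z₀ g hgP hgZ (x : WQuot p P Z₀) = ((P.normalizerMonoidHom ⟨g, hgP⟩ x : P) : WQuot p P Z₀) :=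
  rfl

/-- `F ↦ F / (τ ∘ F ∘ σ⁻¹)`. -/
def difHom {W Z : Type*} [Group W] [CommGroup Z] (σ : MulAut W) (τ : MulAut Z) : (W →* Z) →* (W →* Z) :=
  MonoidHom.mk' (fun F => F / (τ.toMonoidHom.comp (F.comp σ⁻¹.toMonoidHom))) fun F F' => by
    ext w
    show F w * F' w / τ (F (σ⁻¹ w) * F' (σ⁻¹ w)) = F w / τ (F (σ⁻¹ w)) * (F' w / τ (F' (σ⁻¹ w)))
    rw [map_mul, mul_div_mul_comm]

theorem difHom_apply {W Z : Type*} [Group W] [CommGroup Z] (σ : MulAut W) (τ : MulAut Z) (F : W →* Z)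
    (w : W) : difHom σ τ F w = F w / τ (F (σ⁻¹ w)) := rfl

theorem difHom_ker {W Z : Type*} [CommGroup W] [CommGroup Z] (σ : MulAut W) (τ : MulAut Z) :
    (difHom σ τ).ker = equivariant σ τ := by
  ext F
  rw [MonoidHom.mem_ker, mem_equivariant, MonoidHom.ext_iff]
  simp only [difHom_apply, MonoidHom.one_apply, div_eq_one]
  constructor
  · intro hF w
    rw [hF (σ w), MulAut.inv_apply_self]
  · intro hF w
    rw [← hF, MulAut.apply_inv_self]

variable (h : IsoExt p G) {N : Subgroup G} (hN : N.Characteristic) (hP : IsPGroup p P)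
  (hc : CentralSub p P Z₀) (hgN : g ∈ N) (hgP : g ∈ normalizer (P : Set G))
  (hgZ : g ∈ normalizer (Z₀ : Set G)) (hinner : InnerHyp p N P Z₀)

include h hN hP hgN hinner in
theorem exists_dHom_eq_difHom (F : WQuot p P Z₀ →* Z₀) :
    ∃ y : ySub hc, ∀ x : P, dHom hc y x =
      difHom (wAut p P Z₀ g hgP hgZ) (Z₀.normalizerMonoidHom ⟨g, hgZ⟩) F (x : WQuot p P Z₀) := by
  obtain ⟨y, hy⟩ := exists_mem_act h hN hP hc hgN hgP hgZ hinner (F.comp (QuotientGroup.mk' _))
    fun x hx => by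
      show F (x : WQuot p P Z₀) = 1
      exact (congrArg F ((QuotientGroup.eq_one_iff x).2 (mem_sup_left (mem_sup_left hx)))).trans (map_one F)
  refine ⟨y, fun x => ?_⟩
  rw [hy x, difHom_apply, div_eq_mul_inv]
  rfl

include h hN hP hgN hinner in
theorem card_range_difHom_le :
    Nat.card (difHom (wAut p P Z₀ g hgP hgZ) (Z₀.normalizerMonoidHom ⟨g, hgZ⟩)).range
      ≤ Nat.card (dHom hc).range := by
  let ι : (difHom (wAut p P Z₀ g hgP hgZ) (Z₀.normalizerMonoidHom ⟨g, hgZ⟩)).range → (dHom hc).range :=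
    fun F => ⟨fun x => F.1 (x : WQuot p P Z₀), by
      obtain ⟨_, F, rfl⟩ := F
      obtain ⟨y, hy⟩ := exists_dHom_eq_difHom h hN hP hc hgN hgP hgZ hinner F
      exact ⟨y, funext hy⟩⟩
  refine Nat.card_le_card_of_injective ι fun F F' hFF => Subtype.ext (MonoidHom.ext fun w => ?_)
  obtain ⟨x, rfl⟩ := QuotientGroup.mk_surjective w
  exact congrFun (congrArg Subtype.val hFF) x

include h hN hP hgN hinner in
/-- The counting inequality. -/
theorem card_wQuot_pow_le {n : ℕ} (hn : Nat.card Z₀ = p ^ n)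
    (htrans : ∀ a b : Z₀, a ≠ 1 → b ≠ 1 → ∃ k : ℕ, ((Z₀.normalizerMonoidHom ⟨g, hgZ⟩) ^ k) a = b)
    (h2 : 2 < Nat.card Z₀) :
    Nat.card (WQuot p P Z₀) ^ n * Nat.card (fixSub (wAut p P Z₀ g hgP hgZ))
      ≤ Nat.card (WQuot p P Z₀) * Nat.card (dHom hc).range := by
  set σ := wAut p P Z₀ g hgP hgZ with hσ
  set τ := Z₀.normalizerMonoidHom ⟨g, hgZ⟩ with hτ
  have hpow : ∀ z : Z₀, z ^ p = 1 := fun z => Subtype.ext (hc.pow _ z.2)
  have hA := card_hom_elementary (W := WQuot p P Z₀) (wQuot_pow p P Z₀) hpow hn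
  have hidx := (difHom σ τ).ker.card_mul_index
  rw [Subgroup.index_ker, difHom_ker, hA] at hidx
  rw [← hidx]
  calc Nat.card (equivariant σ τ) * Nat.card (difHom σ τ).range * Nat.card (fixSub σ)
      = Nat.card (equivariant σ τ) * Nat.card (fixSub σ) * Nat.card (difHom σ τ).range := by ring
    _ ≤ Nat.card (WQuot p P Z₀) * Nat.card (dHom hc).range :=
      Nat.mul_le_mul (card_equivariant_mul_fix_le hpow σ τ htrans h2)
        (card_range_difHom_le h hN hP hc hgN hgP hgZ hinner)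

end Conj

end Cfsg.Agent.Homogeneous
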