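import Cfsg.Agent.Lib.Homogeneous.SylowCore
import Cfsg.Agent.Lib.Homogeneous.Linear
import Cfsg.Agent.Lib.Homogeneous.FixInvolutions

/-!
# Large rank: `p` does not divide the automizer of an elementary abelian subgroup of maximal order

Otherwise the automizer contains all transvections fixing a hyperplane `H`; the fixed points, in a Sylow
subgroup of their preimage, of an automorphism inverting `E` give an elementary abelian group which
together with `H` is too large.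
-/

set_option autoImplicit false
set_option linter.style.haveILetI false

namespace Cfsg.Agent.Homogeneous

open Subgroup
open scoped IsMulCommutative

universe u

/-- The automorphisms centralising `H` and `E / H`. -/
def transvecSub {E : Type*} [CommGroup E] (H : Subgroup E) : Subgroup (MulAut E) where
  carrier := {σ | (∀ h ∈ H, σ h = h) ∧ ∀ x, x⁻¹ * σ x ∈ H}
  one_mem' := ⟨fun _ _ => rfl, fun x => by simp⟩
  mul_mem' := fun {a b} ha hb => ⟨fun h hh => by rw [MulAut.mul_apply, hb.1 h hh, ha.1 h hh], fun x => by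
    have := H.mul_mem (hb.2 x) (ha.2 (b x))
    rwa [mul_assoc, mul_inv_cancel_left] at this⟩
  inv_mem' := fun {a} ha => ⟨fun h hh => by
    conv_lhs => rw [← ha.1 h hh]
    exact a.inv_apply_self _ h, fun x => by
    have := H.inv_mem (ha.2 (a⁻¹ x))
    rwa [MulAut.apply_inv_self, mul_inv, inv_inv, mul_comm] at this⟩

theorem transvecSub_apply {E : Type*} [CommGroup E] {H : Subgroup E} {σ : MulAut E} (hσ : σ ∈ transvecSub H)
    (k : ℕ) (x : E) : (σ ^ k) x = x * (x⁻¹ * σ x) ^ k :=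
  pow_apply_eq_mul σ (by rw [mul_inv_cancel_left]) (hσ.1 _ (hσ.2 x)) k

theorem transvecSub_commute {E : Type*} [CommGroup E] {H : Subgroup E} {σ τ : MulAut E}
    (hσ : σ ∈ transvecSub H) (hτ : τ ∈ transvecSub H) : σ * τ = τ * σ := by
  refine MulEquiv.ext fun x => ?_
  have h1 : σ (τ x) = σ x * (x⁻¹ * τ x) := by
    conv_lhs => rw [show τ x = x * (x⁻¹ * τ x) by rw [mul_inv_cancel_left]]
    rw [map_mul, hσ.1 _ (hτ.2 x)]
  have h2 : τ (σ x) = τ x * (x⁻¹ * σ x) := by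
    conv_lhs => rw [show σ x = x * (x⁻¹ * σ x) by rw [mul_inv_cancel_left]]
    rw [map_mul, hτ.1 _ (hσ.2 x)]
  rw [MulAut.mul_apply, MulAut.mul_apply, h1, h2]
  rw [← mul_assoc, ← mul_assoc, mul_comm (σ x) x⁻¹, mul_comm (τ x) x⁻¹, mul_assoc, mul_assoc, mul_comm (σ x)]

/-- Every value is realised. -/
theorem exists_transvec {E : Type*} [CommGroup E] [Finite E] {p : ℕ} [hp : Fact p.Prime]
    (hE : ∀ x : E, x ^ p = 1) {H : Subgroup E} (hH : H.index = p) {e : E} (he : e ∉ H) {a : E} (ha : a ∈ H) :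
    ∃ σ ∈ transvecSub H, e⁻¹ * σ e = a := by
  have hcard : Nat.card (E ⧸ H) = p := by rw [← Subgroup.index_eq_card, hH]
  have hne : (e : E ⧸ H) ≠ 1 := fun h => he ((QuotientGroup.eq_one_iff e).1 h)
  have hoe : orderOf (e : E ⧸ H) = p := orderOf_eq_prime (by rw [← QuotientGroup.mk_pow, hE, QuotientGroup.mk_one]) hne
  have hgen : ∀ w : E ⧸ H, w ∈ zpowers (e : E ⧸ H) := fun w => by
    have : zpowers (e : E ⧸ H) = ⊤ := eq_top_of_card_eq _ (by rw [Nat.card_zpowers, hoe, hcard])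
    exact this ▸ mem_top w
  let f₀ : E ⧸ H →* E := monoidHomOfForallMemZpowers hgen (g' := a)
    (orderOf_dvd_of_pow_eq_one (by rw [hoe, hE]))
  let f : E →* E := f₀.comp (QuotientGroup.mk' H)
  have hfe : f e = a := monoidHomOfForallMemZpowers_apply_gen hgen
    (orderOf_dvd_of_pow_eq_one (by rw [hoe, hE]))
  have hfH : ∀ x, f x ∈ H := fun x => by
    obtain ⟨i, hi⟩ := mem_zpowers_iff.1 (hgen (x : E ⧸ H))
    show f₀ (x : E ⧸ H) ∈ H
    rw [← hi, map_zpow, show f₀ (e : E ⧸ H) = a from hfe]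
    exact zpow_mem ha i
  have hfk : ∀ x ∈ H, f x = 1 := fun x hx => by
    show f₀ (x : E ⧸ H) = 1
    rw [(QuotientGroup.eq_one_iff x).2 hx, map_one]
  let σ : MulAut E :=
    { toFun := fun x => x * f x
      invFun := fun x => x * (f x)⁻¹
      left_inv := fun x => by
        show x * f x * (f (x * f x))⁻¹ = x
        rw [map_mul, hfk _ (hfH x), mul_one, mul_inv_cancel_right]
      right_inv := fun x => by
        show x * (f x)⁻¹ * f (x * (f x)⁻¹) = x
        rw [map_mul, map_inv, hfk _ (hfH x), inv_one, mul_one, inv_mul_cancel_right]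
      map_mul' := fun x y => by
        show x * y * f (x * y) = x * f x * (y * f y)
        rw [map_mul, mul_mul_mul_comm] }
  refine ⟨σ, ⟨fun x hx => ?_, fun x => ?_⟩, ?_⟩
  · show x * f x = x
    rw [hfk x hx, mul_one]
  · show x⁻¹ * (x * f x) ∈ H
    rw [inv_mul_cancel_left]
    exact hfH x
  · show e⁻¹ * (e * f e) = a
    rw [inv_mul_cancel_left, hfe]

variable {G : Type u} [Group G] [Finite G] {p : ℕ} [hp : Fact p.Prime]

theorem not_dvd_autN_of_three_le (hp2 : p ≠ 2) (h : IsoExt p G) {N E : Subgroup G} (hN : N.Characteristic)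
    (hE : MaxElemIn p N E)
    (hmax : ∀ A : Subgroup G, A ≤ N → IsMulCommutative A → (∀ a ∈ A, a ^ p = 1) → Nat.card A ≤ Nat.card E)
    {n : ℕ} (hn : Nat.card E = p ^ n) (h3 : 3 ≤ n) : ¬ p ∣ Nat.card (autN N E) := by
  intro hdiv
  haveI := hN
  haveI := hE.comm
  have hEpow : ∀ x : E, x ^ p = 1 := fun x => Subtype.ext (by simpa using hE.pow x x.2)
  obtain ⟨Φ, -⟩ := exists_mulEquiv_GL (p := p) (E := E) hEpow hn
  haveI := autN_normal h hN (U := E) hE.isPGroup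
  haveI : ((autN N E).map Φ.toMonoidHom).Normal := Subgroup.Normal.map inferInstance _ Φ.surjective
  have hall : ∀ σ : MulAut E, σ ^ p = 1 → σ ∈ autN N E := fun σ hσ => by
    have h1 := mem_of_pow_eq_one h3 ((autN N E).map Φ.toMonoidHom)
      (by rw [card_map_of_injective Φ.injective]; exact hdiv) (g := Φ σ) (by rw [← map_pow, hσ, map_one])
    obtain ⟨τ, hτ, hτσ⟩ := h1
    rwa [← Φ.injective hτσ]
  -- the hyperplane
  obtain ⟨H, hHcard⟩ := Sylow.exists_subgroup_card_pow_prime p (G := E) (n := n - 1)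
    (by rw [hn]; exact pow_dvd_pow p (Nat.sub_le n 1))
  have hHidx : H.index = p := by
    have h1 := H.card_mul_index
    rw [hHcard, hn] at h1
    refine Nat.eq_of_mul_eq_mul_left (pow_pos hp.out.pos (n - 1)) ?_
    rw [h1, ← pow_succ]
    congr 1
    omega
  obtain ⟨e, he⟩ : ∃ e : E, e ∉ H := by
    by_contra hc
    push Not at hc
    rw [(eq_top_iff.2 fun x _ => hc x : H = ⊤), index_top] at hHidx
    exact hp.out.one_lt.ne hHidx
  set U := transvecSub H with hU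
  have hUpow : ∀ σ ∈ U, σ ^ p = 1 := fun σ hσ => MulEquiv.ext fun x => by
    rw [transvecSub_apply hσ, hEpow, mul_one]
    rfl
  have hUA : U ≤ autN N E := fun σ hσ => hall σ (hUpow σ hσ)
  -- the preimage
  set ν := E.normalizerMonoidHom with hν
  set T := (U.comap ν).map (normalizer (E : Set G)).subtype ⊓ N with hT
  have hTmem : ∀ {t : G}, t ∈ T ↔ t ∈ N ∧ ∃ ht : t ∈ normalizer (E : Set G), ν ⟨t, ht⟩ ∈ U := by
    intro t
    refine ⟨?_, fun ⟨h1, h2, h3⟩ => ⟨⟨⟨t, h2⟩, h3, rfl⟩, h1⟩⟩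
    rintro ⟨⟨y, hy, rfl⟩, ht⟩
    exact ⟨ht, y.2, hy⟩
  have hTn : ∀ {t : G}, t ∈ T → t ∈ normalizer (E : Set G) := fun ht => (hTmem.1 ht).2.1
  have hET : E ≤ T := fun x hx => hTmem.2 ⟨hE.le hx, le_normalizer hx, by
    have : ν ⟨x, le_normalizer hx⟩ = 1 := MulEquiv.ext fun u => Subtype.ext (by
      show x * u * x⁻¹ = u
      rw [show x * (u : G) = u * x from congrArg Subtype.val (mul_comm (⟨x, hx⟩ : E) u), mul_inv_cancel_right])
    rw [this]
    exact one_mem U⟩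
  obtain ⟨S, hS, hES⟩ := exists_isSylowIn_ge T E hET hE.isPGroup
  -- every class of `T` mod `C(E)` meets `S`
  have hcover : ∀ {t : G} (ht : t ∈ T), ∃ s ∈ S, ∀ u ∈ E, s * u * s⁻¹ = t * u * t⁻¹ := by
    intro t ht
    obtain ⟨htN, htn, htU⟩ := hTmem.1 ht
    obtain ⟨j, ⟨a, ha⟩, hj⟩ := exists_prime_power hp.out t
    have hνj : ν ⟨t ^ j, pow_mem htn j⟩ = ν ⟨t, htn⟩ := by
      rw [show (⟨t ^ j, pow_mem htn j⟩ : normalizer (E : Set G)) = ⟨t, htn⟩ ^ j from rfl, map_pow]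
      exact hj _ (orderOf_normalizerMonoidHom_dvd htn) ⟨1, by
        rw [pow_one]; exact orderOf_dvd_of_pow_eq_one (hUpow _ htU)⟩
    have htjT : t ^ j ∈ T := pow_mem ht j
    have hp' : IsPGroup p (zpowers (t ^ j)) := by
      obtain ⟨b, -, hb⟩ := (Nat.dvd_prime_pow hp.out).1 ha
      exact IsPGroup.of_card (n := b) (by rw [Nat.card_zpowers, hb])
    obtain ⟨S', hS', hle⟩ := exists_isSylowIn_ge T (zpowers (t ^ j)) (zpowers_le.2 htjT) hp'
    obtain ⟨S₁, hS₁⟩ := hS'.exists_sylow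
    obtain ⟨S₂, hS₂⟩ := hS.exists_sylow
    obtain ⟨v, hv⟩ := MulAction.exists_smul_eq T S₁ S₂
    obtain ⟨w, hw, hwt⟩ : ∃ w ∈ (S₁ : Subgroup T), (w : G) = t ^ j := by
      have h1 : t ^ j ∈ (S₁ : Subgroup T).map T.subtype := hS₁.symm ▸ hle (mem_zpowers _)
      obtain ⟨w, hw, hw'⟩ := h1
      exact ⟨w, hw, hw'⟩
    have hsS : (v : G) * t ^ j * (v : G)⁻¹ ∈ S := by
      rw [← hS₂, ← hv]
      refine ⟨v * w * v⁻¹, ?_, by simp [hwt]⟩
      rw [Sylow.smul_def]
      exact ⟨w, hw, rfl⟩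
    refine ⟨_, hsS, fun u hu => ?_⟩
    obtain ⟨hvN, hvn, hvU⟩ := hTmem.1 v.2
    have hprod : ν ⟨(v : G) * t ^ j * (v : G)⁻¹, mul_mem (mul_mem hvn (pow_mem htn j)) (inv_mem hvn)⟩
        = ν ⟨t, htn⟩ := by
      rw [show (⟨(v : G) * t ^ j * (v : G)⁻¹, _⟩ : normalizer (E : Set G)) =
        ⟨v, hvn⟩ * ⟨t ^ j, pow_mem htn j⟩ * ⟨v, hvn⟩⁻¹ from rfl, map_mul, map_mul, map_inv, hνj,
        transvecSub_commute hvU htU, mul_inv_cancel_right]
    exact congrArg (fun σ : MulAut E => ((σ ⟨u, hu⟩ : E) : G)) hprod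
  -- an automorphism inverting `E` and normalising `S`
  obtain ⟨φ, hφ⟩ := h.exists_ext E hE.isPGroup (MulEquiv.inv E)
  have hinv : ∀ {ψ : G ≃* G}, (∀ u ∈ E, ψ u = u⁻¹) → ∀ {g : G}, g ∈ normalizer (E : Set G) → ∀ u ∈ E,
      ψ g * u * (ψ g)⁻¹ = g * u * g⁻¹ := by
    intro ψ hψ g hg u hu
    have h1 : ψ (u⁻¹) = u := by rw [map_inv, hψ u hu, inv_inv]
    conv_lhs => rw [← h1, ← map_inv, ← map_mul, ← map_mul]
    rw [hψ _ ((mem_normalizer_iff.1 hg _).1 (inv_mem hu))]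
    group
  have hφE : ∀ u ∈ E, φ u = u⁻¹ := fun u hu => hφ ⟨u, hu⟩
  have hTinv : ∀ {ψ : G ≃* G}, (∀ u ∈ E, ψ u = u⁻¹) → T.map ψ.toMonoidHom = T := by
    intro ψ hψ
    refine Subgroup.eq_of_le_of_card_ge ?_ (le_of_eq (card_map_of_injective ψ.injective).symm)
    rintro _ ⟨t, ht, rfl⟩
    obtain ⟨htN, htn, htU⟩ := hTmem.1 ht
    have hn' : ψ t ∈ normalizer (E : Set G) := mem_normalizer_fintype fun u hu => by
      rw [SetLike.mem_coe, hinv hψ htn u hu]
      exact (mem_normalizer_iff.1 htn u).1 hu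
    refine hTmem.2 ⟨apply_mem_of_characteristic hN ψ htN, hn', ?_⟩
    have : ν ⟨ψ t, hn'⟩ = ν ⟨t, htn⟩ := MulEquiv.ext fun u => Subtype.ext (hinv hψ htn u u.2)
    exact this.symm ▸ htU
  have hS₁ : IsSylowIn p T (S.map φ.toMonoidHom) := by
    refine ⟨fun x hx => hTinv hφE ▸ map_mono hS.le hx, hS.isP.map _, fun Q hQ hle hQT => ?_⟩
    have h1 : Q.comap φ.toMonoidHom = S := hS.max _
      (hQ.comap_of_injective _ φ.injective) (Subgroup.map_le_iff_le_comap.1 hle) fun x hx => by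
        obtain ⟨y, hy, hyx⟩ := (hTinv hφE).ge (hQT hx)
        exact φ.injective hyx ▸ hy
    rw [← h1, map_comap_eq_self_of_surjective φ.surjective]
  obtain ⟨A₁, hA₁⟩ := hS₁.exists_sylow
  obtain ⟨A₂, hA₂⟩ := hS.exists_sylow
  obtain ⟨t, ht⟩ := MulAction.exists_smul_eq T A₁ A₂
  obtain ⟨s, hsS, hs⟩ := hcover t.2
  set w := s⁻¹ * (t : G) with hw
  set ψ : MulAut G := φ.trans (MulAut.conj w) with hψdef
  have hψapp : ∀ x, ψ x = w * φ x * w⁻¹ := fun x => rfl
  have hwC : ∀ u ∈ E, w * u * w⁻¹ = u := fun u hu => by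
    calc w * u * w⁻¹ = s⁻¹ * ((t : G) * u * (t : G)⁻¹) * s := by rw [hw]; group
      _ = u := by rw [← hs u hu]; group
  have hψE : ∀ u ∈ E, ψ u = u⁻¹ := fun u hu => by rw [hψapp, hφE u hu, hwC _ (inv_mem hu)]
  have hψS : ∀ x ∈ S, ψ x ∈ S := fun x hx => by
    have h1 : (t : G) * φ x * (t : G)⁻¹ ∈ S := by
      have h2 : φ x ∈ (A₁ : Subgroup T).map T.subtype := hA₁.symm ▸ ⟨x, hx, rfl⟩
      obtain ⟨y, hy, hyx⟩ := h2
      rw [← hA₂, ← ht]
      refine ⟨t * y * t⁻¹, ?_, by simp [← hyx]⟩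
      rw [Sylow.smul_def]
      exact ⟨y, hy, rfl⟩
    rw [hψapp, hw, show s⁻¹ * (t : G) * φ x * (s⁻¹ * (t : G))⁻¹ = s⁻¹ * ((t : G) * φ x * (t : G)⁻¹) * s by group]
    exact mul_mem (mul_mem (inv_mem hsS) h1) hsS
  -- a power of 2-power order
  obtain ⟨j, ⟨b, hb⟩, hj⟩ := exists_prime_power (T := MulAut G) Nat.prime_two ψ
  set ι : MulAut E := MulEquiv.inv E with hι
  have hψk : ∀ (k : ℕ) (u : E), (ψ ^ k) (u : G) = ((ι ^ k) u : E) := by
    intro k u
    induction k with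
    | zero => rfl
    | succ k ih =>
      rw [pow_succ', MulAut.mul_apply, ih, pow_succ', MulAut.mul_apply, hψE _ (SetLike.coe_mem _)]
      rfl
  have hιj : ι ^ j = ι := hj ι (orderOf_dvd_of_pow_eq_one (MulEquiv.ext fun u => Subtype.ext (by
      rw [← hψk, pow_orderOf_eq_one]; rfl))) ⟨1, by
    rw [pow_one]
    exact orderOf_dvd_of_pow_eq_one (MulEquiv.ext fun u => inv_inv u)⟩
  set χ := ψ ^ j with hχ
  have hχE : ∀ u ∈ E, χ u = u⁻¹ := fun u hu => by
    rw [hχ, hψk j ⟨u, hu⟩, hιj]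
    rfl
  have hSkey : ∀ k : ℕ, ∀ x ∈ S, (ψ ^ k) x ∈ S := by
    intro k
    induction k with
    | zero => exact fun x hx => hx
    | succ k ih => intro x hx; rw [pow_succ', MulAut.mul_apply]; exact hψS _ (ih x hx)
  have hχS : S.map χ.toMonoidHom = S := by
    refine Subgroup.eq_of_le_of_card_ge ?_ (le_of_eq (card_map_of_injective χ.injective).symm)
    rintro _ ⟨x, hx, rfl⟩
    exact hSkey j x hx
  let σS : MulAut S := (χ.subgroupMap S).trans (MulEquiv.subgroupCongr hχS)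
  have hσSapp : ∀ x : S, (σS x : G) = χ x := fun x => rfl
  have hσSk : ∀ (k : ℕ) (x : S), ((σS ^ k) x : G) = (χ ^ k) x := by
    intro k x
    induction k with
    | zero => rfl
    | succ k ih => rw [pow_succ', MulAut.mul_apply, hσSapp, ih, pow_succ', MulAut.mul_apply]
  have hσSp : ¬ p ∣ orderOf σS := fun hd => by
    have h1 : orderOf σS ∣ 2 ^ b := (orderOf_dvd_of_pow_eq_one (MulEquiv.ext fun x => Subtype.ext (by
      rw [hσSk, pow_orderOf_eq_one]; rfl))).trans hb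
    exact hp2 ((Nat.prime_dvd_prime_iff_eq hp.out Nat.prime_two).1 (hp.out.dvd_of_dvd_pow (hd.trans h1)))
  -- its fixed points
  let R : Subgroup G :=
    { carrier := {x | x ∈ S ∧ χ x = x}
      one_mem' := ⟨one_mem S, map_one χ⟩
      mul_mem' := fun {a b} ha hb => ⟨mul_mem ha.1 hb.1, by rw [map_mul, ha.2, hb.2]⟩
      inv_mem' := fun {a} ha => ⟨inv_mem ha.1, by rw [map_inv, ha.2]⟩ }
  have hRS : R ≤ S := fun x hx => hx.1
  have hRN : R ≤ N := fun x hx => (hTmem.1 (hS.le hx.1)).1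
  have hRfree : ∀ x ∈ R, (∀ u ∈ E, x * u * x⁻¹ = u) → x = 1 := by
    intro x hx hxC
    by_contra hx1
    obtain ⟨k, hk⟩ := hS.isP ⟨x, hx.1⟩
    have hkx : orderOf x ∣ p ^ k := orderOf_dvd_of_pow_eq_one (congrArg Subtype.val hk)
    obtain ⟨i, -, hi⟩ := (Nat.dvd_prime_pow hp.out).1 hkx
    have hi1 : 1 ≤ i := by
      by_contra h0
      rw [show i = 0 by omega, pow_zero, orderOf_eq_one_iff] at hi
      exact hx1 hi
    set z := x ^ p ^ (i - 1) with hz
    have hzp : z ^ p = 1 := by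
      rw [hz, ← pow_mul, ← pow_succ, show i - 1 + 1 = i by omega, ← hi, pow_orderOf_eq_one]
    have hz1 : z ≠ 1 := fun e1 => by
      have := orderOf_dvd_of_pow_eq_one e1
      rw [hi, Nat.pow_dvd_pow_iff_le_right hp.out.one_lt] at this
      omega
    have hzR : z ∈ R := pow_mem hx _
    have hxC' : x ∈ centralizer (E : Set G) :=
      mem_centralizer_iff.2 fun u hu => (mul_inv_eq_iff_eq_mul.1 (hxC u hu)).symm
    have hzE : z ∈ E := hE.max z (hRN hzR) (pow_mem hxC' _) hzp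
    have h2 : z ^ 2 = 1 := by
      have := hzR.2
      rw [hχE z hzE] at this
      rw [pow_two]
      exact inv_eq_iff_mul_eq_one.1 this
    have h3 : orderOf z ∣ Nat.gcd p 2 :=
      Nat.dvd_gcd (orderOf_dvd_of_pow_eq_one hzp) (orderOf_dvd_of_pow_eq_one h2)
    rw [(Nat.coprime_primes hp.out Nat.prime_two).2 hp2, Nat.dvd_one, orderOf_eq_one_iff] at h3
    exact hz1 h3
  have hRn : ∀ {x : G}, x ∈ R → x ∈ normalizer (E : Set G) := fun hx => hTn (hS.le (hRS hx))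
  have hRU : ∀ {x : G} (hx : x ∈ R), ν ⟨x, hRn hx⟩ ∈ U := fun hx => (hTmem.1 (hS.le (hRS hx))).2.2
  have hRinj : ∀ {x y : G} (hx : x ∈ R) (hy : y ∈ R), ν ⟨x, hRn hx⟩ = ν ⟨y, hRn hy⟩ → x = y := by
    intro x y hx hy hxy
    refine inv_mul_eq_one.1 (hRfree _ (mul_mem (inv_mem hx) hy) fun u hu => ?_)
    have h1 : x * u * x⁻¹ = y * u * y⁻¹ := congrArg (fun σ : MulAut E => ((σ ⟨u, hu⟩ : E) : G)) hxy
    calc x⁻¹ * y * u * (x⁻¹ * y)⁻¹ = x⁻¹ * (y * u * y⁻¹) * x := by group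
      _ = u := by rw [← h1]; group
  have hRcomm : ∀ {x y : G}, x ∈ R → y ∈ R → x * y = y * x := fun {x y} hx hy => by
    refine hRinj (mul_mem hx hy) (mul_mem hy hx) ?_
    rw [show (⟨x * y, _⟩ : normalizer (E : Set G)) = ⟨x, hRn hx⟩ * ⟨y, hRn hy⟩ from rfl,
      show (⟨y * x, _⟩ : normalizer (E : Set G)) = ⟨y, hRn hy⟩ * ⟨x, hRn hx⟩ from rfl, map_mul, map_mul]
    exact transvecSub_commute (hRU hx) (hRU hy)
  have hRpow : ∀ {x : G}, x ∈ R → x ^ p = 1 := fun {x} hx => by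
    refine hRinj (pow_mem hx p) (one_mem R) ?_
    rw [show (⟨x ^ p, _⟩ : normalizer (E : Set G)) = ⟨x, hRn hx⟩ ^ p from rfl, map_pow, hUpow _ (hRU hx)]
    exact (map_one ν).symm
  -- lifting the transvections
  have hlift : ∀ a : H, ∃ r : R, (r : G) * e * (r : G)⁻¹ = (e : G) * ((a : E) : G) := by
    intro a
    obtain ⟨σ, hσ, hσe⟩ := exists_transvec hEpow hHidx he a.2
    obtain ⟨t₀, ht₀N, ht₀n, ht₀⟩ := mem_autN.1 (hUA hσ)
    have hσ' : ν ⟨t₀, ht₀n⟩ = σ := MulEquiv.ext fun u => Subtype.ext (ht₀ u).symm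
    obtain ⟨s₀, hs₀, hs₀t⟩ := hcover (hTmem.2 ⟨ht₀N, ht₀n, by rw [hσ']; exact hσ⟩)
    let X : Subgroup S := (centralizer (E : Set G)).subgroupOf S
    obtain ⟨k, hkX, hk⟩ := exists_fixed_lift hS.isP σS hσSp (K := X)
      (fun y hy => mem_centralizer_iff.2 fun u hu => by
        have h1 := hinv hχE (hTn (hS.le y.2)) u hu
        rw [show (y : G) * u * (y : G)⁻¹ = u by
          rw [← mem_centralizer_iff.1 (show (y : G) ∈ centralizer (E : Set G) from hy) u hu,
            mul_inv_cancel_right]] at h1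
        show u * χ (y : G) = χ (y : G) * u
        exact (mul_inv_eq_iff_eq_mul.1 h1).symm)
      (x := ⟨s₀, hs₀⟩) (mem_centralizer_iff.2 fun u hu => by
        have h1 := hinv hχE (hTn (hS.le hs₀)) u hu
        show u * (s₀⁻¹ * χ s₀) = s₀⁻¹ * χ s₀ * u
        refine (mul_inv_eq_iff_eq_mul.1 ?_).symm
        calc s₀⁻¹ * χ s₀ * u * (s₀⁻¹ * χ s₀)⁻¹ = s₀⁻¹ * (χ s₀ * u * (χ s₀)⁻¹) * s₀ := by group
          _ = u := by rw [h1]; group)
    refine ⟨⟨s₀ * (k : G), mul_mem hs₀ k.2, (hσSapp _).symm.trans (congrArg Subtype.val hk)⟩, ?_⟩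
    show s₀ * (k : G) * e * (s₀ * (k : G))⁻¹ = _
    have h2 : (e : G) * (k : G) = (k : G) * e := mem_centralizer_iff.1 hkX (e : G) e.2
    rw [mul_inv_rev, ← mul_assoc, mul_assoc s₀ (k : G), ← h2, ← mul_assoc,
      mul_inv_cancel_right, hs₀t _ e.2, ← ht₀ e, ← hσe, Subgroup.coe_mul, Subgroup.coe_inv, mul_inv_cancel_left]
  choose r hr using hlift
  have hcardR : Nat.card H ≤ Nat.card R := by
    refine Nat.card_le_card_of_injective r fun a b hab => ?_
    have := hr a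
    rw [hab, hr b] at this
    exact Subtype.ext (Subtype.ext (mul_left_cancel this)).symm
  -- `H R` is too large
  set H' := H.map E.subtype with hH'
  have hH'E : H' ≤ E := map_subtype_le H
  have hHR : ∀ {x y : G}, x ∈ H' → y ∈ R → x * y = y * x := by
    rintro _ y ⟨x, hx, rfl⟩ hy
    have h1 := congrArg Subtype.val ((hRU hy).1 x hx)
    exact (mul_inv_eq_iff_eq_mul.1 (show y * (x : G) * y⁻¹ = x from h1)).symm
  let f : H' × R →* G :=
    MonoidHom.noncommCoprod H'.subtype R.subtype fun x y => hHR x.2 y.2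
  have hf : Function.Injective f := (injective_iff_map_eq_one f).2 fun ⟨x, y⟩ hxy => by
    have h1 : (x : G) * y = 1 := hxy
    have hy1 : (y : G) = 1 := hRfree _ y.2 fun u hu => by
      rw [eq_inv_of_mul_eq_one_right h1,
        show (x : G)⁻¹ * u = u * (x : G)⁻¹ from
          congrArg Subtype.val (mul_comm (⟨(x : G)⁻¹, inv_mem (hH'E x.2)⟩ : E) ⟨u, hu⟩), mul_inv_cancel_right]
    rw [hy1, mul_one] at h1
    exact Prod.ext (Subtype.ext h1) (Subtype.ext hy1)
  have hA := hmax f.range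
    (by
      rintro _ ⟨⟨x, y⟩, rfl⟩
      exact mul_mem (hE.le (hH'E x.2)) (hRN y.2))
    ⟨⟨by
      rintro ⟨_, a, rfl⟩ ⟨_, b, rfl⟩
      refine Subtype.ext ?_
      show f a * f b = f b * f a
      rw [← map_mul, ← map_mul]
      congr 1
      refine Prod.ext (Subtype.ext ?_) (Subtype.ext (hRcomm a.2.2 b.2.2))
      show (a.1 : G) * b.1 = b.1 * a.1
      exact congrArg Subtype.val (mul_comm (⟨_, hH'E a.1.2⟩ : E) ⟨_, hH'E b.1.2⟩)⟩⟩
    (by
      rintro _ ⟨a, rfl⟩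
      rw [← map_pow, show a ^ p = 1 from Prod.ext (Subtype.ext (by simpa using hE.pow _ (hH'E a.1.2)))
        (Subtype.ext (by simpa using hRpow a.2.2)), map_one])
  rw [← Nat.card_congr (MonoidHom.ofInjective hf).toEquiv, Nat.card_prod, hH',
    card_map_of_injective E.subtype_injective, hHcard, hn] at hA
  rw [hHcard] at hcardR
  have h1 := (Nat.mul_le_mul_left (p ^ (n - 1)) hcardR).trans hA
  rw [← pow_add, Nat.pow_le_pow_iff_right hp.out.one_lt] at h1
  omega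

end Cfsg.Agent.Homogeneous
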